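import Cfsg.Agent.H533.T5.Red
import Cfsg.Agent.H162.CC.Tools3
import Cfsg.Agent.H65.Disp.Rgd
import Cfsg.Agent.KFacts.RgdBorelTits
import Cfsg.Agent.Lib.NormalAbelian
import Cfsg.Agent.H400.LieLocal
import Cfsg.Agent.H460.Dgs
import Cfsg.Agent.KFacts.RgdFiltClass
import Cfsg.Agent.KFacts.RgdFiltChev
import Cfsg.Agent.KFacts.RgdFiltTwAll
import Cfsg.Agent.H818.StrP.Own
import Cfsg.Agent.KFacts.RgdAutFacts
import Mathlib
import Cfsg.Agent.H145.SLTwo
import Cfsg.Agent.H183.OutPSL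
import Cfsg.Agent.ClassicalGeometry.PSL2Basic
import Cfsg.Agent.H140.OreO.GLConj
import Cfsg.Agent.LieRecognition.ReeFinal
import Cfsg.Agent.S1073
import Cfsg.Agent.ChevStructure.FieldMap
import Cfsg.Agent.TwoFusion.SLTwoFacts
import Cfsg.Agent.H102.AAJtwo
import Cfsg.Agent.H478.RadTools_m3
import Cfsg.Agent.FixBN.OfBN
import Cfsg.Agent.FixBN.TwOfBN
import Cfsg.Agent.S0311
import Cfsg.Agent.S0320
import Cfsg.Agent.H740.Eight.TwFTwo
import Cfsg.Agent.H829.Pron.CharTwo
import Cfsg.Agent.KFacts.TwF4.SylU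
import Cfsg.Agent.KFacts.TwF4.CentR
import Cfsg.Agent.FixBN.Transport
import Cfsg.Agent.S1072
import Cfsg.Agent.H48.J3Three
import Cfsg.Agent.H235.AA.He_m3
import Cfsg.Prelude.Def_CaseTheorems
import Cfsg.Agent.H633.ElJ4
import Cfsg.Agent.H865.RhoEleven
import Cfsg.Agent.SevenCases.SporJ4
import Cfsg.Agent.S0365
import Cfsg.Agent.J4Type.DuadCent
import Cfsg.Agent.H813.RadCo1
import Cfsg.Agent.H525.RO.CoTf
import Cfsg.Agent.H341.Nxc.ON
import Cfsg.Agent.CpAut.SporThree.ON
import Cfsg.Agent.H680.ONThirtyOne_m3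
import Cfsg.Agent.J3.Fast
import Cfsg.Agent.H147.SzReal
import Cfsg.Agent.H859.Heis
import Cfsg.Agent.H109.NrOrb_m3
import Cfsg.Agent.H70.HeCoat
import Cfsg.Agent.H777.Th3.ThEl_m3
import Cfsg.Agent.H478.Th3C
import Cfsg.Agent.Lib.FastPerm
import Cfsg.Agent.H184.CC.Gen
import Cfsg.Agent.H830.Con22
import Cfsg.Agent.H816.Quasi
import Cfsg.Agent.R08.X4Gamma_m3
import Cfsg.Agent.CTwoTab.Fi22
import Cfsg.Agent.KFacts.FiTTh.Has
import Cfsg.Agent.S0377
import Cfsg.Agent.S1697
import Cfsg.Agent.H5.Ru.Row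
import Cfsg.Agent.H393.Iso.Ru
import Cfsg.Agent.H978.RadRu
import Cfsg.Agent.SporadicB.RuTits
import Cfsg.Agent.H235.TitsRow
import Cfsg.Agent.H371.PU.Base
import Cfsg.Agent.H933.TitsSep
import Cfsg.Agent.H184.StrTits
import Cfsg.Agent.FastGrp
import Cfsg.Agent.Prune
set_option linter.all false

section
prune_inst 0x7ff4bcf98db80ddedfff7e7fae99dffc38901fffa6dff94b7fe061ff0b9f030009c52b8d0de010fc0e56601410387853f97eeabfe26bdc7ff3fd1ff41ffbee0fa5e7b508519488340f380fff03f06f8a7f3fffffffffffffffffffffffffffbeffbdffffffff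

-- part: H162/CC/Bridge
section
prune_inst 0xa43022244b0002000018051660003856de000592006b0801d9e00f46068eff62ad032f21cce03f1a183aaa4c00300068115400d0021000c004000400411901a080aa5206b348a10c67000f80b107580c00000000000000000000000000041004000000000
set_option linter.all false
open scoped Cfsg.Agent.FastGrp

-- part: H533/Comm/Defs
section
/-!
# Commutator closed normal sets of `p`-elements (S3828): the minimal configuration

`CSet p C` : `C` is a normal set of `p`-elements closed under commutators (and, for `p = 5`, under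
squares).  `Iso p G C` : moreover `C` has a non-trivial element and every proper subgroup `H` has
`C ∩ H ⊆ O_p(H)`.  The statement S3828 is reduced in `Comm/Red.lean` to: a finite non-abelian
simple group has no `C` with `Iso p G C`.

Tools ("kills") for an `Iso p G C` in a finite simple group `G`:

* `Iso.two` / `Iso.two_sylow` : a non-trivial element of `C` (a Sylow `p`-subgroup) is not
  contained in two proper subgroups generating `G`;
* `Iso.index_kill` : no proper subgroup of index prime to `p` has trivial `p`-core;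
* `Iso.centralizes` : elements of `C` centralise the `p'`-subgroups which they normalise;
* `Iso.eq_one_of_normalizes` : in a group of local characteristic `r ≠ p` an element of `C`
  normalising a non-trivial `r`-subgroup is trivial;
* `Iso.triple_kill` : in a group of local characteristic `r ≠ p` no `r`-element `g ≠ 1` has
  `g, c⁻¹ g c, c⁻² g c²` in a common `r`-subgroup, `1 ≠ c ∈ C`;
* `Iso.fix_commute` : the three point argument;
* `Iso.no_involution`.
-/

set_option autoImplicit false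
set_option linter.unusedSectionVars false
set_option linter.unusedVariables false

namespace Cfsg.Agent.H533.Comm

universe u v

open Subgroup Cfsg

open scoped Pointwise

/-- Normal sets of `p`-elements closed under commutators (and squares if `p = 5`). -/
structure CSet (p : ℕ) {G : Type u} [Group G] (C : Set G) : Prop where
  conj : ∀ g : G, ∀ c ∈ C, g * c * g⁻¹ ∈ C
  pel : ∀ c ∈ C, ∃ k : ℕ, orderOf c = p ^ k
  comm : ∀ c ∈ C, ∀ d ∈ C, c⁻¹ * d⁻¹ * c * d ∈ C
  sq : p = 5 → ∀ c ∈ C, c ^ 2 ∈ C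

/-- The minimal configuration. -/
structure Iso (p : ℕ) (G : Type u) [Group G] (C : Set G) : Prop extends CSet p C where
  ne : ∃ c ∈ C, c ≠ 1
  core : ∀ H : Subgroup G, H ≠ ⊤ → ∀ (c : G) (hc : c ∈ H), c ∈ C → (⟨c, hc⟩ : H) ∈ pCore p H

/-- The row: a group without minimal configuration for the prime `p`. -/
def CRow (p : ℕ) (G : Type u) [Group G] : Prop := ∀ C : Set G, ¬ Iso p G C

variable {G : Type u} [Group G] {p : ℕ} {C : Set G}

theorem CSet.isPGroup_zpowers [Fact p.Prime] (h : CSet p C) {c : G} (hc : c ∈ C) :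
    IsPGroup p ↥(Subgroup.zpowers c) := by
  obtain ⟨k, hk⟩ := h.pel c hc
  exact IsPGroup.of_card (n := k) (by rw [Nat.card_zpowers, hk])

theorem CSet.eq_one_of_coprime [Fact p.Prime] (h : CSet p C) {c : G} (hc : c ∈ C) {r : ℕ}
    (hr : r.Prime) (hrp : r ≠ p) {k : ℕ} (hk : c ^ r ^ k = 1) : c = 1 := by
  obtain ⟨j, hj⟩ := h.pel c hc
  have h1 : orderOf c ∣ r ^ k := orderOf_dvd_of_pow_eq_one hk
  rw [hj] at h1
  have h2 : (p ^ j).Coprime (r ^ k) :=
    Nat.Coprime.pow j k ((Nat.coprime_primes Fact.out hr).mpr hrp.symm)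
  have h3 := h2.eq_one_of_dvd h1
  rw [← hj, orderOf_eq_one_iff] at h3
  exact h3

theorem CSet.conj' (h : CSet p C) (g : G) {c : G} (hc : c ∈ C) : g⁻¹ * c * g ∈ C := by
  simpa using h.conj g⁻¹ c hc

section core

theorem Iso.mem_map (h : Iso p G C) {H : Subgroup G} (hH : H ≠ ⊤) {c : G} (hc : c ∈ C)
    (hcH : c ∈ H) : c ∈ (pCore p H).map H.subtype :=
  ⟨⟨c, hcH⟩, h.core H hH c hcH hc, rfl⟩

theorem isPGroup_map_core {G : Type u} [Group G] {p : ℕ} (H : Subgroup G) :
    IsPGroup p ↥((pCore p H).map H.subtype) :=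
  (Cfsg.Agent.Lib.Cores.pCore_isPGroup p).map _

theorem Iso.isPGroup_closure (h : Iso p G C) {H : Subgroup G} (hH : H ≠ ⊤) :
    IsPGroup p ↥(Subgroup.closure (C ∩ (H : Set G))) := by
  refine (isPGroup_map_core (p := p) H).to_le ?_
  rw [Subgroup.closure_le]
  rintro c ⟨hc, hcH⟩
  exact h.mem_map hH hc hcH

end core

section simple

variable [Finite G] [IsSimpleGroup G] [Fact p.Prime]

theorem not_isPGroup_of_simple (hna : ¬ IsMulCommutative G) : ¬ IsPGroup p G := by
  intro hP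
  have h2 : Nontrivial (Subgroup.center G) := hP.center_nontrivial
  rw [T5.center_eq_bot_of_simple hna] at h2
  exact (not_subsingleton_iff_nontrivial.mpr h2) inferInstance

theorem ne_top_of_isPGroup (hna : ¬ IsMulCommutative G) {K : Subgroup G} (hK : IsPGroup p K) :
    K ≠ ⊤ := by
  rintro rfl
  exact not_isPGroup_of_simple (p := p) hna (hK.of_equiv Subgroup.topEquiv)

/-- The normaliser of a nontrivial `p`-subgroup is proper. -/
theorem normalizer_ne_top (hna : ¬ IsMulCommutative G) {K : Subgroup G} (hK : IsPGroup p K)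
    (hK1 : K ≠ ⊥) : Subgroup.normalizer (K : Set G) ≠ ⊤ := by
  intro htop
  have hn : K.Normal := Subgroup.normalizer_eq_top_iff.mp htop
  rcases hn.eq_bot_or_eq_top with h | h
  · exact hK1 h
  · exact ne_top_of_isPGroup hna hK h

theorem closure_ne_bot {E : Set G} {c : G} (hc : c ∈ E) (hc1 : c ≠ 1) :
    Subgroup.closure E ≠ ⊥ := by
  intro h
  apply hc1
  have h1 : c ∈ Subgroup.closure E := Subgroup.subset_closure hc
  rwa [h, Subgroup.mem_bot] at h1

theorem mem_smul_sylow {P : Sylow p G} {g x : G} :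
    x ∈ ((g • P : Sylow p G) : Set G) ↔ g⁻¹ * x * g ∈ (P : Set G) := by
  have h1 : x ∈ ((g • P : Sylow p G) : Subgroup G) ↔ x ∈ MulAut.conj g • (P : Subgroup G) := Iff.rfl
  change x ∈ ((g • P : Sylow p G) : Subgroup G) ↔ g⁻¹ * x * g ∈ (P : Subgroup G)
  rw [h1, Subgroup.mem_pointwise_smul_iff_inv_smul_mem, ← map_inv, MulAut.smul_def,
    MulAut.conj_apply, inv_inv]

theorem ncard_inter_sylow (hconj : ∀ g : G, ∀ c ∈ C, g * c * g⁻¹ ∈ C) (P Q : Sylow p G) :
    (C ∩ (P : Set G)).ncard = (C ∩ (Q : Set G)).ncard := by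
  obtain ⟨g, rfl⟩ := MulAction.exists_smul_eq G P Q
  refine Set.ncard_congr (fun x _ => g * x * g⁻¹) ?_ ?_ ?_
  · rintro x ⟨hx, hxP⟩
    refine ⟨hconj g x hx, ?_⟩
    rw [mem_smul_sylow]
    have : g⁻¹ * (g * x * g⁻¹) * g = x := by group
    rwa [this]
  · rintro x y _ _ hxy
    exact mul_left_cancel (mul_right_cancel hxy)
  · rintro x ⟨hx, hxQ⟩
    rw [mem_smul_sylow] at hxQ
    refine ⟨g⁻¹ * x * g, ⟨by simpa using hconj g⁻¹ x hx, hxQ⟩, by group⟩

/-- Two Sylow subgroups sharing a nontrivial element of `C` have the same intersection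
with `C`. -/
theorem Iso.inter_sylow_eq (h : Iso p G C) (hna : ¬ IsMulCommutative G) :
    ∀ (n : ℕ) (P Q : Sylow p G), Nat.card G ≤ n + (C ∩ (P : Set G) ∩ (Q : Set G)).ncard →
      (∃ c ∈ C, c ≠ 1 ∧ c ∈ P ∧ c ∈ Q) → C ∩ (P : Set G) = C ∩ (Q : Set G) := by
  intro n
  induction n with
  | zero =>
    intro P Q hle _
    have hfin : (Set.univ : Set G).Finite := Set.toFinite _
    have h1 : (C ∩ (P : Set G) ∩ (Q : Set G)) = Set.univ := by
      apply Set.eq_of_subset_of_ncard_le (Set.subset_univ _)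
      rw [Set.ncard_univ]; omega
    have h2 : C ∩ (P : Set G) = Set.univ :=
      Set.univ_subset_iff.mp (h1 ▸ Set.inter_subset_left)
    have h3 : (C ∩ (Q : Set G)) = Set.univ := by
      rw [Set.eq_univ_iff_forall] at h1 ⊢
      exact fun x => ⟨(h1 x).1.1, (h1 x).2⟩
    rw [h2, h3]
  | succ n ih =>
    rintro P Q hle ⟨c, hc, hc1, hcP, hcQ⟩
    by_contra hne
    set E : Set G := C ∩ (P : Set G) ∩ (Q : Set G) with hE
    have hcE : c ∈ E := ⟨⟨hc, hcP⟩, hcQ⟩
    have hEsub : ∀ (R : Sylow p G), E ⊆ (R : Set G) →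
        C ∩ (Subgroup.closure E : Set G) ⊆ (R : Set G) := by
      intro R hR x hx
      have : Subgroup.closure E ≤ (R : Subgroup G) := (Subgroup.closure_le _).mpr hR
      exact this hx.2
    have hEP : E ⊆ (P : Set G) := fun x hx => hx.1.2
    have hEQ : E ⊆ (Q : Set G) := fun x hx => hx.2
    have hEeq : C ∩ (Subgroup.closure E : Set G) = E := by
      apply Set.Subset.antisymm
      · intro x hx
        exact ⟨⟨hx.1, hEsub P hEP hx⟩, hEsub Q hEQ hx⟩
      · intro x hx
        exact ⟨hx.1.1, Subgroup.subset_closure hx⟩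
    have hcard := ncard_inter_sylow (p := p) h.conj P Q
    have hfin : ∀ S : Set G, S.Finite := fun S => Set.toFinite S
    have hPne : E ⊂ C ∩ (P : Set G) := by
      refine lt_of_le_of_ne Set.inter_subset_left ?_
      intro heq
      apply hne
      apply Set.eq_of_subset_of_ncard_le _ hcard.symm.le (hfin _)
      intro x hx
      have : x ∈ E := heq ▸ hx
      exact ⟨this.1.1, this.2⟩
    have hQne : E ⊂ C ∩ (Q : Set G) := by
      refine lt_of_le_of_ne (fun x hx => ⟨hx.1.1, hx.2⟩) ?_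
      intro heq
      apply hne
      symm
      apply Set.eq_of_subset_of_ncard_le _ hcard.le (hfin _)
      intro x hx
      have : x ∈ E := heq ▸ hx
      exact this.1
    obtain ⟨x, hx, hxP, hxE, hxN⟩ :=
      Cfsg.Agent.Involutions.BaerSuzuki.exists_mem_normalizer_closure (p := p) h.conj
        P.isPGroup' hEeq hPne
    obtain ⟨y, hy, hyQ, hyE, hyN⟩ :=
      Cfsg.Agent.Involutions.BaerSuzuki.exists_mem_normalizer_closure (p := p) h.conj
        Q.isPGroup' hEeq hQne
    -- the normaliser of `⟨E⟩`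
    have hEp : IsPGroup p ↥(Subgroup.closure E) :=
      P.isPGroup'.to_le ((Subgroup.closure_le _).mpr hEP)
    have hN := normalizer_ne_top hna hEp (closure_ne_bot hcE hc1)
    set N := Subgroup.normalizer ((Subgroup.closure E : Subgroup G) : Set G) with hNdef
    obtain ⟨R, hR⟩ := (h.isPGroup_closure hN).exists_le_sylow
    have hER : E ⊆ (R : Set G) := by
      intro z hz
      apply hR
      refine Subgroup.subset_closure ⟨hz.1.1, ?_⟩
      exact Subgroup.le_normalizer (Subgroup.subset_closure hz)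
    have hxR : x ∈ (R : Subgroup G) := hR (Subgroup.subset_closure ⟨hx, hxN⟩)
    have hyR : y ∈ (R : Subgroup G) := hR (Subgroup.subset_closure ⟨hy, hyN⟩)
    have hgrow : ∀ (S : Sylow p G) (z : G), z ∈ C → z ∈ (S : Subgroup G) → z ∉ E →
        z ∈ (R : Subgroup G) → E ⊆ (S : Set G) → C ∩ (S : Set G) = C ∩ (R : Set G) := by
      intro S z hz hzS hzE hzR hES
      refine ih S R ?_ ⟨c, hc, hc1, hES hcE, hER hcE⟩
      have hlt : E.ncard < (C ∩ (S : Set G) ∩ (R : Set G)).ncard := by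
        apply Set.ncard_lt_ncard _ (hfin _)
        refine ⟨fun w hw => ⟨⟨hw.1.1, hES hw⟩, hER hw⟩, fun hsub => hzE (hsub ⟨⟨hz, hzS⟩, hzR⟩)⟩
      omega
    apply hne
    rw [hgrow P x hx hxP hxE hxR hEP, hgrow Q y hy hyQ hyE hyR hEQ]

/-- The maximal subgroup belonging to a Sylow subgroup. -/
def maxl (C : Set G) (P : Sylow p G) : Subgroup G :=
  Subgroup.normalizer ((Subgroup.closure (C ∩ (P : Set G)) : Subgroup G) : Set G)

theorem Iso.maxl_ne_top (h : Iso p G C) (hna : ¬ IsMulCommutative G) {P : Sylow p G} {c : G}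
    (hc : c ∈ C) (hc1 : c ≠ 1) (hcP : c ∈ P) : maxl C P ≠ ⊤ := by
  refine normalizer_ne_top (p := p) hna (P.isPGroup'.to_le ?_) (closure_ne_bot ⟨hc, hcP⟩ hc1)
  rw [Subgroup.closure_le]
  exact Set.inter_subset_right

theorem Iso.sylow_le_maxl (h : Iso p G C) (P : Sylow p G) : (P : Subgroup G) ≤ maxl C P := by
  intro x hx
  refine Subgroup.mem_normalizer_fintype ?_
  intro y hy
  have h1 : Subgroup.closure (C ∩ (P : Set G))
      ≤ (Subgroup.closure (C ∩ (P : Set G))).comap (MulAut.conj x).toMonoidHom := by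
    rw [Subgroup.closure_le]
    rintro z ⟨hz, hzP⟩
    change MulAut.conj x z ∈ Subgroup.closure (C ∩ (P : Set G))
    rw [MulAut.conj_apply]
    exact Subgroup.subset_closure ⟨h.conj x z hz,
      (P : Subgroup G).mul_mem ((P : Subgroup G).mul_mem hx hzP) ((P : Subgroup G).inv_mem hx)⟩
  exact h1 hy

/-- Every proper subgroup containing a nontrivial element `c` of `C ∩ P` lies in `maxl C P`. -/
theorem Iso.le_maxl (h : Iso p G C) (hna : ¬ IsMulCommutative G) {P : Sylow p G} {c : G}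
    (hc : c ∈ C) (hc1 : c ≠ 1) (hcP : c ∈ P) {H : Subgroup G} (hH : H ≠ ⊤) (hcH : c ∈ H) :
    H ≤ maxl C P := by
  intro x hx
  -- a Sylow subgroup containing `O_p(H)`
  obtain ⟨Q, hQ⟩ := (isPGroup_map_core (p := p) H).exists_le_sylow
  have hcQ : c ∈ (Q : Subgroup G) := hQ (h.mem_map hH hc hcH)
  have hxc : x * c * x⁻¹ ∈ H := mul_mem (mul_mem hx hcH) (inv_mem hx)
  have hxcQ : x * c * x⁻¹ ∈ (Q : Subgroup G) := hQ (h.mem_map hH (h.conj x c hc) hxc)
  have hxc1 : x * c * x⁻¹ ≠ 1 := by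
    intro hcon
    apply hc1
    have : c = x⁻¹ * (x * c * x⁻¹) * x := by group
    rw [this, hcon]; group
  have e1 : C ∩ (P : Set G) = C ∩ (Q : Set G) :=
    h.inter_sylow_eq hna (Nat.card G) P Q (Nat.le_add_right _ _) ⟨c, hc, hc1, hcP, hcQ⟩
  have e2 : C ∩ ((x • P : Sylow p G) : Set G) = C ∩ (Q : Set G) := by
    refine h.inter_sylow_eq hna (Nat.card G) (x • P) Q (Nat.le_add_right _ _)
      ⟨x * c * x⁻¹, h.conj x c hc, hxc1, ?_, hxcQ⟩
    change x * c * x⁻¹ ∈ ((x • P : Sylow p G) : Set G)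
    rw [mem_smul_sylow]
    have : x⁻¹ * (x * c * x⁻¹) * x = c := by group
    rw [this]
    exact hcP
  refine Subgroup.mem_normalizer_fintype ?_
  intro y hy
  have h1 : Subgroup.closure (C ∩ (P : Set G))
      ≤ (Subgroup.closure (C ∩ (P : Set G))).comap (MulAut.conj x).toMonoidHom := by
    rw [Subgroup.closure_le]
    rintro z ⟨hz, hzP⟩
    change MulAut.conj x z ∈ Subgroup.closure (C ∩ (P : Set G))
    rw [MulAut.conj_apply]
    have h2 : x * z * x⁻¹ ∈ C ∩ ((x • P : Sylow p G) : Set G) := by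
      refine ⟨h.conj x z hz, ?_⟩
      rw [mem_smul_sylow]
      have : x⁻¹ * (x * z * x⁻¹) * x = z := by group
      rwa [this]
    rw [e2, ← e1] at h2
    exact Subgroup.subset_closure h2
  exact h1 hy

theorem CSet.exists_sylow (h : CSet p C) {c : G} (hc : c ∈ C) : ∃ P : Sylow p G, c ∈ P := by
  obtain ⟨P, hP⟩ := (h.isPGroup_zpowers hc).exists_le_sylow
  exact ⟨P, hP (Subgroup.mem_zpowers c)⟩

/-- Two proper subgroups with a common nontrivial element of `C` do not generate `G`. -/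
theorem Iso.two (h : Iso p G C) (hna : ¬ IsMulCommutative G) {c : G} (hc : c ∈ C) (hc1 : c ≠ 1)
    {H₁ H₂ : Subgroup G} (h₁ : H₁ ≠ ⊤) (h₂ : H₂ ≠ ⊤) (hc₁ : c ∈ H₁) (hc₂ : c ∈ H₂) :
    H₁ ⊔ H₂ ≠ ⊤ := by
  obtain ⟨P, hP⟩ := h.exists_sylow hc
  intro htop
  apply h.maxl_ne_top hna hc hc1 hP
  rw [eq_top_iff, ← htop]
  exact sup_le (h.le_maxl hna hc hc1 hP h₁ hc₁) (h.le_maxl hna hc hc1 hP h₂ hc₂)

/-- Every Sylow subgroup contains a nontrivial element of `C`. -/
theorem Iso.exists_mem_sylow (h : Iso p G C) (P : Sylow p G) : ∃ c ∈ C, c ≠ 1 ∧ c ∈ P := by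
  obtain ⟨c, hc, hc1⟩ := h.ne
  obtain ⟨Q, hQ⟩ := h.exists_sylow hc
  obtain ⟨g, rfl⟩ := MulAction.exists_smul_eq G P Q
  refine ⟨g⁻¹ * c * g, h.conj' g hc, ?_, ?_⟩
  · intro hcon
    apply hc1
    have : c = g * (g⁻¹ * c * g) * g⁻¹ := by group
    rw [this, hcon]; group
  · exact mem_smul_sylow.mp hQ

/-- Elements of `C` in a proper subgroup with trivial `p`-core are trivial. -/
theorem Iso.core_kill (h : Iso p G C) {H : Subgroup G} (hH : H ≠ ⊤) (hcore : pCore p H = ⊥)
    {c : G} (hc : c ∈ C) (hcH : c ∈ H) : c = 1 := by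
  have h1 := h.core H hH c hcH hc
  rw [hcore, Subgroup.mem_bot] at h1
  exact congrArg Subtype.val h1

/-- Elements of `C` centralise the `p'`-subgroups which they normalise. -/
theorem Iso.centralizes (h : Iso p G C) (hna : ¬ IsMulCommutative G) {c : G} (hc : c ∈ C)
    {R : Subgroup G} (hR : (Nat.card R).Coprime p) (hcR : c ∈ Subgroup.normalizer (R : Set G)) :
    ∀ x ∈ R, x * c = c * x := by
  by_cases hR1 : R = ⊥
  · intro x hx
    rw [hR1, Subgroup.mem_bot] at hx
    rw [hx, one_mul, mul_one]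
  by_cases hRn : R.Normal
  · -- then `R = ⊤` and `c = 1`
    rcases hRn.eq_bot_or_eq_top with hb | hb
    · exact absurd hb hR1
    · intro x _
      have h1 : c = 1 := by
        obtain ⟨k, hk⟩ := h.pel c hc
        have h2 : orderOf c ∣ Nat.card G := orderOf_dvd_natCard c
        rw [hb, Subgroup.card_top] at hR
        rw [hk] at h2
        have h3 : p ^ k = 1 := (hR.symm.pow_left k).eq_one_of_dvd h2
        rw [h3, orderOf_eq_one_iff] at hk
        exact hk
      rw [h1, one_mul, mul_one]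
  · have hN : Subgroup.normalizer (R : Set G) ≠ ⊤ :=
      fun htop => hRn (Subgroup.normalizer_eq_top_iff.mp htop)
    set N := Subgroup.normalizer (R : Set G) with hNdef
    intro x hx
    have hxN : x ∈ N := Subgroup.le_normalizer hx
    have h1 := h.core N hN c hcR hc
    have hn := Cfsg.Agent.Lib.Cores.pCore_normal (G := N) p
    -- the commutator lies in `R` and in `O_p(N)`
    have h2 : (⟨x, hxN⟩ : N) * ⟨c, hcR⟩ * (⟨x, hxN⟩ : N)⁻¹ * (⟨c, hcR⟩ : N)⁻¹ ∈ pCore p N :=
      mul_mem (hn.conj_mem _ h1 _) (inv_mem h1)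
    have h3 : x * (c * x⁻¹ * c⁻¹) ∈ R :=
      R.mul_mem hx (((Subgroup.mem_normalizer_iff.mp hcR) x⁻¹).mp (R.inv_mem hx))
    have h4 : x * c * x⁻¹ * c⁻¹ ∈ (pCore p N).map N.subtype := ⟨_, h2, rfl⟩
    have h5 : x * c * x⁻¹ * c⁻¹ = x * (c * x⁻¹ * c⁻¹) := by group
    rw [← h5] at h3
    obtain ⟨j, hj⟩ := (IsPGroup.iff_orderOf.mp (isPGroup_map_core (p := p) N)) ⟨_, h4⟩
    rw [Subgroup.orderOf_mk] at hj
    have h6 : orderOf (x * c * x⁻¹ * c⁻¹) ∣ Nat.card R := by
      have := orderOf_dvd_natCard (⟨_, h3⟩ : R)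
      rwa [Subgroup.orderOf_mk] at this
    rw [hj] at h6
    have h7 : p ^ j = 1 := (hR.symm.pow_left j).eq_one_of_dvd h6
    rw [h7, orderOf_eq_one_iff] at hj
    have h8 : x * c = x * c * x⁻¹ * c⁻¹ * (c * x) := by group
    rw [h8, hj, one_mul]

/-- In a group of local characteristic `r ≠ p` the elements of `C` normalise no nontrivial
`r`-subgroup. -/
theorem Iso.eq_one_of_normalizes (h : Iso p G C) (hna : ¬ IsMulCommutative G) {r : ℕ}
    [Fact r.Prime] (hrp : r ≠ p)
    (hloc : ∀ K : Subgroup G, IsPGroup r ↥K → K ≠ ⊥ →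
      centralizer (pCore r ↥(normalizer (K : Set G)) : Set ↥(normalizer (K : Set G))) ≤
        pCore r ↥(normalizer (K : Set G))) {c : G} (hc : c ∈ C) {R : Subgroup G}
    (hR : IsPGroup r R) (hR1 : R ≠ ⊥) (hcR : c ∈ Subgroup.normalizer (R : Set G)) : c = 1 := by
  have hN := normalizer_ne_top hna hR hR1
  set N := Subgroup.normalizer (R : Set G) with hNdef
  -- `O_r(N)` is normalised, hence centralised by `c`
  have hcore : ∀ x ∈ (pCore r N).map N.subtype, x * c = c * x := by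
    refine h.centralizes hna hc ?_ ?_
    · obtain ⟨k, hk⟩ := IsPGroup.iff_card.mp (isPGroup_map_core (p := r) N)
      rw [hk]
      exact Nat.Coprime.pow_left k ((Nat.coprime_primes Fact.out Fact.out).mpr hrp)
    · refine Subgroup.mem_normalizer_fintype ?_
      rintro _ ⟨x, hx, rfl⟩
      exact ⟨(⟨c, hcR⟩ * x * ⟨c, hcR⟩⁻¹ :),
        (Cfsg.Agent.Lib.Cores.pCore_normal (G := N) r).conj_mem x hx _, rfl⟩
  have h1 : (⟨c, hcR⟩ : N) ∈ centralizer (pCore r ↥N : Set ↥N) := by
    rw [Subgroup.mem_centralizer_iff]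
    intro x hx
    exact Subtype.ext (hcore x ⟨x, hx, rfl⟩)
  have h2 : (⟨c, hcR⟩ : N) ∈ pCore r N := hloc R hR hR1 h1
  obtain ⟨k, hk⟩ := (Cfsg.Agent.Lib.Cores.pCore_isPGroup (G := N) r) ⟨_, h2⟩
  have h3 : c ^ r ^ k = 1 := by
    have := congrArg (fun z : pCore r N => ((z : N) : G)) hk
    simpa using this
  exact h.eq_one_of_coprime hc Fact.out hrp h3

/-- A nontrivial element of `C` and an element outside its maximal subgroup generate `G`. -/
theorem Iso.closure_eq_top (h : Iso p G C) (hna : ¬ IsMulCommutative G) {P : Sylow p G} {c y : G}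
    (hc : c ∈ C) (hc1 : c ≠ 1) (hcP : c ∈ P) (hy : y ∉ maxl C P) :
    Subgroup.closure ({c, y} : Set G) = ⊤ := by
  by_contra hne
  exact hy (h.le_maxl hna hc hc1 hcP hne (Subgroup.subset_closure (by simp))
    (Subgroup.subset_closure (by simp)))

/-- `C` contains no involutions. -/
theorem Iso.no_involution (h : Iso p G C) (hna : ¬ IsMulCommutative G) {c : G} (hc : c ∈ C)
    (hc1 : c ≠ 1) : c * c ≠ 1 := by
  intro hcc
  obtain ⟨P, hP⟩ := h.exists_sylow hc
  have hM := h.maxl_ne_top hna hc hc1 hP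
  -- a conjugate outside the maximal subgroup
  obtain ⟨g, hg⟩ : ∃ g : G, g * c * g⁻¹ ∉ maxl C P := by
    by_contra hcon
    push Not at hcon
    apply hM
    have hn : (Subgroup.normalClosure {c} : Subgroup G) ≤ maxl C P := by
      rw [Subgroup.normalClosure, Subgroup.closure_le]
      intro x hx
      obtain ⟨a, ha, hax⟩ := Group.mem_conjugatesOfSet_iff.mp hx
      rw [Set.mem_singleton_iff] at ha
      subst ha
      obtain ⟨b, rfl⟩ := isConj_iff.mp hax
      exact hcon b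
    have hnn : (Subgroup.normalClosure {c} : Subgroup G).Normal := Subgroup.normalClosure_normal
    rcases hnn.eq_bot_or_eq_top with hb | hb
    · exfalso
      apply hc1
      have : c ∈ (Subgroup.normalClosure {c} : Subgroup G) := Subgroup.subset_normalClosure rfl
      rwa [hb, Subgroup.mem_bot] at this
    · rw [eq_top_iff, ← hb]
      exact hn
  set y : G := g * c * g⁻¹ with hy
  have hyy : y * y = 1 := by
    have : y * y = g * (c * c) * g⁻¹ := by rw [hy]; group
    rw [this, hcc]; group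
  clear_value y
  have htop := h.closure_eq_top hna hc hc1 hP hg
  have hcinv : c⁻¹ = c := inv_eq_of_mul_eq_one_left hcc
  have hyinv : y⁻¹ = y := inv_eq_of_mul_eq_one_left hyy
  -- `⟨c y⟩` is normal
  have hn : (Subgroup.zpowers (c * y)).Normal := by
    rw [← Subgroup.normalizer_eq_top_iff, eq_top_iff, ← htop, Subgroup.closure_le]
    have key : ∀ z : G, z * (c * y) * z⁻¹ = (c * y)⁻¹ →
        z ∈ Subgroup.normalizer ((Subgroup.zpowers (c * y) : Subgroup G) : Set G) := by
      intro z hz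
      refine Subgroup.mem_normalizer_fintype ?_
      intro x hx
      obtain ⟨i, rfl⟩ := Subgroup.mem_zpowers_iff.mp hx
      have : z * (c * y) ^ i * z⁻¹ = ((c * y)⁻¹) ^ i := by rw [← hz, conj_zpow]
      rw [this]
      exact zpow_mem (inv_mem (Subgroup.mem_zpowers _)) i
    rintro z (rfl | rfl)
    · apply key
      rw [mul_inv_rev, hyinv, hcinv, ← mul_assoc, hcc, one_mul]
    · apply key
      rw [mul_inv_rev, hyinv, hcinv, mul_assoc, mul_assoc, hyy, mul_one]
  rcases hn.eq_bot_or_eq_top with hb | hb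
  · rw [Subgroup.zpowers_eq_bot] at hb
    apply hg
    have : y = c := by
      rw [← hcinv]
      exact (inv_eq_of_mul_eq_one_right hb).symm
    rw [this]
    exact h.sylow_le_maxl P hP
  · apply hna
    refine ⟨⟨fun a b => ?_⟩⟩
    have ha : a ∈ Subgroup.zpowers (c * y) := by rw [hb]; exact Subgroup.mem_top a
    have hb' : b ∈ Subgroup.zpowers (c * y) := by rw [hb]; exact Subgroup.mem_top b
    obtain ⟨i, rfl⟩ := Subgroup.mem_zpowers_iff.mp ha
    obtain ⟨j, rfl⟩ := Subgroup.mem_zpowers_iff.mp hb'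
    rw [← zpow_add, ← zpow_add, add_comm]

end simple

end Cfsg.Agent.H533.Comm
end

-- part: H162/CC/Bridge
section
/-!
# The two forms of the row (helper162, S3828)

`CRow` of `H162/CC/Iface` and `CRow` of `H533/Comm/Defs` are equivalent.
-/

set_option autoImplicit false

namespace Cfsg.Agent.H162.CCR

variable {G : Type*} [Group G] {p : ℕ}

theorem CRow.of_comm (h : Cfsg.Agent.H533.Comm.CRow p G) : CRow p G := by
  intro C hC c hc
  by_contra hc1
  exact h C ⟨⟨hC.conj, hC.pel, hC.comm, hC.sq⟩, ⟨c, hc, hc1⟩, fun H hH c hc hcC => hC.loc H hH c hcC hc⟩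

end Cfsg.Agent.H162.CCR
end
end

-- part: H162/CC/LieRows_mg
section
prune_inst 0x200004000000100000000000000000000000000000000000000000000000840000000000002020020020000000000000000000000000000000000000000004010000000010400000000000000000000000000000000000000000000000000000200000000
set_option linter.all false
open scoped Cfsg.Agent.FastGrp

-- part: H162/CC/Dom
section
/-!
# A dominant root with central elements (helper162, S3828)

`R : RGD cs h p T n X` with a filtration `F`.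
* `exists_threshold` : the smallest `s` with `F x s ≠ 1`;
* `exists_dom` : a positive dominant root `x` and `u ∈ X x`, `u ≠ 1`, commuting with all positive root groups;
* `full_support`, `exists_lt_coeff`, `exists_word` : for a connected diagram not of type `A₂` there is a list `ω` of all
  the nodes, without repetitions, with `0 ≤ w⁻¹ x`, `w` the product of the simple reflections in this order.
-/

set_option autoImplicit false
set_option linter.unusedSectionVars false

namespace Cfsg.Agent.H162.CCR.Dom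

open CoxeterSystem Cfsg.Agent.ChevalleyStructure.CoxeterGeom Cfsg.Agent.Tits.Roots Cfsg.Agent.Tits.Core
  Cfsg.Agent.Tits.RootComb Cfsg.Agent.Tits.Exchange Cfsg.Agent.Nodes.Reps Cfsg.Agent.Nodes.BNOf
  Cfsg.Agent.Nodes.StabComb Cfsg.Agent.Nodes.Bruhat Cfsg.Agent.Nodes.OppDec Cfsg.Agent.Nodes.LeviDec
  Cfsg.Agent.KFacts.RgdBorelTits

open scoped commutatorElement

variable {I W Y : Type*} [Fintype I] [DecidableEq I] [Group W] [Group Y] {M : CoxeterMatrix I}
  {cs : CoxeterSystem M W} {A : I → I → ℤ} {h : IsCartan M A} {p : ℕ} {T : Subgroup Y} {n : I → Y}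
  {X : (I → ℤ) → Subgroup Y}

section Thr

variable {R : RGD cs h p T n X} {F : (I → ℤ) → ℝ → Subgroup Y} (hF : Filt R F)

/-- the threshold -/
noncomputable def thr (F : (I → ℤ) → ℝ → Subgroup Y) (x : I → ℤ) : ℝ := sInf {s | F x s ≠ ⊥}

include hF in
theorem exists_threshold [Finite Y] {x : I → ℤ} (hx : IsRoot cs h x) :
    0 < thr F x ∧ F x (thr F x) ≠ ⊥ ∧ ∀ t, t < thr F x → F x t = ⊥ := by
  have hne : {s | F x s ≠ ⊥}.Nonempty := by
    obtain ⟨C, -, hC⟩ := hF.full
    exact ⟨C, fun h0 => X_ne_bot R hx (le_bot_iff.1 ((hC x C hx le_rfl).trans h0.le))⟩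
  have hbdd : BddBelow {s | F x s ≠ ⊥} := ⟨0, fun s hs => by
    by_contra hlt
    exact hs (hF.neg x s hx (not_le.1 hlt).le)⟩
  have hclosed : IsClosed {s | F x s ≠ ⊥} := by
    have e : {s | F x s ≠ ⊥} = ⋃ u ∈ {u : Y | u ≠ 1}, {s | u ∈ F x s} := by
      ext s
      simp only [Set.mem_ofPred_eq, Set.mem_iUnion]
      constructor
      · intro hs
        obtain ⟨u, hu⟩ := Subgroup.ne_bot_iff_exists_ne_one.1 hs
        exact ⟨u, fun h1 => hu (Subtype.ext h1), u.2⟩
      · rintro ⟨u, hu1, hu⟩ h0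
        rw [h0, Subgroup.mem_bot] at hu
        exact hu1 hu
    rw [e]
    exact Set.Finite.isClosed_biUnion (Set.toFinite _) fun u _ => hF.closed x hx u
  have hmem : F x (thr F x) ≠ ⊥ := hclosed.csInf_mem hne hbdd
  refine ⟨?_, hmem, fun t ht => ?_⟩
  · by_contra hlt
    exact hmem (hF.neg x _ hx (not_lt.1 hlt))
  · by_contra h0
    exact absurd (csInf_le hbdd h0) (not_le.2 ht)

include hF in
theorem thr_rep {x : I → ℤ} (hx : IsRoot cs h x) (w : W) : thr F (rep cs h w x) = thr F x := by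
  obtain ⟨g, hg⟩ := exists_rp cs R.nsys w
  unfold thr
  congr 1
  ext s
  have h1 := hF.conj_rp hg hx s
  show F (rep cs h w x) s ≠ ⊥ ↔ F x s ≠ ⊥
  rw [← h1, not_iff_not]
  unfold cj
  exact Subgroup.map_eq_bot_iff_of_injective _ (MulAut.conj g).injective

end Thr

/-! ### the dominant root -/

theorem ht_pos {x : I → ℤ} (hx : IsRoot cs h x) (h0 : 0 ≤ x) : 0 < ht x := by
  unfold ht
  refine Finset.sum_pos' (fun k _ => h0 k) ?_
  by_contra hcon
  push Not at hcon
  refine hx.ne_zero (funext fun k => le_antisymm (hcon k (Finset.mem_univ k)) (h0 k))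

theorem pos_of_ht {x : I → ℤ} (hx : IsRoot cs h x) (h0 : 0 < ht x) : 0 ≤ x := by
  rcases hx.pos_or_neg with h1 | h1
  · exact h1
  · exfalso
    have : ht x ≤ 0 := Finset.sum_nonpos fun k _ => h1 k
    omega

theorem ht_smul_add (m a b : ℤ) {x y z : I → ℤ} (e : m • z = a • x + b • y) : m * ht z = a * ht x + b * ht y := by
  unfold ht
  rw [Finset.mul_sum, Finset.mul_sum, Finset.mul_sum, ← Finset.sum_add_distrib]
  refine Finset.sum_congr rfl fun k _ => ?_
  have := congrFun e k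
  simpa only [_root_.Pi.smul_apply, _root_.Int.zsmul_eq_mul, _root_.zsmul_eq_mul, _root_.Pi.add_apply, _root_.Pi.mul_apply, _root_.Pi.intCast_apply, _root_.Int.cast_eq] using this

theorem ev_smul_add (f : I → ℝ) (m a b : ℤ) {x y z : I → ℤ} (e : m • z = a • x + b • y) :
    (m : ℝ) * ev f z = a * ev f x + b * ev f y := by
  have h1 := congrArg (ev f) e
  rw [map_add, map_zsmul, map_zsmul, map_zsmul] at h1
  simpa only [_root_.zsmul_eq_mul] using h1

/-- proportional roots -/
theorem eq_or_neg_of_smul {x y : I → ℤ} (hx : IsRoot cs h x) (hy : IsRoot cs h y) {a b : ℤ} (ha : a ≠ 0)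
    (e : a • x = b • y) : x = y ∨ x = -y := by
  obtain ⟨w, i, rfl⟩ := hy
  have hx' := hx.act w⁻¹
  have e1 : a • rep cs h w⁻¹ x = b • sr i := by
    rw [← map_smul, e, map_smul, rep_inv_apply]
  have hsupp : ∀ k, k ≠ i → rep cs h w⁻¹ x k = 0 := by
    intro k hk
    have := congrFun e1 k
    rw [Pi.smul_apply, Pi.smul_apply, sr_ne hk, smul_zero, smul_eq_mul] at this
    exact (mul_eq_zero.1 this).resolve_left ha
  rcases hx'.pos_or_neg with h0 | h0
  · left
    have h1 := hx'.eq_sr h0 i hsupp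
    rw [← h1, rep_apply_inv]
  · right
    have h1 := hx'.neg.eq_sr (neg_nonneg.2 h0) i (fun k hk => by rw [Pi.neg_apply, hsupp k hk, neg_zero])
    rw [← h1, map_neg, rep_apply_inv, neg_neg]

/-- a functional with prescribed values on two independent roots -/
theorem exists_ev {x y : I → ℤ} (hx : IsRoot cs h x) (hy : IsRoot cs h y) (hxy : x ≠ y) (hxy' : x ≠ -y) (s : ℝ) :
    ∃ f : I → ℝ, ev f x = s ∧ ev f y = 0 := by
  have hdet : ∃ i j, x i * y j - x j * y i ≠ 0 := by
    by_contra hcon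
    push Not at hcon
    obtain ⟨j, hj⟩ : ∃ j, y j ≠ 0 := by
      by_contra h0
      push Not at h0
      exact hy.ne_zero (funext h0)
    have e : y j • x = x j • y := by
      funext i
      rw [Pi.smul_apply, Pi.smul_apply, smul_eq_mul, smul_eq_mul]
      linarith [hcon i j]
    rcases eq_or_neg_of_smul hx hy hj e with h1 | h1
    · exact hxy h1
    · exact hxy' h1
  obtain ⟨i, j, hd⟩ := hdet
  have hd' : ((x i : ℝ) * y j - x j * y i) ≠ 0 := by exact_mod_cast hd
  set d : ℝ := (x i : ℝ) * y j - x j * y i with hdd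
  have hval : ∀ z : I → ℤ, ev (fun k => s / d * ((if k = i then (y j : ℝ) else 0) - (if k = j then (y i : ℝ) else 0))) z =
      s / d * (z i * y j - z j * y i) := by
    intro z
    show ∑ k, (z k : ℝ) * (s / d * ((if k = i then (y j : ℝ) else 0) - (if k = j then (y i : ℝ) else 0))) = _
    have e : ∀ k, (z k : ℝ) * (s / d * ((if k = i then (y j : ℝ) else 0) - (if k = j then (y i : ℝ) else 0))) =
        (if k = i then s / d * (z k * y j) else 0) - (if k = j then s / d * (z k * y i) else 0) := by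
      intro k
      split_ifs <;> ring
    rw [Finset.sum_congr rfl fun k _ => e k, Finset.sum_sub_distrib, Finset.sum_ite_eq' Finset.univ i,
      Finset.sum_ite_eq' Finset.univ j, if_pos (Finset.mem_univ _), if_pos (Finset.mem_univ _)]
    ring
  refine ⟨fun k => s / d * ((if k = i then (y j : ℝ) else 0) - (if k = j then (y i : ℝ) else 0)), ?_, ?_⟩
  · rw [hval, ← hdd]
    exact div_mul_cancel₀ s hd'
  · rw [hval]
    ring

section Dom

variable (R : RGD cs h p T n X) {F : (I → ℤ) → ℝ → Subgroup Y} (hF : Filt R F)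

include hF

/-- **The dominant root.** -/
theorem exists_dom [Finite W] [Finite Y] [Fact p.Prime] [Nonempty I] : ∃ x : I → ℤ, IsRoot cs h x ∧ 0 ≤ x ∧
    (∀ i, 0 ≤ pairing A i x) ∧ ∃ u ∈ X x, u ≠ 1 ∧ ∀ y, IsRoot cs h y → 0 ≤ y → ∀ b ∈ X y, u * b = b * u := by
  classical
  -- the root with maximal `ht / thr`
  have hfin : {x | IsRoot cs h x}.Finite := RGD.finite_roots
  obtain ⟨i0⟩ := ‹Nonempty I›
  obtain ⟨x, hx, hmax⟩ := Set.exists_max_image {x | IsRoot cs h x} (fun x => (ht x : ℝ) / thr F x) hfin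
    ⟨sr i0, isRoot_sr cs h i0⟩
  replace hx : IsRoot cs h x := hx
  obtain ⟨ht0, htF, htlt⟩ := exists_threshold hF hx
  have hxpos : 0 < ht x := by
    have h1 := hmax (sr i0) (isRoot_sr cs h i0)
    have h2 := (exists_threshold hF (isRoot_sr cs h i0)).1
    have h3 : 0 < ht (sr i0 : I → ℤ) := ht_pos (isRoot_sr cs h i0) (sr_nonneg i0)
    have h4 : (0 : ℝ) < (ht (sr i0 : I → ℤ) : ℝ) / thr F (sr i0) := div_pos (by exact_mod_cast h3) h2
    have h5 : (0 : ℝ) < (ht x : ℝ) / thr F x := lt_of_lt_of_le h4 h1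
    have h6 : (0 : ℝ) < (ht x : ℝ) := by
      by_contra hcon
      exact absurd h5 (not_lt.2 (div_nonpos_of_nonpos_of_nonneg (not_lt.1 hcon) ht0.le))
    exact_mod_cast h6
  have hx0 : 0 ≤ x := pos_of_ht hx hxpos
  -- commutators vanish
  have hcomm : ∀ y, IsRoot cs h y → 0 ≤ y → x ≠ y → ∀ a ∈ F x (thr F x), ∀ b ∈ X y, ⁅a, b⁆ = 1 := by
    intro y hy hy0 hxy a ha b hb
    have hxy' : x ≠ -y := by
      intro e
      have : 0 < ht y := ht_pos hy hy0
      have h1 : ht x = - ht y := by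
        rw [e]
        unfold ht
        simp
      omega
    obtain ⟨f, hf1, hf2⟩ := exists_ev hx hy hxy hxy' (thr F x)
    have h1 := hF.comm f x y hx hy hxy hxy' (by rw [hf1]; exact ht0) hf2.ge a (by rw [hf1]; exact ha) b hb
    have h2 : FS (fun z => F z (ev f z)) {z | Btwn cs h x y z} = ⊥ := by
      rw [eq_bot_iff]
      unfold FS
      refine iSup_le ?_
      rintro ⟨z, hz⟩
      obtain ⟨hzr, m, c, d, hm, hc, hd, e⟩ := hz
      show F z (ev f z) ≤ ⊥
      obtain ⟨hz0, -, hzlt⟩ := exists_threshold hF hzr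
      rw [hzlt]
      have e1 := ht_smul_add m c d e
      have e2 := ev_smul_add f m c d e
      rw [hf1, hf2, mul_zero, add_zero] at e2
      have h3 := hmax z hzr
      beta_reduce at h3
      rw [div_le_div_iff₀ hz0 ht0] at h3
      have hy1 : 0 < ht y := ht_pos hy hy0
      have h4 : (c : ℝ) * ht x < m * ht z := by
        have : c * ht x < m * ht z := by
          rw [e1]
          have := mul_pos hd hy1
          omega
        exact_mod_cast this
      have hm' : (0 : ℝ) < m := by exact_mod_cast hm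
      have hxr : (0 : ℝ) < ht x := by exact_mod_cast hxpos
      -- `c ht x thr x < m ht z thr x ≤ m ht x thr z`
      have h5 : (c : ℝ) * ht x * thr F x < m * ht z * thr F x := mul_lt_mul_of_pos_right h4 ht0
      have h6 : (m : ℝ) * ht z * thr F x ≤ m * ht x * thr F z := by
        have := mul_le_mul_of_nonneg_left h3 hm'.le
        linarith
      have h7 : (ht x : ℝ) * (m * ev f z) < ht x * (m * thr F z) := by
        rw [e2]
        linarith only [h5, h6]
      exact lt_of_mul_lt_mul_left (lt_of_mul_lt_mul_left h7 hxr.le) hm'.le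
    rw [h2, Subgroup.mem_bot] at h1
    exact h1
  -- a central element
  have hpg : IsPGroup p ↥(X x) := by
    obtain ⟨w, i, e⟩ := hx
    obtain ⟨g, hg⟩ := exists_rp cs R.nsys w
    rw [e, ← R.conj_rp hg (isRoot_sr cs h i)]
    exact (R.pgrp i).map _
  have hnil : Group.IsNilpotent ↥(X x) := hpg.isNilpotent
  have hnorm : ((F x (thr F x)).subgroupOf (X x)).Normal := by
    refine ⟨fun a ha g => ?_⟩
    rw [Subgroup.mem_subgroupOf] at ha ⊢
    exact (Subgroup.mem_normalizer_iff.1 (hF.nrm x (thr F x) hx g.2) _).1 ha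
  have hle : F x (thr F x) ≤ X x := hF.le x _ hx
  have hne : (F x (thr F x)).subgroupOf (X x) ≠ ⊥ := by
    intro h0
    apply htF
    rw [Subgroup.subgroupOf_eq_bot] at h0
    have := h0.le_bot
    rw [inf_eq_left.2 hle] at this
    exact le_bot_iff.1 this
  have hc := Cfsg.Agent.Lib.NormalAbelian.normal_inf_center_ne_bot _ hne
  obtain ⟨u, hu⟩ := Subgroup.ne_bot_iff_exists_ne_one.1 hc
  obtain ⟨⟨u, hux⟩, hu1, hu2⟩ := u
  replace hu1 : u ∈ F x (thr F x) := hu1
  refine ⟨x, hx, hx0, fun i => ?_, u, hux, fun h1 => hu (by ext; exact h1), fun y hy hy0 b hb => ?_⟩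
  · -- dominance
    have h1 := hmax (rep cs h (cs.simple i) x) (hx.act _)
    beta_reduce at h1
    rw [thr_rep hF hx, ht_simple, div_le_div_iff_of_pos_right ht0] at h1
    have : ht x - pairing A i x ≤ ht x := by exact_mod_cast h1
    omega
  · by_cases hxy : x = y
    · subst hxy
      have h1 := Subgroup.mem_center_iff.1 hu2 ⟨b, hb⟩
      exact (congrArg Subtype.val h1).symm
    · have h1 := hcomm y hy hy0 hxy u hu1 b hb
      exact commutatorElement_eq_one_iff_mul_comm.1 h1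

end Dom

end Cfsg.Agent.H162.CCR.Dom
end

-- part: H162/CC/Word
section
/-!
# The word of the dominant root (helper162, S3828)

* `full_support` : a dominant root has full support;
* `exists_lt_coeff` : some coefficient is greater than the pairing, if the diagram is not `A₂`;
* `exists_word`.
-/

set_option autoImplicit false
set_option linter.unusedSectionVars false

namespace Cfsg.Agent.H162.CCR.Dom

open CoxeterSystem Cfsg.Agent.ChevalleyStructure.CoxeterGeom Cfsg.Agent.Tits.Roots Cfsg.Agent.Tits.Core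
  Cfsg.Agent.Tits.RootComb Cfsg.Agent.Tits.Exchange Cfsg.Agent.Nodes.Reps Cfsg.Agent.Nodes.BNOf

variable {I W : Type*} [Fintype I] [DecidableEq I] [Group W] {M : CoxeterMatrix I}
  {cs : CoxeterSystem M W} {A : I → I → ℤ} {h : IsCartan M A}

/-- connected diagram -/
def Conn (M : CoxeterMatrix I) : Prop :=
  ∀ J : Set I, J.Nonempty → J ≠ Set.univ → ∃ a ∈ J, ∃ b, b ∉ J ∧ M a b ≠ 2

theorem full_support (hM : Conn M) {x : I → ℤ} (hx : IsRoot cs h x) (h0 : 0 ≤ x) (hd : ∀ i, 0 ≤ pairing A i x) (i : I) :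
    0 < x i := by
  by_contra hi
  have hi0 : x i = 0 := le_antisymm (not_lt.1 hi) (h0 i)
  have hne : {j | 0 < x j}.Nonempty := by
    by_contra hcon
    refine hx.ne_zero (funext fun j => le_antisymm ?_ (h0 j))
    by_contra hj
    exact hcon ⟨j, not_le.1 hj⟩
  have hun : {j | 0 < x j} ≠ Set.univ := by
    intro h1
    have : i ∈ {j | 0 < x j} := by rw [h1]; trivial
    exact hi this
  obtain ⟨a, ha, b, hb, hab⟩ := hM _ hne hun
  have hb0 : x b = 0 := le_antisymm (not_lt.1 hb) (h0 b)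
  have h1 := pairing_neg h h0 hb0 ha (by rw [M.symmetric b a]; exact hab)
  exact absurd (hd b) (not_le.2 h1)

include h in
theorem exists_lt_coeff (hM : Conn M) (hI : 2 ≤ Fintype.card I)
    (hA : ¬ ∃ i j, M i j = 3 ∧ ∀ k, k = i ∨ k = j) {x : I → ℤ} (hx : ∀ i, 0 < x i) :
    ∃ j, pairing A j x < x j := by
  classical
  by_contra hcon
  push Not at hcon
  -- `∑_{k ≠ j} (- A j k) x k ≤ x j`
  have key : ∀ j, ∑ k ∈ Finset.univ.erase j, (- A j k) * x k ≤ x j := by
    intro j
    have h1 := hcon j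
    unfold pairing at h1
    rw [← Finset.add_sum_erase _ _ (Finset.mem_univ j), h.diag j] at h1
    have h2 : ∑ k ∈ Finset.univ.erase j, (- A j k) * x k = - ∑ k ∈ Finset.univ.erase j, A j k * x k := by
      rw [← Finset.sum_neg_distrib]
      exact Finset.sum_congr rfl fun k _ => by ring
    rw [h2]
    linarith
  have hnn : ∀ j k, k ≠ j → 0 ≤ (- A j k) * x k := fun j k hk =>
    mul_nonneg (neg_nonneg.2 (cartan_nonpos h hk.symm)) (hx k).le
  have hone : ∀ j k, k ≠ j → (- A j k) * x k ≤ x j := by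
    intro j k hk
    refine le_trans ?_ (key j)
    exact Finset.single_le_sum (f := fun k => (- A j k) * x k)
      (fun l hl => hnn j l (Finset.ne_of_mem_erase hl)) (Finset.mem_erase.2 ⟨hk, Finset.mem_univ k⟩)
  have htwo : ∀ j k l, k ≠ j → l ≠ j → k ≠ l → (- A j k) * x k + (- A j l) * x l ≤ x j := by
    intro j k l hk hl hkl
    refine le_trans ?_ (key j)
    have h1 : ({k, l} : Finset I) ⊆ Finset.univ.erase j := by
      intro m hm
      rw [Finset.mem_insert, Finset.mem_singleton] at hm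
      rcases hm with rfl | rfl
      · exact Finset.mem_erase.2 ⟨hk, Finset.mem_univ _⟩
      · exact Finset.mem_erase.2 ⟨hl, Finset.mem_univ _⟩
    have h2 := Finset.sum_le_sum_of_subset_of_nonneg (f := fun k => (- A j k) * x k) h1
      (fun m hm _ => hnn j m (Finset.ne_of_mem_erase hm))
    rwa [Finset.sum_pair hkl] at h2
  -- an edge
  obtain ⟨i, i', hii⟩ := Fintype.exists_pair_of_one_lt_card (by omega : 1 < Fintype.card I)
  obtain ⟨a, ha, b, hb, hab⟩ := hM {i} ⟨i, rfl⟩ (fun h1 => hii (by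
    have : i' ∈ ({i} : Set I) := by rw [h1]; trivial
    exact this.symm))
  have hba : b ≠ a := by rintro rfl; exact hb ha
  have n1 : A a b < 0 := cartan_neg h hba.symm hab
  have n2 : A b a < 0 := cartan_neg h hba (by rw [M.symmetric b a]; exact hab)
  have e1 := hone a b hba
  have e2 := hone b a hba.symm
  have pa := hx a
  have pb := hx b
  have f1 : x b ≤ x a := by nlinarith only [n1, e1, pb]
  have f2 : x a ≤ x b := by nlinarith only [n2, e2, pa]
  have f3 : x a = x b := le_antisymm f2 f1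
  have f4 : A a b = -1 := by
    by_contra hne
    have : A a b ≤ -2 := by omega
    nlinarith only [e1, pb, f2, this]
  have f5 : A b a = -1 := by
    by_contra hne
    have : A b a ≤ -2 := by omega
    nlinarith only [e2, pa, f1, this]
  have h3 : M a b = 3 := by
    rcases h.rel a b hba.symm with ⟨_, h1, _⟩ | ⟨h0, _⟩ | ⟨_, ⟨h1, h2⟩ | ⟨h1, h2⟩⟩ | ⟨_, ⟨h1, h2⟩ | ⟨h1, h2⟩⟩
    all_goals first | exact h0 | omega
  apply hA
  refine ⟨a, b, h3, fun k => ?_⟩
  by_contra hk
  rw [not_or] at hk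
  obtain ⟨c, hc, d, hd, hcd⟩ := hM {a, b} ⟨a, Or.inl rfl⟩ (fun h1 => by
    have : k ∈ ({a, b} : Set I) := by rw [h1]; trivial
    rcases this with h2 | h2
    · exact hk.1 h2
    · exact hk.2 h2)
  have hda : d ≠ a := fun h1 => hd (Or.inl h1)
  have hdb : d ≠ b := fun h1 => hd (Or.inr h1)
  have pd := hx d
  rcases hc with rfl | hc
  · have n3 := cartan_neg h hda.symm hcd
    have := htwo c b d hba hda hdb.symm
    nlinarith only [pb, pd, n1, f2, n3, this]
  · rw [Set.mem_singleton_iff] at hc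
    subst hc
    have n3 := cartan_neg h hdb.symm hcd
    have := htwo c a d hba.symm hdb hda.symm
    nlinarith only [pa, pd, n2, f1, n3, this]

variable (cs h) in
/-- **The word.** -/
theorem exists_word (hM : Conn M) (hI : 2 ≤ Fintype.card I)
    (hA : ¬ ∃ i j, M i j = 3 ∧ ∀ k, k = i ∨ k = j) {x : I → ℤ} (hx : IsRoot cs h x) (h0 : 0 ≤ x)
    (hd : ∀ i, 0 ≤ pairing A i x) :
    ∃ ω : List I, ω.Nodup ∧ (∀ i, i ∈ ω) ∧ 0 ≤ rep cs h (cs.wordProd ω)⁻¹ x := by
  classical
  obtain ⟨j, hj⟩ := exists_lt_coeff (A := A) (h := h) hM hI hA (full_support hM hx h0 hd)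
  refine ⟨j :: (Finset.univ.erase j).toList, ?_, ?_, ?_⟩
  · rw [List.nodup_cons]
    exact ⟨by simp only [_root_.Finset.mem_toList, _root_.Finset.mem_erase, _root_.ne_eq, _root_.not_true_eq_false, _root_.Finset.mem_univ, _root_.and_true, _root_.not_false_eq_true], Finset.nodup_toList _⟩
  · intro i
    by_cases hi : i = j
    · rw [hi]; exact List.mem_cons_self
    · exact List.mem_cons_of_mem _ (Finset.mem_toList.2 (Finset.mem_erase.2 ⟨hi, Finset.mem_univ i⟩))
  · rw [wordProd_cons, mul_inv_rev, rep_mul_apply, inv_simple]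
    have hv : (cs.wordProd (Finset.univ.erase j).toList)⁻¹ ∈ WJ cs {k | k ≠ j} :=
      inv_mem (wordProd_mem_WJ cs fun k hk => (Finset.mem_erase.1 (Finset.mem_toList.1 hk)).1)
    have h1 := rep_apply_of_mem cs h hv (rep cs h (cs.simple j) x) (k := j) (fun h2 => h2 rfl)
    rw [rep_simple_apply_self] at h1
    have h2 : IsRoot cs h (rep cs h (cs.wordProd (Finset.univ.erase j).toList)⁻¹ (rep cs h (cs.simple j) x)) :=
      (hx.act _).act _
    rcases h2.pos_or_neg with h3 | h3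
    · exact h3
    · exfalso
      have h4 : rep cs h (cs.wordProd (Finset.univ.erase j).toList)⁻¹ (rep cs h (cs.simple j) x) j ≤ 0 := h3 j
      rw [h1] at h4
      linarith only [hj, h4]

end Cfsg.Agent.H162.CCR.Dom
end

-- part: H162/CC/Cross
section
/-!
# The row of the groups of Lie type of rank at least two in the cross characteristic (helper162, S3828)

`crow_of_filt` : `K` simple with a filtered root group datum of characteristic `ℓ`, connected diagram of rank at least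
two, not `A₂`: `CRow r K` for all primes `r ≠ ℓ`.

An element `c ≠ 1` of `C` normalises no non-trivial `ℓ`-subgroup.  By the displacement theorem (helper65) `c` is conjugate
to an element of `B n_w B`, `w = s_{i₁} ⋯ s_{iₗ}` for any order of the nodes.  For a central element `u` of `U` in the root
group of a dominant root and a suitable order `u` and `u ^ c` commute, and the commuting trick applies.
-/

set_option autoImplicit false
set_option linter.unusedSectionVars false

namespace Cfsg.Agent.H162.CCR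

open CoxeterSystem Cfsg.Agent.ChevalleyStructure.CoxeterGeom Cfsg.Agent.Tits.Roots Cfsg.Agent.Tits.Core
  Cfsg.Agent.Tits.RootComb Cfsg.Agent.Tits.Exchange Cfsg.Agent.Nodes.Reps Cfsg.Agent.Nodes.BNOf
  Cfsg.Agent.Nodes.StabComb Cfsg.Agent.Nodes.Bruhat Cfsg.Agent.Nodes.OppDec Cfsg.Agent.Nodes.LeviDec
  Cfsg.Agent.KFacts.RgdBorelTits Cfsg.Agent.H65.Disp Cfsg.Agent.H65.Disp.Rgd

open Cfsg.Agent.BpLieP.Big (LocChar)

section Loc

variable {K : Type*} [Group K] [Finite K] [IsSimpleGroup K] {ℓ r : ℕ} [Fact ℓ.Prime] [Fact r.Prime] {C : Set K}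

/-- an element of `C` normalising an `ℓ`-subgroup is trivial -/
theorem Min.eq_one_of_normalizes (hC : Min r C) (hab : ¬ IsMulCommutative K) (hr : r ≠ ℓ) (hloc : LocChar ℓ K) {c : K}
    (hc : c ∈ C) {V : Subgroup K} (hV : IsPGroup ℓ V) (hV1 : V ≠ ⊥) (hcV : c ∈ Subgroup.normalizer (V : Set K)) :
    c = 1 := by
  by_contra hc1
  have hI : Cfsg.Agent.H533.Comm.Iso r K C :=
    ⟨⟨hC.conj, hC.pel, hC.comm, hC.sq⟩, ⟨c, hc, hc1⟩, fun H hH c hc hcC => hC.loc H hH c hcC hc⟩
  exact hc1 (hI.eq_one_of_normalizes hab hr.symm hloc hc hV hV1 hcV)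

/-- an element of `C` commuting with an `ℓ`-element is trivial -/
theorem Min.eq_one_of_commute (hC : Min r C) (hab : ¬ IsMulCommutative K) (hr : r ≠ ℓ) (hloc : LocChar ℓ K) {c u : K}
    (hc : c ∈ C) (hu : IsPGroup ℓ (Subgroup.zpowers u)) (hu1 : u ≠ 1) (hcu : c * u = u * c) : c = 1 := by
  refine hC.eq_one_of_normalizes hab hr hloc hc hu (fun h0 => hu1 (Subgroup.zpowers_eq_bot.1 h0)) ?_
  rw [Subgroup.mem_normalizer_iff]
  intro x
  have key : ∀ x ∈ Subgroup.zpowers u, c * x * c⁻¹ = x := by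
    intro x hx
    obtain ⟨k, rfl⟩ := Subgroup.mem_zpowers_iff.1 hx
    have h8 : Commute c u := hcu
    rw [(h8.zpow_right k).eq, mul_assoc, mul_inv_cancel, mul_one]
  constructor
  · intro hx
    rw [key x hx]
    exact hx
  · intro hx
    have h1 := key _ hx
    have h2 : c * x * c⁻¹ = x := by
      have h3 : c * (c * x * c⁻¹) * c⁻¹ = c * x * c⁻¹ := h1
      have h4 := congrArg (fun z => c⁻¹ * z * c) h3
      have e1 : c⁻¹ * (c * (c * x * c⁻¹) * c⁻¹) * c = c * x * c⁻¹ := by group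
      have e2 : c⁻¹ * (c * x * c⁻¹) * c = x := by group
      beta_reduce at h4
      rw [e1, e2] at h4
      exact h4
    rwa [h2] at hx

/-- the commuting trick in local characteristic `ℓ` -/
theorem Min.false_of_commute (hC : Min r C) (hab : ¬ IsMulCommutative K) (hr : r ≠ ℓ) (hloc : LocChar ℓ K) {c u : K}
    (hc : c ∈ C) (hc1 : c ≠ 1) (hu : IsPGroup ℓ (Subgroup.zpowers u)) (hu1 : u ≠ 1)
    (hcu : u * (c⁻¹ * u * c) = (c⁻¹ * u * c) * u) : False := by
  have hcop : (orderOf u).Coprime r := by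
    obtain ⟨k, hk⟩ := IsPGroup.iff_card.1 hu
    rw [Nat.card_zpowers] at hk
    rw [hk]
    exact Nat.Coprime.pow_left k ((Nat.coprime_primes Fact.out Fact.out).2 hr.symm)
  rcases hC.comm_trick hc hcop hcu with h1 | ⟨e, he, he1, h2⟩
  · exact hc1 (hC.eq_one_of_commute hab hr hloc hc hu hu1 h1.symm)
  · refine he1 (hC.eq_one_of_commute hab hr hloc he (u := c⁻¹ * u * c) ?_ ?_ h2)
    · have h3 : Subgroup.zpowers (c⁻¹ * u * c) = (Subgroup.zpowers u).map (MulAut.conj c⁻¹).toMonoidHom := by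
        rw [MonoidHom.map_zpowers]
        simp only [_root_.map_inv, _root_.MulEquiv.toMonoidHom_eq_coe, _root_.MonoidHom.coe_coe, _root_.MulAut.inv_apply, _root_.MulAut.conj_symm_apply]
      rw [h3]
      exact hu.map _
    · intro h3
      apply hu1
      have : u = c * (c⁻¹ * u * c) * c⁻¹ := by group
      rw [this, h3]
      group

end Loc

section Main

variable {I W K : Type*} [Fintype I] [DecidableEq I] [Group W] [Group K] {M : CoxeterMatrix I}
  {cs : CoxeterSystem M W} {A : I → I → ℤ} {h : IsCartan M A} {ℓ : ℕ} {T : Subgroup K} {n : I → K}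
  {X : (I → ℤ) → Subgroup K}

/-- **The row.** -/
theorem crow_of_filt (R : RGD cs h ℓ T n X) {F : (I → ℤ) → ℝ → Subgroup K} (hF : Filt R F) [Finite W] [Finite K]
    [Fact ℓ.Prime] (hG : GG cs h T X = ⊤) (hM : Dom.Conn M) (hI : 2 ≤ Fintype.card I)
    (hA : ¬ ∃ i j, M i j = 3 ∧ ∀ k, k = i ∨ k = j) [IsSimpleGroup K] (hab : ¬ IsMulCommutative K)
    (hloc : LocChar ℓ K) {r : ℕ} [Fact r.Prime] (hr : r ≠ ℓ) : CRow r K := by
  intro C hC c hc
  by_contra hc1
  have hne : Nonempty I := Fintype.card_pos_iff.1 (by omega)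
  obtain ⟨x, hx, hx0, hd, u, hu, hu1, hcent⟩ := Dom.exists_dom R hF
  obtain ⟨ω, hω, hall, hw⟩ := Dom.exists_word cs h hM hI hA hx hx0 hd
  -- displacement
  obtain ⟨g, hg⟩ := exists_mem_PP (bg R hG) c (β := 1) (fun g => Iff.rfl) (π := 1) (fun i g => Iff.rfl) ω (o := 1)
    (fun i => by
      show i ∈ ω ++ [].map _
      simpa using hall i)
  change g⁻¹ * (c * g) ∈ _ at hg
  set z : K := g⁻¹ * (c * g) with hz
  have hzC : z ∈ C := by
    have := hC.toCC.conj' g hc
    rwa [mul_assoc] at this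
  have hz1 : z ≠ 1 := by
    intro h1
    apply hc1
    have : c = g * (g⁻¹ * (c * g)) * g⁻¹ := by group
    rw [this, ← hz, h1]
    group
  obtain ⟨ω', hsub, hcell⟩ := cell_of_PP R hg
  by_cases hww : ω' = ω
  swap
  · -- `z` lies in a proper parabolic subgroup
    obtain ⟨i, hi⟩ : ∃ i, i ∉ ω' := by
      by_contra hcon
      push Not at hcon
      refine hww (hsub.eq_of_length_le ?_)
      have h1 : ω.toFinset ⊆ ω'.toFinset := fun i _ => List.mem_toFinset.2 (hcon i)
      have h2 := Finset.card_le_card h1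
      rw [List.toFinset_card_of_nodup hω] at h2
      exact h2.trans (List.toFinset_card_le _)
    have h1 : z ∈ PJ cs h T X {j | j ≠ i} := by
      rw [cell_mem_PJ_iff R hcell]
      exact wordProd_mem_WJ cs fun j hj => by
        rintro rfl
        exact hi hj
    exact hz1 (hC.eq_one_of_normalizes hab hr hloc hzC (isPGroup_VJ R _)
      (VJ_ne_bot R (J := {j | j ≠ i}) (i := i) (fun h3 => h3 rfl)) (PJ_le_normalizer_VJ R _ h1))
  rw [hww] at hcell
  obtain ⟨b₁, hb₁, k, hk, b₂, hb₂, e⟩ := hcell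
  -- a conjugate in `B n_w`
  set y : K := b₂ * z * b₂⁻¹ with hy
  have hyC : y ∈ C := hC.conj b₂ z hzC
  have hy1 : y ≠ 1 := by
    intro h1
    apply hz1
    have : z = b₂⁻¹ * (b₂ * z * b₂⁻¹) * b₂ := by group
    rw [this, ← hy, h1]
    group
  have hye : y = (b₂ * b₁) * k := by rw [hy, e]; group
  -- `u` commutes with `U`
  have huU : ∀ v ∈ RGD.Sup X (RGD.Pos cs h), u * v = v * u := by
    have h1 : RGD.Sup X (RGD.Pos cs h) ≤ Subgroup.centralizer {u} := by
      refine RGD.Sup_le ?_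
      rintro y ⟨hy, hy0⟩ v hv
      exact Subgroup.mem_centralizer_singleton_iff.2 (hcent y hy hy0 v hv).symm
    intro v hv
    exact (Subgroup.mem_centralizer_singleton_iff.1 (h1 hv)).symm
  -- the conjugate of `u` under `B`
  have hbu : (b₂ * b₁)⁻¹ * u * (b₂ * b₁) ∈ X x := by
    obtain ⟨t, ht, v, hv, e⟩ := R.mem_B.1 (mul_mem hb₂ hb₁)
    have h1 : t⁻¹ * u * t ∈ X x := by
      have h2 := R.tor x hx t ht
      have h3 : u ∈ cj t (X x) := by rw [h2]; exact hu
      exact mem_cj.1 h3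
    have h2 : t * v * t⁻¹ ∈ RGD.Sup X (RGD.Pos cs h) := by
      have h3 := R.B_le_normalizer_U (RGD.T_le_B (h := h) (X := X) ht)
      exact (Subgroup.mem_normalizer_iff.1 h3 v).1 hv
    have h3 := huU _ h2
    have h4 : (t⁻¹ * u * t) * v = v * (t⁻¹ * u * t) := by
      calc (t⁻¹ * u * t) * v = t⁻¹ * (u * (t * v * t⁻¹)) * t := by group
        _ = t⁻¹ * ((t * v * t⁻¹) * u) * t := by rw [h3]
        _ = v * (t⁻¹ * u * t) := by group
    have h5 : (b₂ * b₁)⁻¹ * u * (b₂ * b₁) = t⁻¹ * u * t := by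
      rw [e]
      calc (t * v)⁻¹ * u * (t * v) = v⁻¹ * ((t⁻¹ * u * t) * v) := by group
        _ = t⁻¹ * u * t := by rw [h4, inv_mul_cancel_left]
    rw [h5]
    exact h1
  have hyu : y⁻¹ * u * y ∈ RGD.Sup X (RGD.Pos cs h) := by
    have h1 := R.conj_mem' hk hx hbu
    have h2 : y⁻¹ * u * y = k⁻¹ * ((b₂ * b₁)⁻¹ * u * (b₂ * b₁)) * k := by rw [hye]; group
    rw [h2]
    exact RGD.le_Sup (S := RGD.Pos cs h) ⟨hx.act _, hw⟩ h1
  have hup : IsPGroup ℓ (Subgroup.zpowers u) := by
    refine (R.isPGroup_Upos).to_le (Subgroup.zpowers_le.2 ?_)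
    exact RGD.le_Sup (S := RGD.Pos cs h) ⟨hx, hx0⟩ hu
  exact hC.false_of_commute hab hr hloc hyC hy1 hup hu1 (huU _ hyu)

end Main

end Cfsg.Agent.H162.CCR
end

-- part: H162/CC/CrossFam
section
/-!
# The cross characteristic rows of the families (helper162, S3828)

`HasFiltM p G M` : filtered root group datum of characteristic `p` and type `M`; `HasFiltM.crow`; instances for
`PSLₙ`, `n ≥ 4`, `PSp₂ₘ`, `PSUₙ`, `n ≥ 4`, the orthogonal groups, the exceptional groups, `²E₆`, `³D₄`.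
-/

set_option autoImplicit false
set_option linter.unusedSectionVars false

namespace Cfsg.Agent.H162.CCR.Fam

open Cfsg CoxeterSystem Cfsg.Agent.ChevalleyStructure.CoxeterGeom Cfsg.Agent.Tits.Roots Cfsg.Agent.Tits.Core
  Cfsg.Agent.Tits.RootComb Cfsg.Agent.Nodes.Comb Cfsg.Agent.Nodes.Reps Cfsg.Agent.Nodes.BNOf
open Cfsg.Agent.Nodes Cfsg.Agent.Nodes.RGDLib Cfsg.Agent.KFacts.RgdBorelTits Cfsg.Agent.KFacts.RgdFilt
open Cfsg.Agent.H460.Engine Cfsg.Agent.H460.Dgs

/-- `G` has a filtered root group datum of characteristic `p` and type `M` -/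
def HasFiltM (p : ℕ) (G : Type*) [Group G] {l : ℕ} (M : CoxeterMatrix (Fin l)) : Prop :=
  ∃ (A : Fin l → Fin l → ℤ) (h : IsCartan M A) (T : Subgroup G) (n : Fin l → G)
    (X : (Fin l → ℤ) → Subgroup G) (R : RGD M.toCoxeterSystem h p T n X) (F : (Fin l → ℤ) → ℝ → Subgroup G),
    Finite M.Group ∧ Nodes.RGDLib.G1 M.toCoxeterSystem h X = ⊤ ∧ Filt R F

theorem HasFiltM.hasFilt {p : ℕ} {G : Type*} [Group G] {l : ℕ} {M : CoxeterMatrix (Fin l)} (H : HasFiltM p G M) :
    HasFilt p G := ⟨l, M, H⟩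

/-- **The row.** -/
theorem HasFiltM.crow {ℓ : ℕ} [Fact ℓ.Prime] {K : Type*} [Group K] [Finite K] [IsSimpleGroup K] {l : ℕ}
    {M : CoxeterMatrix (Fin l)} (H : HasFiltM ℓ K M) (hD : Dg M) (hab : ¬ IsMulCommutative K) {r : ℕ} [Fact r.Prime]
    (hr : r ≠ ℓ) : CRow r K := by
  have hloc := H400.LieLocal.locChar_of_filt H.hasFilt
  obtain ⟨A, h, T, n, X, R, F, hW, hX, hF⟩ := H
  exact crow_of_filt R hF (KFacts.RgdFilt.GG_eq_top hX) hD.irr (by rw [Fintype.card_fin]; exact hD.two) hD.notA hab hloc hr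

/-- transport -/
theorem HasFiltM.crow_equiv {ℓ : ℕ} [Fact ℓ.Prime] {K L : Type*} [Group K] [Group L] [Finite K] [IsSimpleGroup K]
    (hab : ¬ IsMulCommutative K) {l : ℕ} {M : CoxeterMatrix (Fin l)} (H : HasFiltM ℓ L M) (hD : Dg M) (e : K ≃* L)
    {r : ℕ} [Fact r.Prime] (hr : r ≠ ℓ) : CRow r K := by
  have : IsSimpleGroup L := e.symm.isSimpleGroup
  have : Finite L := Finite.of_equiv K e.toEquiv
  have hab' : ¬ IsMulCommutative L := by
    intro h
    apply hab
    refine ⟨⟨fun a b => ?_⟩⟩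
    apply e.injective
    rw [map_mul, map_mul]
    exact h.is_comm.comm _ _
  exact (H.crow hD hab' hr).of_equiv e

end Cfsg.Agent.H162.CCR.Fam

/-! ### classical groups -/

namespace Cfsg.Agent.H162.CCR.Fam

open Cfsg Cfsg.Agent.ChevalleyStructure.CoxeterGeom Cfsg.Agent.Tits.Roots
open Cfsg.Agent.Nodes.Comb Cfsg.Agent.Nodes.Reps Cfsg.Agent.Nodes.WittRoot Cfsg.Agent.Nodes.BNOf
open Cfsg.Agent.Nodes.RGDLib Cfsg.Agent.Nodes.WittAll
open Cfsg.Agent.TitsThree Cfsg.Agent.TitsThree.Siegel Cfsg.Agent.TitsThree.WittFrame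
  Cfsg.Agent.TitsThree.WittWeyl Cfsg.Agent.TitsThree.FrameCN
open Cfsg.Agent.KFacts.RgdBorelTits Cfsg.Agent.KFacts.RgdFilt Cfsg.Agent.KFacts.RgdFiltWitt

theorem hasFiltM_of_sl {p : ℕ} {G : Type*} [Group G] {l : ℕ} {M : CoxeterMatrix (Fin l)} {A : Fin l → Fin l → ℤ}
    {h : IsCartan M A} {T : Subgroup G} {n : Fin l → G} {X : (Fin l → ℤ) → Subgroup G}
    (hW : Finite M.Group) (R : RGD M.toCoxeterSystem h p T n X) (hX : G1 M.toCoxeterSystem h X = ⊤)
    (h4 : ∀ i j, M i j ≠ 4) (h6 : ∀ i j, M i j ≠ 6) : HasFiltM p G M :=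
  ⟨A, h, T, n, X, R, F2 X X, hW, hX, (intComm_of_sl R (sl_of_ne h4 h6)).filt⟩

/-! ### type `C` -/

section TypeC

open Cfsg.Agent.Nodes.TypeC

variable {F : Type*} [Field F] {V : Type*} [AddCommGroup V] [Module F V] {H : HForm F V} {n : ℕ}
  {Fr : Frame H (Fin n)} {K : Type*} [Group K] (M : Model Fr K) {p : ℕ}

theorem hasFiltM_C (hA : AmbT Fr p M.I) [Finite V] [Fact p.Prime] [CharP F p] {p0 : Fr.Adm} (hp0 : p0.c ≠ 0)
    (hn : 0 < n) : HasFiltM p K (CoxeterMatrix.B n) := by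
  have : Finite (V ≃ₗ[F] V) := Finite.of_injective (fun g : V ≃ₗ[F] V => (g : V → V)) DFunLike.coe_injective
  have hF : Filt (rgdC hA hp0 (CoxeterMatrix.B n).toCoxeterSystem) (F2 (zr Fr) (rg Fr)) :=
    (two hA (T := Nodes.WittRGD.Tor Fr M.I) (fun i => ⟨nn_mem hA p0 i, Nodes.WittRGD.mono_nn hp0 i⟩)
      (fun _ ht => ⟨ht.1, ht.2⟩) _).filt
  have hF1 := filt_restrict hF M.I (fun x _ => hA.rg_le x)
    (n' := fun i => (⟨Nodes.WittRGD.nn Fr p0 i, nn_mem hA p0 i⟩ : M.I)) (fun _ => rfl)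
    (rgd_restrict (rgdC hA hp0 _) M.I (fun x _ => hA.rg_le x) (fun i => nn_mem hA p0 i))
  have hF2 := filt_map hF1 M.φ (rgdC_model M hA hp0 (CoxeterMatrix.B n).toCoxeterSystem)
  exact ⟨A n, isCartan n, _, _, _, rgdC_model M hA hp0 _, _,
    finite_W (CoxeterMatrix.B n).toCoxeterSystem, Nodes.WittModel.G1_eq_top _ hn _, hF2⟩

end TypeC

/-! ### linear groups -/

theorem hasFiltM_PSL {F : Type*} [Field F] [Finite F] (n : ℕ) {p : ℕ} [Fact p.Prime] [CharP F p] :
    HasFiltM p (Matrix.ProjectiveSpecialLinearGroup (Fin (n + 1)) F) (Cfsg.Agent.LieRecognition.BNCox.cA n) := by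
  have hc : ∀ i j : Fin n, Cfsg.Agent.LieRecognition.BNCox.cA n i j ≤ 3 := by
    intro i j
    rw [Cfsg.Agent.LieRecognition.BNCox.cA_apply]
    show (if (i : ℕ) = j then 1 else if (i : ℕ) + 1 = j ∨ (j : ℕ) + 1 = i then 3 else 2) ≤ 3
    split_ifs <;> norm_num
  have hW : Finite (Cfsg.Agent.LieRecognition.BNCox.cA n).Group :=
    Nodes.RootsA.finite_W (Cfsg.Agent.LieRecognition.BNCox.cA n).toCoxeterSystem (Nodes.RootsA.isCartan n)
  exact hasFiltM_of_sl (h := Nodes.RootsA.isCartan n) hW (Nodes.RGDTypeA.rgd_psl _ _)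
    (Nodes.RGDTypeA.G1_psl_eq_top _ _)
    (fun i j h => by have := hc i j; omega) (fun i j h => by have := hc i j; omega)

/-! ### Unitary and symplectic groups -/

open Cfsg.Agent.Nodes.WittU Cfsg.Agent.Nodes.WittInst

theorem hasFiltM_PSU {F : Type*} [Field F] [Fintype F] {q N : ℕ} (hF : Fintype.card F = q ^ 2) (hN : 3 ≤ N) {p : ℕ}
    [Fact p.Prime] [CharP F p] : ∃ m, 1 ≤ m ∧ (N = 2 * m ∨ N = 2 * m + 1) ∧ HasFiltM p (PSU N F q) (CoxeterMatrix.B m) := by
  obtain ⟨m, hm⟩ : ∃ m, N = 2 * m ∨ N = 2 * m + 1 := ⟨N / 2, by omega⟩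
  obtain ⟨W, -⟩ := exists_wframe hF hm
  obtain ⟨p0, hp0, -⟩ := exists_adm hF W
  exact ⟨m, by omega, hm, hasFiltM_C (KInstU.model hF hN W) (AmbT.of_amb (amb_U hF W) p) hp0 (by omega)⟩

theorem hasFiltM_PSp {F : Type*} [Field F] [Finite F] {m : ℕ} (hm : 1 ≤ m) {p : ℕ}
    [Fact p.Prime] [CharP F p] : HasFiltM p (PSp m F) (CoxeterMatrix.B m) :=
  hasFiltM_C (KInstSp.model m F) (AmbT.of_amb amb_Sp p) (p0 := SpIdent.adm 1) one_ne_zero hm

/-! ### Orthogonal groups -/

section Orthogonal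

open QuadraticMap
open Cfsg.Agent.LieClassical Cfsg.Agent.LieClassical.OrthCore Cfsg.Agent.LieClassical.OrthTrans
open Cfsg.Agent.LieClassical.OrthSimple Cfsg.Agent.LieClassical.OrthFinite
open Cfsg.Agent.LieClassical.OrthForms
open Cfsg.Agent.TitsThree.WBridge Cfsg.Agent.TitsThree.KSideO Cfsg.Agent.TitsThree.StdData

variable {F : Type*} [Field F] {m : ℕ}

theorem hasFiltM_PO_odd [Finite F] (h2 : (2 : F) ≠ 0) (hm : 2 ≤ m) {p : ℕ} [Fact p.Prime] [CharP F p] :
    HasFiltM p (Cfsg.POmega F (Cfsg.quadFormOdd m F)) (CoxeterMatrix.B m) := by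
  rw [← coe_oddForm]
  have hG : _root_.Cfsg.Agent.LieClassical.OrthTrans.Good (oddForm m F) := by
    apply good_of_finite (nondeg_oddForm m F h2)
    rw [Module.finrank_fintype_fun_eq_card, Fintype.card_sum, Fintype.card_sum, Fintype.card_fin,
      Fintype.card_unit]
    omega
  have hp : ((embOdd m F).ngt ⟨1, -1 ^ 2, rfl⟩).c ≠ 0 := by
    change (1 : F)⁻¹ * (-1 ^ 2) ≠ 0
    simp
  exact hasFiltM_C (model (wodd m F) hG ⟨_, hp⟩) (AmbT.of_amb (amb_O_of_two _ h2) p) hp (by omega)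

theorem hasFiltM_PO_minus [Finite F] (a b : F)
    (hab : ∀ z₁ z₂ : F, z₁ ^ 2 + a * z₁ * z₂ + b * z₂ ^ 2 = 0 → z₁ = 0 ∧ z₂ = 0)
    (hm : 2 ≤ m) {p : ℕ} [Fact p.Prime] [CharP F p] :
    HasFiltM p (Cfsg.POmega F (Cfsg.quadFormMinus m F a b)) (CoxeterMatrix.B m) := by
  rw [← coe_minusForm]
  have hG : _root_.Cfsg.Agent.LieClassical.OrthTrans.Good (minusForm m F a b) := by
    apply good_of_finite (nondeg_minusForm m F a b hab)
    rw [Module.finrank_fintype_fun_eq_card, Fintype.card_sum, Fintype.card_sum, Fintype.card_fin,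
      Fintype.card_fin]
    omega
  have hp : ((embMinus m F a b hab).ngt ⟨(1, 0), -nf a b (1, 0), rfl⟩).c ≠ 0 := by
    change (1 : F)⁻¹ * (-nf a b (1, 0)) ≠ 0
    simp [nf]
  have hA : AmbT (toFrame (wminus m F a b hab)) p (E (minusForm m F a b)) := by
    by_cases h2 : (2 : F) = 0
    · have hp2 : p = 2 := by
        have h3 : CharP F 2 := CharTwo.of_one_ne_zero_of_two_eq_zero one_ne_zero h2
        exact CharP.eq F ‹CharP F p› h3
      subst hp2
      exact ambT_O _ fun g hg hg2 hb => fixp_minus a b hab h2 hm hG hg hg2 hb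
    · exact AmbT.of_amb (amb_O_of_two _ h2) p
  exact hasFiltM_C (model (wminus m F a b hab) hG ⟨_, hp⟩) hA hp (by omega)

theorem hasFiltM_PO_plus [Finite F] (n : ℕ) {p : ℕ} [Fact p.Prime] [CharP F p] :
    HasFiltM p (Cfsg.POmega F (Cfsg.quadFormPlus (n + 3) F)) (Nodes.TypeD.M (n + 1)) := by
  rw [← coe_plusForm]
  have hG : _root_.Cfsg.Agent.LieClassical.OrthTrans.Good (plusForm (n + 3) F) := by
    apply good_of_finite (nondeg_plusForm (n + 3) F)
    rw [Module.finrank_fintype_fun_eq_card, Fintype.card_sum, Fintype.card_fin]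
    omega
  have hc : ∀ i j : Fin (n + 1 + 2), Nodes.TypeD.M (n + 1) i j ≤ 3 := by
    intro i j
    show (if i = j then 1 else if Nodes.TypeD.Adj i j ∨ Nodes.TypeD.Adj j i then 3 else 2) ≤ 3
    split_ifs <;> norm_num
  exact hasFiltM_of_sl (Nodes.TypeD.finite_W (Nodes.TypeD.M (n + 1)).toCoxeterSystem)
    (rgdD_model (wplus (n + 3) F) hG (amb_plus _) (adm_plus _) _)
    (G1D_eq_top (wplus (n + 3) F) (toPOmega hG) (toPOmega_surjective hG) (adm_plus _) _)
    (fun i j h => by have := hc i j; omega) (fun i j h => by have := hc i j; omega)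

end Orthogonal

end Cfsg.Agent.H162.CCR.Fam

/-! ### exceptional groups -/

namespace Cfsg.Agent.H162.CCR.Fam

open CoxeterSystem Cfsg.Agent.ChevalleyStructure.CoxeterGeom Cfsg.Agent.Tits.Roots Cfsg.Agent.Tits.Core
  Cfsg.Agent.Tits.RootComb Cfsg.Agent.Nodes.Comb Cfsg.Agent.Nodes.Reps Cfsg.Agent.Nodes.BNOf
open Cfsg.Lie Cfsg.Agent.ChevalleyStructure Cfsg.Agent.ChevalleyStructure.Elts
  Cfsg.Agent.ChevalleyStructure.RootVec Cfsg.Agent.ChevalleyStructure.RootVecTab
  Cfsg.Agent.ChevalleyStructure.NPerm Cfsg.Agent.ChevalleyStructure.CoxeterGeomTypes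
open Cfsg.Agent.Nodes Cfsg.Agent.Nodes.RGDChev Cfsg.Agent.KFacts.RgdBorelTits Cfsg.Agent.KFacts.RgdFilt
open Cfsg.Agent.KFacts.RgdFiltChev

universe u

theorem hasFiltM_group {D : ChevalleyDatum} {l : ℕ} {M : CoxeterMatrix (Fin l)} (hp : IsType D l M) (K : Type u)
    [Field K] [Finite K] (p : ℕ) [CharP K p] : HasFiltM p ↥(D.group K) M := by
  have : Fact p.Prime := ⟨CharP.char_is_prime K p⟩
  exact ⟨cartanOf D l, hp.isCartan, _, _, _, rgd (K := K) hp M.toCoxeterSystem p, _,
    finite_W hp M.toCoxeterSystem, G1_eq_top hp _, filt hp M.toCoxeterSystem p⟩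

end Cfsg.Agent.H162.CCR.Fam

namespace Cfsg.Agent.H162.CCR.Fam

open CoxeterSystem Cfsg.Agent.ChevalleyStructure.CoxeterGeom Cfsg.Agent.Tits.Roots Cfsg.Agent.Tits.Core
  Cfsg.Agent.Nodes.BNOf Cfsg.Agent.Nodes.RGDTwGen Cfsg.Agent.Nodes.RGDChev Cfsg.Agent.Nodes.RGDFold
open Cfsg.Lie Cfsg.Agent.ChevalleyStructure Cfsg.Agent.ChevalleyStructure.Elts
  Cfsg.Agent.ChevalleyStructure.RootVec Cfsg.Agent.ChevalleyStructure.RootVecTab
open Cfsg.Agent.Nodes Cfsg.Agent.KFacts.RgdBorelTits Cfsg.Agent.KFacts.RgdFilt Cfsg.Agent.KFacts.RgdFiltTwAll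

universe u

section Fold

variable {D : ChevalleyDatum} {l : ℕ} {M' : CoxeterMatrix (Fin l)} {hp : IsType D l M'} {K : Type u} [Field K]
variable {m : ℕ} {M : CoxeterMatrix (Fin m)}
  {A : Fin m → Fin m → ℤ}
    {J : Fin m → List (Fin l)} {L : List (List ℕ)} {σ : GL D.Idx K →* GL D.Idx K} {ρ ρ' : ℕ → ℕ}
    {f : ℕ → K → K} {G : Subgroup (GL D.Idx K)} (FD : FoldData D M A J L)
    (FG : FoldGrp hp K J L σ ρ ρ' f G)

include FD FG

theorem hasFiltM_fold [Finite K] (p : ℕ) [CharP K p] (h : IsCartan M A) : HasFiltM p ↥G M := by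
  have : Fact p.Prime := ⟨CharP.char_is_prime K p⟩
  exact ⟨A, h, _, _, _, _root_.Cfsg.Agent.Nodes.RGDFold.rgd M.toCoxeterSystem h FD FG p, _, _root_.Cfsg.Agent.Nodes.RGDFold.finite_W (hp := hp) M.toCoxeterSystem h FD,
    _root_.Cfsg.Agent.Nodes.RGDFold.G1_eq_top M.toCoxeterSystem h FD FG p, filt_fold M.toCoxeterSystem h FD FG p⟩

end Fold

theorem hasFiltM_twD4 {K : Type u} [Field K] [Fintype K] {q : ℕ} (hq : IsPrimePow q) (hK : Fintype.card K = q ^ 3)
    (p : ℕ) [CharP K p] : HasFiltM p ↥(twistedD4 K q) CoxeterMatrix.G₂ := by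
  obtain ⟨φ, hφ⟩ := D4Fixed.exists_frob hq hK
  exact hasFiltM_fold RGDTwD4.foldData (RGDTwD4.foldGrp hφ (D4Fixed.twisted_le_fix hK hφ)) p RGDTwD4.isCartan

theorem hasFiltM_twE6 {K : Type u} [Field K] [Fintype K] {q : ℕ} (hq : IsPrimePow q) (hK : Fintype.card K = q ^ 2)
    (p : ℕ) [CharP K p] : HasFiltM p ↥(twistedE6 K q) CoxeterMatrix.F₄ := by
  obtain ⟨φ, hφ, hqq⟩ := TwE6Basic.exists_frob hq hK
  exact hasFiltM_fold RGDTwE6.foldData (RGDTwE6.foldGrp hφ hqq) p RGDTwE6.isCartan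

end Cfsg.Agent.H162.CCR.Fam
end

-- part: H804/CRow/Own
section
/-!
# S3828, task OWN: groups of Lie type of rank at least 2, `p` the characteristic (helper804)

* `crow_own_of_rgd2` : `HasRGD2 p G → CRow p G`;
* `own_cases` : `G` of Lie type of characteristic `p` (any prime, `2` included): `HasRGD2 p G'` for some `G' ≃ G`, or
  `G` is `PSL₂(F)`, `PSU₃(q)`, a Suzuki group, a Ree group `²F₄` (`p = 2`), or a Ree group `²G₂` (`p = 3`);
* `crow_own` : the corresponding statement for `CRow p G`.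
-/

set_option autoImplicit false
set_option linter.unusedSectionVars false

namespace Cfsg.Agent.H804.CRow

open Cfsg CoxeterSystem Cfsg.Agent.ChevalleyStructure.CoxeterGeom Cfsg.Agent.Tits.Roots Cfsg.Agent.Tits.Core
  Cfsg.Agent.Tits.RootComb Cfsg.Agent.Tits.Exchange Cfsg.Agent.Nodes.Reps Cfsg.Agent.Nodes.BNOf
  Cfsg.Agent.Nodes.StabComb Cfsg.Agent.Nodes.Bruhat Cfsg.Agent.Nodes.OppDec Cfsg.Agent.Nodes.LeviDec
  Cfsg.Agent.GammaTwo.Own Cfsg.Agent.H818.StrP.Own Cfsg.Agent.H162.CCR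

section Gen

variable {I W Y : Type*} [Fintype I] [DecidableEq I] [Group W] [Group Y] {M : CoxeterMatrix I}
  {cs : CoxeterSystem M W} {A : I → I → ℤ} {h : IsCartan M A} {r : ℕ} {T : Subgroup Y} {n : I → Y}
  {X : (I → ℤ) → Subgroup Y}

variable (R : RGD cs h r T n X)

include R

/-- **Generation by the minimal parabolic subgroups.** -/
theorem gen_PJ [Finite W] (hI : 2 ≤ Fintype.card I) (hG : GG cs h T X = ⊤)
    {Γ : Subgroup Y} (hP : ∀ i : I, PJ cs h T X {i} ≤ Γ) : Γ = ⊤ := by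
  have hn : Subgroup.closure (Set.range n) ≤ Γ := by
    rw [Subgroup.closure_le]
    rintro _ ⟨i, rfl⟩
    exact hP i (LJ_le_PJ (rp_mem_LJ R (simple_mem_WJ cs (Set.mem_singleton i)) (rp_simple cs R.nsys i)))
  have hne : Nonempty I := Fintype.card_pos_iff.1 (by omega)
  obtain ⟨i0⟩ := hne
  rw [eq_top_iff, ← hG]
  refine sup_le ((T_le_LJ.trans LJ_le_PJ).trans (hP i0)) (RGD.Sup_le ?_)
  rintro x ⟨w, i, rfl⟩
  obtain ⟨k, hk, hkw⟩ := exists_rp_closure (cs := cs) (hN := R.nsys) w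
  rw [← R.conj_rp hkw (isRoot_sr cs h i)]
  have h1 : X (sr i) ≤ Γ := by
    refine le_trans ?_ (hP i)
    exact (RGD.le_Sup (S := RGD.Pos cs h) ⟨isRoot_sr cs h i, sr_nonneg i⟩).trans (RGD.U_le_B.trans B_le_PJ)
  rw [← cj_eq_of_mem (hn hk)]
  exact cj_mono k h1

/-- `O_r(G) = 1` -/
theorem pCore_eq_bot [Finite W] [Finite Y] [Fact r.Prime] (hG : GG cs h T X = ⊤) : pCore r Y = ⊥ := by
  obtain ⟨S, hS⟩ := KFacts.RgdAutFacts.exists_sylow R hG
  have h1 : pCore r Y ≤ RGD.Sup X (RGD.Pos cs h) := by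
    rw [← hS]
    obtain ⟨Q, hQ⟩ := (Lib.Cores.pCore_isPGroup (G := Y) r).exists_le_sylow
    obtain ⟨g, rfl⟩ := MulAction.exists_smul_eq Y S Q
    intro x hx
    have h2 : g * x * g⁻¹ ∈ pCore r Y := Subgroup.Normal.conj_mem inferInstance x hx g
    have h3 := hQ h2
    rw [Sylow.coe_subgroup_smul] at h3
    obtain ⟨y, hy, hyx⟩ := h3
    have h4 : g * y * g⁻¹ = g * x * g⁻¹ := hyx
    have h5 : y = x := by
      have := congrArg (fun z => g⁻¹ * z * g) h4
      simpa only [mul_assoc, _root_.inv_mul_cancel_left, _root_.inv_mul_cancel, _root_.mul_one] using this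
    exact h5 ▸ hy
  obtain ⟨k, hk⟩ := exists_rp cs R.nsys (w0 cs)
  have h2 : pCore r Y ≤ UN cs h X := by
    rw [← cj_U R hk]
    intro x hx
    rw [mem_cj]
    have h3 : (k⁻¹) * x * (k⁻¹)⁻¹ ∈ pCore r Y := Subgroup.Normal.conj_mem inferInstance x hx k⁻¹
    rw [inv_inv] at h3
    exact h1 h3
  rw [eq_bot_iff, ← U_inf_UN R]
  exact le_inf h1 h2

end Gen

/-- **Own characteristic, root group data of rank at least two.** -/
theorem crow_own_of_rgd2 {p : ℕ} [Fact p.Prime] {G : Type*} [Group G] [Finite G] (hG : HasRGD2 p G) : CRow p G := by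
  obtain ⟨l, M, A, h, T, n, X, R, hl, hW, hX⟩ := hG
  have hT := KFacts.RgdFilt.GG_eq_top (T := T) hX
  have hO := pCore_eq_bot R hT
  have hI : 2 ≤ Fintype.card (Fin l) := by rwa [Fintype.card_fin]
  obtain ⟨S, hS⟩ := KFacts.RgdAutFacts.exists_sylow R hT
  intro C hC c hc
  by_contra hc1
  -- a conjugate of `c` lies in `U`
  obtain ⟨Q, hQ⟩ := (hC.isPGroup_zpowers hc).exists_le_sylow
  obtain ⟨g, rfl⟩ := MulAction.exists_smul_eq G S Q
  have hcQ := hQ (Subgroup.mem_zpowers c)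
  rw [Sylow.coe_subgroup_smul] at hcQ
  obtain ⟨d, hd, hdc⟩ := hcQ
  have hdc' : g * d * g⁻¹ = c := hdc
  have hdC : d ∈ C := by
    have := hC.conj_mem' g hc
    rw [← hdc'] at this
    have e : g⁻¹ * (g * d * g⁻¹) * g = d := by group
    rwa [e] at this
  have hd1 : d ≠ 1 := by
    rintro rfl
    apply hc1
    rw [← hdc']
    group
  have hdS : d ∈ (S : Subgroup G) := hd
  refine hC.M_ne_top hO hdC hd1 hdS (gen_PJ R hI hT fun i => ?_)
  refine hC.le_M hO hdC hd1 hdS ?_ ?_
  · intro htop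
    have h1 : Subgroup.normalizer ((VJ M.toCoxeterSystem h X {i} : Subgroup G) : Set G) ≠ ⊤ := by
      refine normalizer_ne_top hO (R.isPGroup_Upos.to_le (VJ_le_U {i})) (V_ne_bot R hI i)
    apply h1
    rw [eq_top_iff, ← htop]
    exact PJ_le_normalizer_VJ R {i}
  · have h2 : d ∈ RGD.Sup X (RGD.Pos M.toCoxeterSystem h) := hS ▸ hdS
    exact B_le_PJ (RGD.U_le_B h2)

section Orthogonal

open Cfsg.Agent.Nodes.Comb Cfsg.Agent.Nodes.WittRoot
open Cfsg.Agent.Nodes.RGDLib Cfsg.Agent.Nodes.WittAll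
open Cfsg.Agent.TitsThree Cfsg.Agent.TitsThree.Siegel Cfsg.Agent.TitsThree.WittFrame
  Cfsg.Agent.TitsThree.WittWeyl Cfsg.Agent.TitsThree.FrameCN
open Cfsg.Agent.KFacts.RgdBorelTits Cfsg.Agent.KFacts.RgdFilt Cfsg.Agent.KFacts.RgdFiltWitt
open Cfsg.Agent.Nodes.WittU Cfsg.Agent.Nodes.WittInst
open QuadraticMap
open Cfsg.Agent.LieClassical Cfsg.Agent.LieClassical.OrthCore Cfsg.Agent.LieClassical.OrthTrans
open Cfsg.Agent.LieClassical.OrthSimple Cfsg.Agent.LieClassical.OrthFinite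
open Cfsg.Agent.LieClassical.OrthForms
open Cfsg.Agent.TitsThree.WBridge Cfsg.Agent.TitsThree.KSideO Cfsg.Agent.TitsThree.StdData

variable {F : Type*} [Field F] {m : ℕ}

/-- the orthogonal groups of minus type, all characteristics -/
theorem hasRGD2_minus' [Finite F] (a b : F)
    (hab : ∀ z₁ z₂ : F, z₁ ^ 2 + a * z₁ * z₂ + b * z₂ ^ 2 = 0 → z₁ = 0 ∧ z₂ = 0)
    (hm : 2 ≤ m) {p : ℕ} [Fact p.Prime] [CharP F p] :
    HasRGD2 p (Cfsg.POmega F (Cfsg.quadFormMinus m F a b)) := by
  rw [← coe_minusForm]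
  have hG : LieClassical.OrthTrans.Good (minusForm m F a b) := by
    apply good_of_finite (nondeg_minusForm m F a b hab)
    rw [Module.finrank_fintype_fun_eq_card, Fintype.card_sum, Fintype.card_sum, Fintype.card_fin,
      Fintype.card_fin]
    omega
  have hp : ((embMinus m F a b hab).ngt ⟨(1, 0), -nf a b (1, 0), rfl⟩).c ≠ 0 := by
    change (1 : F)⁻¹ * (-nf a b (1, 0)) ≠ 0
    simp [nf]
  have hA : AmbT (toFrame (wminus m F a b hab)) p (E (minusForm m F a b)) := by
    by_cases h2 : (2 : F) = 0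
    · have hp2 : p = 2 := by
        have h3 : CharP F 2 := CharTwo.of_one_ne_zero_of_two_eq_zero one_ne_zero h2
        exact CharP.eq F ‹CharP F p› h3
      subst hp2
      exact ambT_O _ fun g hg hg2 hb => fixp_minus a b hab h2 hm hG hg hg2 hb
    · exact AmbT.of_amb (amb_O_of_two _ h2) p
  exact hasRGD2_C (model (wminus m F a b hab) hG ⟨_, hp⟩) hA hp hm

end Orthogonal

/-! ### The families -/

section Families

variable {p : ℕ} [hpp : Fact p.Prime]

theorem crow_own_psl {F : Type} [Field F] [Fintype F] [CharP F p] {n : ℕ} (hn : 3 ≤ n) :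
    CRow p (Matrix.ProjectiveSpecialLinearGroup (Fin n) F) := by
  obtain ⟨n, rfl⟩ : ∃ k, n = k + 1 := ⟨n - 1, by omega⟩
  have : Finite (Matrix.ProjectiveSpecialLinearGroup (Fin (n + 1)) F) := Quotient.finite _
  exact crow_own_of_rgd2 (hasRGD2_PSL n (by omega))

theorem crow_own_psp {F : Type} [Field F] [Fintype F] [CharP F p] {m : ℕ} (hm : 2 ≤ m) : CRow p (PSp m F) := by
  have : Finite (PSp m F) := Quotient.finite _
  exact crow_own_of_rgd2 (hasRGD2_PSp hm)

theorem crow_own_psu {F : Type} [Field F] [Fintype F] [CharP F p] {n q : ℕ} (hF : Fintype.card F = q ^ 2)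
    (hn : 4 ≤ n) : CRow p (PSU n F q) := by
  have : Finite (PSU n F q) := Quotient.finite _
  exact crow_own_of_rgd2 (hasRGD2_PSU hF hn)

theorem crow_own_odd {F : Type} [Field F] [Fintype F] [CharP F p] (h2 : (2 : F) ≠ 0) {m : ℕ} (hm : 2 ≤ m) :
    CRow p (Cfsg.POmega F (Cfsg.quadFormOdd m F)) := by
  have : Finite (Cfsg.POmega F (Cfsg.quadFormOdd m F)) := Quotient.finite _
  exact crow_own_of_rgd2 (hasRGD2_odd h2 hm)

theorem crow_own_plus {F : Type} [Field F] [Fintype F] [CharP F p] {m : ℕ} (hm : 3 ≤ m) :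
    CRow p (Cfsg.POmega F (Cfsg.quadFormPlus m F)) := by
  obtain ⟨n, rfl⟩ : ∃ n, m = n + 3 := ⟨m - 3, by omega⟩
  have : Finite (Cfsg.POmega F (Cfsg.quadFormPlus (n + 3) F)) := Quotient.finite _
  exact crow_own_of_rgd2 (hasRGD2_plus n)

/-- the group of dimension `2m + 2` -/
theorem crow_own_minus {F : Type} [Field F] [Fintype F] [CharP F p] (a b : F)
    (hab : ∀ z₁ z₂ : F, z₁ ^ 2 + a * z₁ * z₂ + b * z₂ ^ 2 = 0 → z₁ = 0 ∧ z₂ = 0) {m : ℕ} (hm : 2 ≤ m) :
    CRow p (Cfsg.POmega F (Cfsg.quadFormMinus m F a b)) := by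
  have : Finite (Cfsg.POmega F (Cfsg.quadFormMinus m F a b)) := Quotient.finite _
  exact crow_own_of_rgd2 (hasRGD2_minus' a b hab hm)

theorem crow_own_exceptional {G : Type*} [Group G] [Finite G] (hG : Cfsg.IsExceptionalChevChar p G) : CRow p G := by
  obtain ⟨G', _, _, h, ⟨e⟩⟩ := hasRGD2_exceptional hG
  exact CRow.of_equiv e (crow_own_of_rgd2 h)

theorem crow_own_twisted {G : Type*} [Group G] [Finite G] (hG : Cfsg.IsTwistedE6D4Char p G) : CRow p G := by
  obtain ⟨G', _, _, h, ⟨e⟩⟩ := hasRGD2_twisted hG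
  exact CRow.of_equiv e (crow_own_of_rgd2 h)

end Families

end Cfsg.Agent.H804.CRow
end

-- part: H541/CrowPsl2A
section
/-!
# S3828, `PSL₂(q)`: traces of commutators in `SL₂(q)` (helper541)
-/

set_option autoImplicit false

namespace Cfsg.Agent.H541.CrowPsl2

open Matrix Polynomial Cfsg.Agent.H145.SLTwo

variable {F : Type*} [Field F]

/-- the trace -/
def tr (A : _root_.Matrix.SpecialLinearGroup (Fin 2) F) : F := Matrix.trace (A : Matrix (Fin 2) (Fin 2) F)

theorem tr_def (A : _root_.Matrix.SpecialLinearGroup (Fin 2) F) : tr A = A 0 0 + A 1 1 := Matrix.trace_fin_two _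

theorem det_eq (A : _root_.Matrix.SpecialLinearGroup (Fin 2) F) : A 0 0 * A 1 1 - A 0 1 * A 1 0 = 1 := by
  have := A.2
  rw [Matrix.det_fin_two] at this
  exact this

theorem tr_conj (g A : _root_.Matrix.SpecialLinearGroup (Fin 2) F) : tr (g * A * g⁻¹) = tr A := _root_.Cfsg.Agent.H145.SLTwo.trace_conj g A

theorem tr_neg (A : _root_.Matrix.SpecialLinearGroup (Fin 2) F) : tr (-A) = - tr A := by
  rw [tr_def, tr_def, Matrix.SpecialLinearGroup.coe_neg, Matrix.neg_apply, Matrix.neg_apply]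
  ring

theorem tr_one : tr (1 : _root_.Matrix.SpecialLinearGroup (Fin 2) F) = 2 := by
  rw [tr_def]
  simp
  norm_num

/-- the trace of a commutator -/
theorem tr_comm (A B : _root_.Matrix.SpecialLinearGroup (Fin 2) F) : tr (A⁻¹ * B⁻¹ * A * B) =
    tr A ^ 2 + tr B ^ 2 + tr (A * B) ^ 2 - tr A * tr B * tr (A * B) - 2 := by
  have hA := det_eq A
  have hB := det_eq B
  simp only [tr_def, Matrix.SpecialLinearGroup.coe_mul, Matrix.SpecialLinearGroup.coe_inv, Matrix.adjugate_fin_two,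
    Matrix.mul_apply, Fin.sum_univ_two, Matrix.of_apply, Matrix.cons_val', Matrix.cons_val_zero, Matrix.cons_val_one,
    Matrix.cons_val_fin_one]
  obtain ⟨a, ha⟩ : ∃ a, a = A 0 0 := ⟨_, rfl⟩
  obtain ⟨b, hb⟩ : ∃ a, a = A 0 1 := ⟨_, rfl⟩
  obtain ⟨c, hc⟩ : ∃ a, a = A 1 0 := ⟨_, rfl⟩
  obtain ⟨d, hd⟩ : ∃ a, a = A 1 1 := ⟨_, rfl⟩
  obtain ⟨a', ha'⟩ : ∃ a, a = B 0 0 := ⟨_, rfl⟩
  obtain ⟨b', hb'⟩ : ∃ a, a = B 0 1 := ⟨_, rfl⟩
  obtain ⟨c', hc'⟩ : ∃ a, a = B 1 0 := ⟨_, rfl⟩
  obtain ⟨d', hd'⟩ : ∃ a, a = B 1 1 := ⟨_, rfl⟩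
  simp only [← ha, ← hb, ← hc, ← hd, ← ha', ← hb', ← hc', ← hd'] at hA hB ⊢
  linear_combination ((a' + d') ^ 2 - 2) * hA + ((a + d) ^ 2 - 2 * (a * d - b * c)) * hB

/-- a conic -/
theorem conic [Fintype F] {x : F} (hx : x ^ 2 ≠ 4) (y z : F) :
    ∃ a b : F, a ^ 2 + x * a * b + b ^ 2 - y * a - z * b + 1 = 0 := by
  by_cases h2 : (2 : F) = 0
  · have hc : CharP F 2 := by
      have : Fact (Nat.Prime 2) := ⟨Nat.prime_two⟩
      exact CharTwo.of_one_ne_zero_of_two_eq_zero one_ne_zero h2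
    have hx0 : x ≠ 0 := by
      rintro rfl
      apply hx
      linear_combination -2 * h2
    obtain ⟨b, hb⟩ := FiniteField.isSquare_of_char_two (F := F) (ringChar.eq_iff.2 hc)
      ((z / x) ^ 2 - y * (z / x) + 1)
    refine ⟨z / x, b, ?_⟩
    have h3 : x * (z / x) = z := mul_div_cancel₀ _ hx0
    linear_combination b * h3 + hb + b ^ 2 * h2
  · have h4 : (4 : F) ≠ 0 := by
      have : (4 : F) = 2 * 2 := by norm_num
      rw [this]
      exact mul_ne_zero h2 h2
    have hodd : Fintype.card F % 2 = 1 := by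
      apply FiniteField.odd_card_of_char_ne_two
      intro h5
      apply h2
      have : CharP F 2 := by rw [← h5]; infer_instance
      exact CharTwo.two_eq_zero
    obtain ⟨a, b, hab⟩ := FiniteField.exists_root_sum_quadratic
      (f := C 1 * X ^ 2 + C (-y) * X + C 1) (g := C (1 - x ^ 2 / 4) * X ^ 2 + C (x * y / 2 - z) * X + C 0)
      (Polynomial.degree_quadratic one_ne_zero) (Polynomial.degree_quadratic (by
        intro h
        apply hx
        field_simp at h
        linear_combination -h)) hodd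
    refine ⟨a - x * b / 2, b, ?_⟩
    simp only [_root_.map_one, _root_.one_mul, _root_.map_neg, _root_.neg_mul, _root_.Polynomial.eval_add, _root_.Polynomial.eval_pow, _root_.Polynomial.eval_X, _root_.Polynomial.eval_neg, _root_.Polynomial.eval_mul, _root_.Polynomial.eval_C, _root_.Polynomial.eval_one, _root_.map_sub, _root_.map_zero, _root_.add_zero, _root_.Polynomial.eval_sub] at hab
    field_simp at hab ⊢
    apply mul_left_cancel₀ h2
    linear_combination hab

theorem not_mem_center {A : _root_.Matrix.SpecialLinearGroup (Fin 2) F} (h : tr A ^ 2 ≠ 4) :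
    A ∉ Subgroup.center (_root_.Matrix.SpecialLinearGroup (Fin 2) F) := fun hA => h (trace_of_center hA)

/-- elements with the same trace are conjugate -/
theorem conj_all [Fintype F] {A B : _root_.Matrix.SpecialLinearGroup (Fin 2) F} (h : tr A = tr B) (h4 : tr A ^ 2 ≠ 4) :
    ∃ g : _root_.Matrix.SpecialLinearGroup (Fin 2) F, g * A * g⁻¹ = B := by
  have hA := not_mem_center h4
  have hB : B ∉ Subgroup.center (_root_.Matrix.SpecialLinearGroup (Fin 2) F) := not_mem_center (by rwa [← h])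
  rcases Nat.mod_two_eq_zero_or_one (Fintype.card F) with heven | hodd
  · obtain ⟨g, l, hl, hg⟩ := exists_nf A hA
    obtain ⟨k, m, hm, hk⟩ := exists_nf B hB
    obtain ⟨s, hs⟩ := FiniteField.isSquare_of_char_two (F := F) (FiniteField.even_card_iff_char_two.2 heven) (l / m)
    have hxy : m * s ^ 2 + Matrix.trace (A : Matrix (Fin 2) (Fin 2) F) * s * 0 + 0 ^ 2 * m⁻¹ = l := by
      have : m * (l / m) = l := mul_div_cancel₀ _ hm
      linear_combination this - m * hs
    obtain ⟨r, hr⟩ := nf_conj_of hm hl hxy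
    refine ⟨k⁻¹ * r * g, ?_⟩
    have h1 : k⁻¹ * r * g * A * (k⁻¹ * r * g)⁻¹ = k⁻¹ * (r * (g * A * g⁻¹) * r⁻¹) * k := by group
    have h2 : B = k⁻¹ * (k * B * k⁻¹) * k := by group
    rw [h1, hg, hr, h2, hk]
    have h' : Matrix.trace (A : Matrix (Fin 2) (Fin 2) F) = Matrix.trace (B : Matrix (Fin 2) (Fin 2) F) := h
    simp only [h']
  · exact conj_of_trace hodd hA hB h h4

/-- **two traces and the trace of the product** -/
theorem exists_conj_tr [Fintype F] {A B : _root_.Matrix.SpecialLinearGroup (Fin 2) F} (hA : tr A ^ 2 ≠ 4) (hB : tr B ^ 2 ≠ 4)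
    (z : F) : ∃ g : _root_.Matrix.SpecialLinearGroup (Fin 2) F, tr (A * (g * B * g⁻¹)) = z := by
  obtain ⟨g, l, hl, hg⟩ := exists_nf A (not_mem_center hA)
  have hgx : g * A * g⁻¹ = nf l (tr A) hl := hg
  obtain ⟨a, b, hab⟩ := conic hA (tr B) z
  have hdet : (tr B - a) * a - (b / l) * (l * (b + tr A * a - z)) = 1 := by
    field_simp
    linear_combination -hab
  set B' := mk2 _ _ _ _ hdet with hB'
  have htr : tr B' = tr B := by
    rw [tr_def]
    show (tr B - a) + a = tr B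
    ring
  obtain ⟨k, hk⟩ := conj_all (A := B) (B := B') htr.symm hB
  refine ⟨g⁻¹ * k, ?_⟩
  have h1 : A * (g⁻¹ * k * B * (g⁻¹ * k)⁻¹) = g⁻¹ * ((g * A * g⁻¹) * (k * B * k⁻¹)) * g⁻¹⁻¹ := by group
  rw [h1, tr_conj, hgx, hk, tr_def, Matrix.SpecialLinearGroup.coe_mul, Matrix.mul_apply, Matrix.mul_apply,
    Fin.sum_univ_two, Fin.sum_univ_two]
  show 0 * (tr B - a) + -l⁻¹ * (l * (b + tr A * a - z)) + (l * (b / l) + tr A * a) = z
  field_simp
  ring

/-- an element with an eigenvalue is conjugate to an upper triangular one -/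
theorem exists_conj_upper {A : _root_.Matrix.SpecialLinearGroup (Fin 2) F} {e : F} (he : e ^ 2 - tr A * e + 1 = 0) :
    ∃ g : _root_.Matrix.SpecialLinearGroup (Fin 2) F, (g * A * g⁻¹) 1 0 = 0 := by
  by_cases hc : A 1 0 = 0
  · exact ⟨1, by rwa [inv_one, mul_one, one_mul]⟩
  · have hd := det_eq A
    rw [tr_def] at he
    -- the eigenvector `(t, 1)`
    set t := (e - A 1 1) / A 1 0 with ht
    have htc : t * A 1 0 = e - A 1 1 := div_mul_cancel₀ _ hc
    have hdet : (0 : F) * t - 1 * (-1) = 1 := by ring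
    refine ⟨mk2 _ _ _ _ hdet, ?_⟩
    rw [Matrix.SpecialLinearGroup.coe_mul, Matrix.SpecialLinearGroup.coe_mul, Matrix.SpecialLinearGroup.coe_inv, mk2_coe]
    simp only [Matrix.mul_apply, Fin.sum_univ_two, Matrix.adjugate_fin_two, Matrix.of_apply, Matrix.cons_val',
      Matrix.cons_val_zero, Matrix.cons_val_one, Matrix.cons_val_fin_one]
    apply mul_left_cancel₀ hc
    linear_combination he + hd + (A 1 0 * t + (e - A 1 1) + (A 1 1 - A 0 0)) * htc

end Cfsg.Agent.H541.CrowPsl2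
end

-- part: H541/CrowPsl2B
section
/-!
# S3828, `PSL₂(q)`: sets of traces (helper541)
-/

set_option autoImplicit false

namespace Cfsg.Agent.H541.CrowPsl2

open Finset

section Odd

variable {F : Type*} [Field F] [Fintype F] [DecidableEq F]

/-- the values `u + 1/u` -/
theorem card_split (h2 : (2 : F) ≠ 0) (W : Finset F)
    (hW : ∀ u : F, u ≠ 0 → u ≠ 1 → u ≠ -1 → u + u⁻¹ ∉ W) : 2 * W.card ≤ Fintype.card F + 3 := by
  have h11 : (1 : F) ≠ -1 := by
    intro h
    apply h2
    linear_combination h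
  set S : Finset F := univ \ {0, 1, -1} with hS
  have hScard : S.card = Fintype.card F - 3 := by
    rw [hS, card_sdiff_of_subset (subset_univ _), card_univ]
    congr 1
    rw [card_insert_of_notMem, card_insert_of_notMem, card_singleton]
    · rw [mem_singleton]; exact h11
    · rw [mem_insert, mem_singleton]
      rintro (h | h)
      · exact zero_ne_one h
      · exact one_ne_zero (α := F) (by linear_combination h)
  have h1 : S.card ≤ 2 * (S.image fun u => u + u⁻¹).card := by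
    apply card_le_mul_card_image
    intro a ha
    obtain ⟨u, hu, rfl⟩ := mem_image.1 ha
    have hu0 : u ≠ 0 := by
      rintro rfl
      simp only [hS, _root_.Finset.mem_sdiff, _root_.Finset.mem_univ, _root_.Finset.mem_insert, _root_.zero_ne_one, _root_.Finset.mem_singleton, _root_.zero_eq_neg, _root_.one_ne_zero, _root_.or_self, _root_.or_false, _root_.not_true_eq_false, _root_.and_false] at hu
    refine (card_le_card (t := {u, u⁻¹}) ?_).trans card_le_two
    intro v hv
    rw [mem_filter] at hv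
    obtain ⟨hvS, hv⟩ := hv
    have hv0 : v ≠ 0 := by
      rintro rfl
      simp only [hS, _root_.Finset.mem_sdiff, _root_.Finset.mem_univ, _root_.Finset.mem_insert, _root_.zero_ne_one, _root_.Finset.mem_singleton, _root_.zero_eq_neg, _root_.one_ne_zero, _root_.or_self, _root_.or_false, _root_.not_true_eq_false, _root_.and_false] at hvS
    rw [mem_insert, mem_singleton]
    have h3 : (v - u) * (v * u - 1) = 0 := by
      field_simp at hv
      linear_combination hv
    rcases mul_eq_zero.1 h3 with h | h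
    · left; linear_combination h
    · right; exact eq_inv_of_mul_eq_one_left (by linear_combination h)
  have h2' : Disjoint W (S.image fun u => u + u⁻¹) := by
    rw [disjoint_left]
    intro a ha hb
    obtain ⟨u, hu, rfl⟩ := mem_image.1 hb
    simp only [hS, mem_sdiff, mem_univ, true_and, mem_insert, mem_singleton, not_or] at hu
    exact hW u hu.1 hu.2.1 hu.2.2 ha
  have h3 := card_le_univ (W ∪ S.image fun u => u + u⁻¹)
  rw [card_union_of_disjoint h2'] at h3
  omega

/-- a quadratic polynomial has many values -/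
theorem card_quad (b c : F) : Fintype.card F ≤ 2 * (univ.image fun z : F => z ^ 2 + b * z + c).card := by
  rw [← card_univ]
  apply card_le_mul_card_image
  intro a ha
  obtain ⟨u, -, rfl⟩ := mem_image.1 ha
  refine (card_le_card (t := {u, -b - u}) ?_).trans card_le_two
  intro v hv
  rw [mem_filter] at hv
  rw [mem_insert, mem_singleton]
  have h3 : (v - u) * (v + u + b) = 0 := by linear_combination hv.2
  rcases mul_eq_zero.1 h3 with h | h
  · left; linear_combination h
  · right; linear_combination h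

/-- translates of the squares -/
theorem card_inter (h2 : (2 : F) ≠ 0) {k k' : F} (hk : k ≠ k') (B : Finset F)
    (hB : ∀ t ∈ B, (∃ a, t = k + a ^ 2) ∧ ∃ b, t = k' + b ^ 2) : 4 * B.card ≤ Fintype.card F + 3 := by
  set d := k' - k with hd
  have hd0 : d ≠ 0 := by
    rw [hd]
    exact sub_ne_zero.2 hk.symm
  have h4 : (4 : F) ≠ 0 := by
    have : (4 : F) = 2 * 2 := by norm_num
    rw [this]
    exact mul_ne_zero h2 h2
  set S : Finset F := univ.erase 0 with hS
  have hScard : S.card = Fintype.card F - 1 := by rw [hS, card_erase_of_mem (mem_univ _), card_univ]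
  set φ : F → F := fun u => k + ((u + d / u) / 2) ^ 2 with hφ
  -- the fibres
  have key : ∀ a b : F, k + a ^ 2 = k' + b ^ 2 → a + b ≠ 0 ∧ φ (a + b) = k + a ^ 2 := by
    intro a b h
    have h5 : (a + b) * (a - b) = d := by rw [hd]; linear_combination h
    have h6 : a + b ≠ 0 := by
      intro h7
      rw [h7, zero_mul] at h5
      exact hd0 h5.symm
    refine ⟨h6, ?_⟩
    have h7 : d / (a + b) = a - b := by rw [← h5, mul_div_cancel_left₀ _ h6]
    rw [hφ]
    simp only
    rw [h7]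
    field_simp
    ring
  have hfib : ∀ t ∈ B, ∃ a b : F, t = k + a ^ 2 ∧ t = k' + b ^ 2 ∧ (∀ u ∈ ({a + b, a - b, -a + b, -a - b} : Finset F),
      u ∈ S ∧ φ u = t) := by
    intro t ht
    obtain ⟨⟨a, ha⟩, b, hb⟩ := hB t ht
    refine ⟨a, b, ha, hb, ?_⟩
    intro u hu
    rw [mem_insert, mem_insert, mem_insert, mem_singleton] at hu
    have h5 : k + a ^ 2 = k' + b ^ 2 := ha.symm.trans hb
    rcases hu with rfl | rfl | rfl | rfl
    · obtain ⟨h6, h7⟩ := key a b h5
      exact ⟨by simp [hS, h6], by rw [h7, ha]⟩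
    · obtain ⟨h6, h7⟩ := key a (-b) (by rw [neg_sq]; exact h5)
      rw [← sub_eq_add_neg] at h6 h7
      exact ⟨by simp [hS, h6], by rw [h7, ha]⟩
    · obtain ⟨h6, h7⟩ := key (-a) b (by rw [neg_sq]; exact h5)
      exact ⟨by simp [hS, h6], by rw [h7, neg_sq, ha]⟩
    · obtain ⟨h6, h7⟩ := key (-a) (-b) (by rw [neg_sq, neg_sq]; exact h5)
      rw [← sub_eq_add_neg] at h6 h7
      exact ⟨by simp [hS, h6], by rw [h7, neg_sq, ha]⟩
  set B1 := B.filter fun t => t = k ∨ t = k' with hB1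
  set B0 := B.filter fun t => ¬ (t = k ∨ t = k') with hB0
  have hBc : B.card = B1.card + B0.card := (card_filter_add_card_filter_not _).symm
  have hB1c : B1.card ≤ 2 := by
    refine (card_le_card (t := {k, k'}) ?_).trans card_le_two
    intro t ht
    rw [mem_insert, mem_singleton]
    exact (mem_filter.1 ht).2
  set S1 := S.filter fun u => φ u ∈ B1
  set S0 := S.filter fun u => φ u ∈ B0
  have hS01 : S1.card + S0.card ≤ S.card := by
    rw [← card_union_of_disjoint]
    · exact card_le_card (union_subset (filter_subset _ _) (filter_subset _ _))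
    · rw [disjoint_left]
      intro u h5 h6
      have h7 := (mem_filter.1 (mem_filter.1 h5).2).2
      have h8 := (mem_filter.1 (mem_filter.1 h6).2).2
      exact h8 h7
  have h5 : 2 * B1.card ≤ S1.card := by
    apply mul_card_image_le_card_of_maps_to (f := φ)
    · intro u hu
      exact (mem_filter.1 hu).2
    · intro t ht
      obtain ⟨a, b, ha, hb, hu⟩ := hfib t (mem_filter.1 ht).1
      have h6 : ({a + b, -a - b} : Finset F).card = 2 := by
        apply card_pair
        intro h7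
        have h8 := (hu (a + b) (by simp only [_root_.Finset.mem_insert, _root_.add_left_inj, _root_.Finset.mem_singleton, _root_.true_or])).1
        have h9 : a + b = 0 := by
          apply mul_left_cancel₀ h2
          linear_combination h7
        rw [h9] at h8
        simp [hS] at h8
      rw [← h6]
      apply card_le_card
      intro u hu'
      have h7 : u ∈ ({a + b, a - b, -a + b, -a - b} : Finset F) := by
        rw [mem_insert, mem_singleton] at hu'
        rcases hu' with rfl | rfl <;> simp only [_root_.Finset.mem_insert, _root_.add_left_inj, _root_.Finset.mem_singleton, _root_.true_or, _root_.sub_left_inj, _root_.or_true]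
      obtain ⟨h8, h9⟩ := hu u h7
      rw [mem_filter, mem_filter]
      exact ⟨⟨h8, by rwa [h9]⟩, h9⟩
  have h6 : 4 * B0.card ≤ S0.card := by
    apply mul_card_image_le_card_of_maps_to (f := φ)
    · intro u hu
      exact (mem_filter.1 hu).2
    · intro t ht
      obtain ⟨a, b, ha, hb, hu⟩ := hfib t (mem_filter.1 ht).1
      have ht2 := (mem_filter.1 ht).2
      have ha0 : a ≠ 0 := by
        rintro rfl
        exact ht2 (Or.inl (by rw [ha]; ring))
      have hb0 : b ≠ 0 := by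
        rintro rfl
        exact ht2 (Or.inr (by rw [hb]; ring))
      have h7 : ∀ x : F, x ≠ 0 → 2 * x ≠ 0 := fun x hx => mul_ne_zero h2 hx
      have h8 : a + b ≠ 0 := by
        have := (hu (a + b) (by simp only [_root_.Finset.mem_insert, _root_.add_left_inj, _root_.Finset.mem_singleton, _root_.true_or])).1
        simpa only [hS, _root_.ne_eq, _root_.Finset.mem_erase, _root_.Finset.mem_univ, _root_.and_true] using this
      have h9 : a - b ≠ 0 := by
        have := (hu (a - b) (by simp only [_root_.Finset.mem_insert, _root_.Finset.mem_singleton, _root_.sub_left_inj, _root_.true_or, _root_.or_true])).1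
        simpa [hS] using this
      have h10 : ({a + b, a - b, -a + b, -a - b} : Finset F).card = 4 := by
        rw [card_insert_of_notMem, card_insert_of_notMem, card_insert_of_notMem, card_singleton]
        · rw [mem_singleton]
          intro h
          exact h7 b hb0 (by linear_combination h)
        · rw [mem_insert, mem_singleton]
          rintro (h | h)
          · exact h7 _ h9 (by linear_combination h)
          · exact h7 a ha0 (by linear_combination h)
        · rw [mem_insert, mem_insert, mem_singleton]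
          rintro (h | h | h)
          · exact h7 b hb0 (by linear_combination h)
          · exact h7 a ha0 (by linear_combination h)
          · exact h7 _ h8 (by linear_combination h)
      rw [← h10]
      apply card_le_card
      intro u hu'
      obtain ⟨h11, h12⟩ := hu u hu'
      rw [mem_filter, mem_filter]
      exact ⟨⟨h11, by rwa [h12]⟩, h12⟩
  omega

end Odd

/-- **Odd characteristic, `q ≥ 9`.** -/
theorem odd_false {F : Type*} [Field F] [Fintype F] (h2 : (2 : F) ≠ 0) (hodd : Fintype.card F % 2 = 1)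
    (hq : 9 ≤ Fintype.card F) (T : Set F) (hT : ∀ x ∈ T, ∀ e : F, e ^ 2 - x * e + 1 ≠ 0)
    (hc : ∀ x ∈ T, ∀ y ∈ T, ∀ z : F, x ^ 2 + y ^ 2 + z ^ 2 - x * y * z - 2 ∈ T ∨
      x ^ 2 + y ^ 2 + z ^ 2 - x * y * z - 2 = 2 ∨ x ^ 2 + y ^ 2 + z ^ 2 - x * y * z - 2 = -2) : T = ∅ := by
  classical
  rw [Set.eq_empty_iff_forall_notMem]
  intro x hx
  have h4 : (4 : F) ≠ 0 := by
    have : (4 : F) = 2 * 2 := by norm_num
    rw [this]
    exact mul_ne_zero h2 h2
  have hsq : ∀ y ∈ T, y ^ 2 ≠ 4 := by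
    intro y hy h
    apply hT y hy (y / 2)
    field_simp
    linear_combination -h
  -- the set `W`
  set W : Finset F := univ.filter fun t => t ∈ T ∨ t = 2 ∨ t = -2 with hW
  have hWc : 2 * W.card ≤ Fintype.card F + 3 := by
    apply card_split h2
    intro u hu0 hu1 hu2 hu
    rw [hW, mem_filter] at hu
    rcases hu.2 with h | h | h
    · apply hT _ h u
      field_simp
      ring
    · apply hu1
      have h3 : (u - 1) ^ 2 = 0 := by
        field_simp at h
        linear_combination h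
      have := pow_eq_zero_iff (by norm_num) |>.1 h3
      linear_combination this
    · apply hu2
      have h3 : (u + 1) ^ 2 = 0 := by
        field_simp at h
        linear_combination h
      have := pow_eq_zero_iff (by norm_num) |>.1 h3
      linear_combination this
  -- the sets `A y`
  set A : F → Finset F := fun y => univ.image fun z : F => z ^ 2 + (-(x * y)) * z + (x ^ 2 + y ^ 2 - 2) with hA
  have hAW : ∀ y ∈ T, A y ⊆ W := by
    intro y hy t ht
    obtain ⟨z, -, rfl⟩ := mem_image.1 ht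
    rw [hW, mem_filter]
    refine ⟨mem_univ _, ?_⟩
    have h3 := hc x hx y hy z
    have h5 : z ^ 2 + -(x * y) * z + (x ^ 2 + y ^ 2 - 2) = x ^ 2 + y ^ 2 + z ^ 2 - x * y * z - 2 := by ring
    rw [h5]
    exact h3
  have hAc : ∀ y, Fintype.card F ≤ 2 * (A y).card := fun y => card_quad _ _
  -- the traces are `± x`
  have hT2 : ∀ y ∈ T, y ^ 2 = x ^ 2 := by
    intro y hy
    by_contra hne
    have h3 : 4 * (A x ∩ A y).card ≤ Fintype.card F + 3 := by
      apply card_inter h2 (k := 2 - (x ^ 2 - 4) * (x ^ 2 - 4) / 4) (k' := 2 - (x ^ 2 - 4) * (y ^ 2 - 4) / 4)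
      · intro h
        apply hne
        have h5 : (x ^ 2 - 4) * (x ^ 2 - y ^ 2) = 0 := by
          field_simp at h
          linear_combination -h
        rcases mul_eq_zero.1 h5 with h6 | h6
        · exact absurd (by linear_combination h6) (hsq x hx)
        · linear_combination -h6
      · intro t ht
        obtain ⟨h5, h6⟩ := mem_inter.1 ht
        obtain ⟨z, -, rfl⟩ := mem_image.1 h5
        obtain ⟨z', -, hz'⟩ := mem_image.1 h6
        refine ⟨⟨z - x ^ 2 / 2, ?_⟩, z' - x * y / 2, ?_⟩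
        · field_simp
          ring
        · rw [← hz']
          field_simp
          ring
    have h5 := card_union_add_card_inter (A x) (A y)
    have h6 := card_le_card (union_subset (hAW x hx) (hAW y hy))
    have h7 := hAc x
    have h8 := hAc y
    omega
  have h3 : W.card ≤ 4 := by
    refine (card_le_card (t := {x, -x, 2, -2}) ?_).trans card_le_four
    intro t ht
    rw [hW, mem_filter] at ht
    rw [mem_insert, mem_insert, mem_insert, mem_singleton]
    rcases ht.2 with h | h | h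
    · have h5 : (t - x) * (t + x) = 0 := by linear_combination hT2 t h
      rcases mul_eq_zero.1 h5 with h6 | h6
      · left; linear_combination h6
      · right; left; linear_combination h6
    · right; right; left; exact h
    · right; right; right; exact h
  have h5 := card_le_card (hAW x hx)
  have h6 := hAc x
  omega

/-- **Characteristic two, `q ≥ 8`.** -/
theorem even_false {F : Type*} [Field F] [Fintype F] (h2 : (2 : F) = 0)
    (hq : 8 ≤ Fintype.card F) (T : Set F) (hT : ∀ x ∈ T, ∀ e : F, e ^ 2 + x * e + 1 ≠ 0)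
    (hc : ∀ x ∈ T, ∀ z : F, z ^ 2 + x ^ 2 * z ∈ T ∨ z ^ 2 + x ^ 2 * z = 0) : T = ∅ := by
  classical
  rw [Set.eq_empty_iff_forall_notMem]
  intro x hx
  have hT0 : ∀ y ∈ T, y ≠ 0 := by
    rintro y hy rfl
    exact hT 0 hy 1 (by linear_combination h2)
  -- the set `W`
  set W : Finset F := univ.filter fun t => t ∈ T ∨ t = 0 with hW
  have hWc : 2 * W.card ≤ Fintype.card F + 2 := by
    set S : Finset F := univ \ {0, 1} with hS
    have hScard : S.card = Fintype.card F - 2 := by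
      rw [hS, card_sdiff_of_subset (subset_univ _), card_univ]
      congr 1
      exact card_pair zero_ne_one
    have h1 : S.card ≤ 2 * (S.image fun u => u + u⁻¹).card := by
      apply card_le_mul_card_image
      intro a ha
      obtain ⟨u, hu, rfl⟩ := mem_image.1 ha
      have hu0 : u ≠ 0 := by
        rintro rfl
        simp [hS] at hu
      refine (card_le_card (t := {u, u⁻¹}) ?_).trans card_le_two
      intro v hv
      rw [mem_filter] at hv
      obtain ⟨hvS, hv⟩ := hv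
      have hv0 : v ≠ 0 := by
        rintro rfl
        simp only [hS, _root_.Finset.mem_sdiff, _root_.Finset.mem_univ, _root_.Finset.mem_insert, _root_.Finset.mem_singleton, _root_.zero_ne_one, _root_.or_false, _root_.not_true_eq_false, _root_.and_false] at hvS
      rw [mem_insert, mem_singleton]
      have h3 : (v - u) * (v * u - 1) = 0 := by
        field_simp at hv
        linear_combination hv
      rcases mul_eq_zero.1 h3 with h | h
      · left; linear_combination h
      · right; exact eq_inv_of_mul_eq_one_left (by linear_combination h)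
    have h2' : Disjoint W (S.image fun u => u + u⁻¹) := by
      rw [disjoint_left]
      intro a ha hb
      obtain ⟨u, hu, rfl⟩ := mem_image.1 hb
      simp only [hS, mem_sdiff, mem_univ, true_and, mem_insert, mem_singleton, not_or] at hu
      have hu0 := hu.1
      rcases (mem_filter.1 ha).2 with h | h
      · apply hT _ h u
        field_simp
        linear_combination (1 + u ^ 2) * h2
      · apply hu.2
        have h3 : (u - 1) ^ 2 = 0 := by
          field_simp at h
          linear_combination h - u * h2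
        have := pow_eq_zero_iff (by norm_num) |>.1 h3
        linear_combination this
    have h3 := card_le_univ (W ∪ S.image fun u => u + u⁻¹)
    rw [card_union_of_disjoint h2'] at h3
    omega
  -- the additive groups
  let H : F → AddSubgroup F := fun y => AddMonoidHom.range
    ({ toFun := fun z => z ^ 2 + y ^ 2 * z
       map_zero' := by ring
       map_add' := fun a b => by linear_combination a * b * h2 } : F →+ F)
  have hHmem : ∀ y t, t ∈ H y ↔ ∃ z, z ^ 2 + y ^ 2 * z = t := fun y t => Iff.rfl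
  have hHW : ∀ y ∈ T, (H y : Set F) ⊆ (W : Set F) := by
    rintro y hy _ ⟨z, rfl⟩
    simp only [hW, coe_filter, mem_univ, true_and, Set.mem_setOf_eq]
    exact hc y hy z
  have hHc : ∀ y ∈ T, 2 * Nat.card (H y) = Fintype.card F := by
    intro y hy
    have hy0 := hT0 y hy
    have h3 : Nat.card (H y) * Nat.card (AddMonoidHom.ker
        ({ toFun := fun z => z ^ 2 + y ^ 2 * z
           map_zero' := by ring
           map_add' := fun a b => by linear_combination a * b * h2 } : F →+ F)) = Nat.card F := by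
      rw [← AddSubgroup.index_ker]
      exact AddSubgroup.index_mul_card _
    have h4 : Nat.card (AddMonoidHom.ker
        ({ toFun := fun z => z ^ 2 + y ^ 2 * z
           map_zero' := by ring
           map_add' := fun a b => by linear_combination a * b * h2 } : F →+ F)) = 2 := by
      have h5 : ((AddMonoidHom.ker
        ({ toFun := fun z => z ^ 2 + y ^ 2 * z
           map_zero' := by ring
           map_add' := fun a b => by linear_combination a * b * h2 } : F →+ F) : AddSubgroup F) : Set F) =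
          {0, y ^ 2} := by
        ext z
        rw [SetLike.mem_coe, AddMonoidHom.mem_ker, Set.mem_insert_iff, Set.mem_singleton_iff]
        show z ^ 2 + y ^ 2 * z = 0 ↔ _
        constructor
        · intro h
          have h6 : z * (z - y ^ 2) = 0 := by linear_combination h - z * y ^ 2 * h2
          rcases mul_eq_zero.1 h6 with h7 | h7
          · exact Or.inl h7
          · right; linear_combination h7
        · rintro (rfl | rfl)
          · ring
          · linear_combination y ^ 4 * h2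
      have h6 := Set.ncard_pair (a := (0 : F)) (b := y ^ 2) (pow_ne_zero 2 hy0).symm
      rw [← h5] at h6
      exact h6
    rw [h4] at h3
    rw [← Nat.card_eq_fintype_card, ← h3, mul_comm]
  have hxn : (H x : Set F).ncard = Nat.card (H x) := rfl
  -- only one trace
  have hT1 : ∀ y ∈ T, y = x := by
    intro y hy
    by_contra hne
    have h3 : Nat.card (H x ⊓ H y : AddSubgroup F) ∣ Nat.card (H x) := AddSubgroup.card_dvd_of_le inf_le_left
    have h4 : H x ⊓ H y ≠ H x := by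
      intro h
      -- `H x ≤ H y`
      have h5 : ∀ t, t ∈ H y := by
        intro t
        have hne' : x ^ 2 + y ^ 2 ≠ 0 := by
          intro h6
          have h7 : (y - x) ^ 2 = 0 := by linear_combination h6 - x * y * h2
          have := pow_eq_zero_iff (by norm_num) |>.1 h7
          exact hne (by linear_combination this)
        set c := x ^ 2 + y ^ 2 with hcdef
        -- every element is `w ^ 2 + y ^ 2 * w` divided by ...
        have h6 : ∀ z : F, c * z ∈ H y := by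
          intro z
          have h7 : z ^ 2 + x ^ 2 * z ∈ H x := ⟨z, rfl⟩
          rw [← h] at h7
          have h8 := h7.2
          have h9 : z ^ 2 + y ^ 2 * z ∈ H y := ⟨z, rfl⟩
          have h10 := add_mem h8 h9
          have h11 : z ^ 2 + x ^ 2 * z + (z ^ 2 + y ^ 2 * z) = c * z := by
            rw [hcdef]
            linear_combination z ^ 2 * h2
          rwa [h11] at h10
        have h7 := h6 (t / c)
        rwa [mul_div_cancel₀ _ hne'] at h7
      have h6 : H y = ⊤ := by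
        rw [eq_top_iff]
        intro t _
        exact h5 t
      have h7 := hHc y hy
      rw [h6, AddSubgroup.card_top, Nat.card_eq_fintype_card] at h7
      omega
    obtain ⟨m, hm⟩ := h3
    have h5 : m ≠ 1 := by
      rintro rfl
      apply h4
      rw [mul_one] at hm
      exact AddSubgroup.eq_of_le_of_card_ge inf_le_left hm.le
    have h6 := hHc x hx
    have h7 := hHc y hy
    have h8 := Set.ncard_union_add_ncard_inter (H x : Set F) (H y : Set F)
    have h9 : ((H x : Set F) ∩ (H y : Set F)).ncard = Nat.card (H x ⊓ H y : AddSubgroup F) := rfl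
    have h10 : ((H x : Set F) ∪ (H y : Set F)).ncard ≤ W.card := by
      rw [← Set.ncard_coe_finset]
      exact Set.ncard_le_ncard (Set.union_subset (hHW x hx) (hHW y hy)) (Set.toFinite _)
    have h11 : (H y : Set F).ncard = Nat.card (H y) := rfl
    rw [hxn, h11, h9] at h8
    have h12 : 2 ≤ m := by
      have : m ≠ 0 := by
        rintro rfl
        omega
      omega
    have h13 : Nat.card (H x ⊓ H y : AddSubgroup F) * 2 ≤ Nat.card (H x ⊓ H y : AddSubgroup F) * m :=
      Nat.mul_le_mul_left _ h12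
    omega
  have h3 : W.card ≤ 2 := by
    refine (card_le_card (t := {x, 0}) ?_).trans card_le_two
    intro t ht
    rw [mem_insert, mem_singleton]
    rcases (mem_filter.1 ht).2 with h | h
    · exact Or.inl (hT1 t h)
    · exact Or.inr h
  have h5 : (H x : Set F).ncard ≤ W.card := by
    rw [← Set.ncard_coe_finset]
    exact Set.ncard_le_ncard (hHW x hx) (Set.toFinite _)
  have h6 := hHc x hx
  omega

end Cfsg.Agent.H541.CrowPsl2
end

-- part: H541/CrowPsl2
section
/-!
# S3828, the row of `PSL₂(q)` (helper541)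
-/

set_option autoImplicit false

namespace Cfsg.Agent.H541.CrowPsl2

open Matrix Cfsg.Agent.H162.CCR Cfsg.Agent.H145.SLTwo Cfsg Cfsg.Agent.Lib.Cores

variable {F : Type*} [Field F] {p : ℕ}

/-- the projection -/
abbrev pr (F : Type*) [Field F] : _root_.Matrix.SpecialLinearGroup (Fin 2) F →* ProjectiveSpecialLinearGroup (Fin 2) F :=
  QuotientGroup.mk' _

theorem pr_eq_one {A : _root_.Matrix.SpecialLinearGroup (Fin 2) F} : pr F A = 1 ↔ A = 1 ∨ A = -1 := by
  rw [← ClassicalGeometry.PSL2Basic.mem_center_SL2_iff]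
  exact QuotientGroup.eq_one_iff A

theorem pr_neg (A : _root_.Matrix.SpecialLinearGroup (Fin 2) F) : pr F (-A) = pr F A := by
  have h : -A = (-1) * A := by rw [neg_mul, one_mul]
  rw [h, map_mul, pr_eq_one.2 (Or.inr rfl), one_mul]

/-- the traces of the elements of `C` -/
def Tr (C : Set (ProjectiveSpecialLinearGroup (Fin 2) F)) : Set F :=
  {t | ∃ A : _root_.Matrix.SpecialLinearGroup (Fin 2) F, pr F A ∈ C ∧ pr F A ≠ 1 ∧ tr A = t}

/-- an element of order dividing `r` and a power of `p` is trivial -/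
theorem eq_one_of_two_primes {G : Type*} [Group G] {p r k : ℕ} (hp : p.Prime) (hr : r.Prime) (hpr : p ≠ r) {x : G}
    (hx : orderOf x = p ^ k) (hx' : x ^ r = 1) : x = 1 := by
  have h1 : orderOf x ∣ r := orderOf_dvd_of_pow_eq_one hx'
  rcases (Nat.dvd_prime hr).1 h1 with h2 | h2
  · exact orderOf_eq_one_iff.1 h2
  · exfalso
    rw [hx] at h2
    have h3 : r ∣ p := hr.dvd_of_dvd_pow (n := k) (by rw [h2])
    exact hpr ((Nat.prime_dvd_prime_iff_eq hr hp).1 h3).symm

/-- the closure property -/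
theorem Tr_comm [Fintype F] {C : Set (ProjectiveSpecialLinearGroup (Fin 2) F)} (hC : _root_.Cfsg.Agent.H162.CCR.Min p C) {x y : F} (hx : x ∈ Tr C)
    (hy : y ∈ Tr C) (hx4 : x ^ 2 ≠ 4) (hy4 : y ^ 2 ≠ 4) (z : F) :
    x ^ 2 + y ^ 2 + z ^ 2 - x * y * z - 2 ∈ Tr C ∨ x ^ 2 + y ^ 2 + z ^ 2 - x * y * z - 2 = 2 ∨
      x ^ 2 + y ^ 2 + z ^ 2 - x * y * z - 2 = -2 := by
  obtain ⟨A, hA, hA1, rfl⟩ := hx
  obtain ⟨B, hB, hB1, rfl⟩ := hy
  obtain ⟨g, hg⟩ := exists_conj_tr hx4 hy4 z
  have hB' : pr F (g * B * g⁻¹) ∈ C := by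
    rw [map_mul, map_mul, map_inv]
    exact hC.conj _ _ hB
  have h1 := hC.comm _ hA _ hB'
  have h2 : (pr F A)⁻¹ * (pr F (g * B * g⁻¹))⁻¹ * pr F A * pr F (g * B * g⁻¹) =
      pr F (A⁻¹ * (g * B * g⁻¹)⁻¹ * A * (g * B * g⁻¹)) := by simp only [map_mul, map_inv]
  rw [h2] at h1
  have h3 := tr_comm A (g * B * g⁻¹)
  rw [hg, tr_conj] at h3
  by_cases h4 : pr F (A⁻¹ * (g * B * g⁻¹)⁻¹ * A * (g * B * g⁻¹)) = 1
  · right
    rcases pr_eq_one.1 h4 with h5 | h5
    · left
      rw [← h3, h5, tr_one]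
    · right
      rw [← h3, h5, tr_neg, tr_one]
  · left
    exact ⟨_, h1, h4, h3⟩

/-- upper triangular matrices -/
def borel (F : Type*) [Field F] : Subgroup (_root_.Matrix.SpecialLinearGroup (Fin 2) F) where
  carrier := {A | A 1 0 = 0}
  one_mem' := by
    show (1 : _root_.Matrix.SpecialLinearGroup (Fin 2) F) 1 0 = 0
    simp
  mul_mem' := by
    intro A B hA hB
    show (A * B) 1 0 = 0
    have hA' : A 1 0 = 0 := hA
    have hB' : B 1 0 = 0 := hB
    rw [Matrix.SpecialLinearGroup.coe_mul, Matrix.mul_apply, Fin.sum_univ_two, hA', hB']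
    ring
  inv_mem' := by
    intro A hA
    have hA' : A 1 0 = 0 := hA
    show A⁻¹ 1 0 = 0
    rw [Matrix.SpecialLinearGroup.coe_inv, Matrix.adjugate_fin_two]
    simp [hA']

/-- the translation -/
def uu (b : F) : _root_.Matrix.SpecialLinearGroup (Fin 2) F := mk2 1 b 0 1 (by ring)

theorem uu_mul (a b : F) : uu a * uu b = uu (a + b) := by
  apply Subtype.ext
  rw [Matrix.SpecialLinearGroup.coe_mul]
  show !![1, a; 0, 1] * !![1, b; 0, 1] = !![1, a + b; 0, 1]
  rw [Matrix.mul_fin_two]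
  ext i j
  (revert i j; simp [add_comm, _root_.Fin.forall_fin_succ])

theorem uu_zero : uu (0 : F) = 1 := by
  apply Subtype.ext
  show !![1, (0 : F); 0, 1] = _
  rw [Matrix.SpecialLinearGroup.coe_one, Matrix.one_fin_two]

theorem uu_pow (b : F) (n : ℕ) : uu b ^ n = uu (n * b) := by
  induction n with
  | zero => rw [pow_zero, Nat.cast_zero, zero_mul, uu_zero]
  | succ n ih =>
    rw [pow_succ, ih, uu_mul]
    congr 1
    push_cast
    ring

theorem uu_pow_char [Fintype F] (b : F) : uu b ^ ringChar F = 1 := by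
  rw [uu_pow, ringChar.Nat.cast_ringChar, zero_mul, uu_zero]

/-- `p` not the characteristic: no triangular elements -/
theorem eq_one_of_upper [Fintype F] (hp : p.Prime) (hpF : p ≠ ringChar F)
    {C : Set (ProjectiveSpecialLinearGroup (Fin 2) F)} (hC : _root_.Cfsg.Agent.H162.CCR.Min p C)
    {A : _root_.Matrix.SpecialLinearGroup (Fin 2) F} (hA : pr F A ∈ C) (h10 : A 1 0 = 0) : pr F A = 1 := by
  have hr : (ringChar F).Prime := CharP.char_is_prime F (ringChar F)
  set H : Subgroup (ProjectiveSpecialLinearGroup (Fin 2) F) := (borel F).map (pr F) with hH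
  have hHt : H ≠ ⊤ := by
    intro h
    obtain ⟨w, hw⟩ : ∃ w : _root_.Matrix.SpecialLinearGroup (Fin 2) F, w 1 0 = -1 := ⟨mk2 0 1 (-1) 0 (by ring), rfl⟩
    have h1 : pr F w ∈ H := by rw [h]; trivial
    obtain ⟨B, hB, hBw⟩ := h1
    have hB' : B 1 0 = 0 := hB
    have h2 : pr F (B⁻¹ * w) = 1 := by
      rw [map_mul, map_inv, hBw, inv_mul_cancel]
    have h3 : w = B ∨ w = -B := by
      rcases pr_eq_one.1 h2 with h4 | h4
      · left
        rw [inv_mul_eq_one] at h4
        exact h4.symm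
      · right
        rw [inv_mul_eq_iff_eq_mul, mul_neg, mul_one] at h4
        exact h4
    rcases h3 with h4 | h4
    · rw [h4, hB'] at hw
      exact one_ne_zero (α := F) (by linear_combination hw)
    · rw [h4, Matrix.SpecialLinearGroup.coe_neg, Matrix.neg_apply, hB'] at hw
      exact one_ne_zero (α := F) (by linear_combination hw)
  have hAH : pr F A ∈ H := ⟨A, h10, rfl⟩
  have h1 := hC.loc H hHt _ hA hAH
  have hdet := det_eq A
  rw [h10, mul_zero, sub_zero] at hdet
  -- the commutator with a translation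
  have hUH : pr F (uu 1) ∈ H := ⟨uu 1, rfl, rfl⟩
  have h2 : (⟨pr F A, hAH⟩ : H) * ((⟨pr F (uu 1), hUH⟩ : H) * (⟨pr F A, hAH⟩ : H)⁻¹ * (⟨pr F (uu 1), hUH⟩ : H)⁻¹) ∈
      pCore p H := mul_mem h1 ((inferInstance : (pCore p H).Normal).conj_mem _ (inv_mem h1) _)
  obtain ⟨k, hk⟩ := (pCore_isPGroup p (G := H)) ⟨_, h2⟩
  have hk' : (pr F A * (pr F (uu 1) * (pr F A)⁻¹ * (pr F (uu 1))⁻¹)) ^ p ^ k = 1 := by
    have h3 := congrArg (fun w : pCore p H => ((w : H) : ProjectiveSpecialLinearGroup (Fin 2) F)) hk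
    exact h3
  have h3 : pr F A * (pr F (uu 1) * (pr F A)⁻¹ * (pr F (uu 1))⁻¹) = pr F (A * uu 1 * A⁻¹ * (uu 1)⁻¹) := by
    simp only [map_mul, map_inv, mul_assoc]
  have h4 : A * uu 1 * A⁻¹ * (uu 1)⁻¹ = uu (A 0 0 ^ 2 - 1) := by
    rw [mul_inv_eq_iff_eq_mul, mul_inv_eq_iff_eq_mul, uu_mul]
    apply Subtype.ext
    rw [Matrix.SpecialLinearGroup.coe_mul, Matrix.SpecialLinearGroup.coe_mul,
      Matrix.eta_fin_two (A : Matrix (Fin 2) (Fin 2) F), h10]
    show _ * !![1, (1 : F); 0, 1] = !![1, A 0 0 ^ 2 - 1 + 1; 0, 1] * _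
    rw [Matrix.mul_fin_two, Matrix.mul_fin_two]
    ext i j
    (revert i j; simp only [_root_.Fin.forall_fin_succ, Fin.isValue, _root_.mul_one, _root_.MulZeroClass.mul_zero, _root_.add_zero, _root_.zero_add, _root_.Matrix.of_apply, _root_.Matrix.cons_val', _root_.Matrix.cons_val_fin_one, _root_.one_mul, _root_.sub_add_cancel, _root_.MulZeroClass.zero_mul, _root_.Matrix.cons_val_zero, _root_.Matrix.cons_val_succ, _root_.forall_const, _root_.implies_true, _root_.and_true, _root_.true_and]) <;> (repeat' with_reducible apply And.intro)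
    · linear_combination -(A 0 0) * hdet
  rw [h3, h4] at hk'
  have h5 : pr F (uu (A 0 0 ^ 2 - 1)) = 1 := by
    have h6 : orderOf (pr F (uu (A 0 0 ^ 2 - 1))) ∣ p ^ k := orderOf_dvd_of_pow_eq_one hk'
    obtain ⟨j, -, hj⟩ := (Nat.dvd_prime_pow hp).1 h6
    exact eq_one_of_two_primes hp hr hpF hj (by rw [← map_pow, uu_pow_char, map_one])
  have h6 : A 0 0 ^ 2 = 1 := by
    rcases pr_eq_one.1 h5 with h7 | h7
    · have h8 := congrArg (fun M : _root_.Matrix.SpecialLinearGroup (Fin 2) F => M 0 1) h7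
      have h9 : A 0 0 ^ 2 - 1 = 0 := by simpa only [uu, _root_.Fin.isValue, _root_.Cfsg.Agent.H145.SLTwo.mk2_coe, _root_.Matrix.of_apply, _root_.Matrix.cons_val', _root_.Matrix.cons_val_one, _root_.Matrix.cons_val_fin_one, _root_.Matrix.cons_val_zero, _root_.Matrix.SpecialLinearGroup.coe_one, _root_.ne_eq, _root_.zero_ne_one, _root_.not_false_eq_true, _root_.Matrix.one_apply_ne] using h8
      linear_combination h9
    · have h8 := congrArg (fun M : _root_.Matrix.SpecialLinearGroup (Fin 2) F => M 0 1) h7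
      have h9 : A 0 0 ^ 2 - 1 = 0 := by simpa only [uu, _root_.Fin.isValue, _root_.Cfsg.Agent.H145.SLTwo.mk2_coe, _root_.Matrix.of_apply, _root_.Matrix.cons_val', _root_.Matrix.cons_val_one, _root_.Matrix.cons_val_fin_one, _root_.Matrix.cons_val_zero, _root_.Matrix.SpecialLinearGroup.coe_neg, _root_.Matrix.SpecialLinearGroup.coe_one, _root_.Matrix.neg_apply, _root_.ne_eq, _root_.zero_ne_one, _root_.not_false_eq_true, _root_.Matrix.one_apply_ne, _root_.neg_zero] using h8
      linear_combination h9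
  -- so `A = ± uu`
  have h7 : A = uu (A 0 1 * A 0 0) ∨ A = - uu (A 0 1 * A 0 0) := by
    have h8 : (A 0 0 - 1) * (A 0 0 + 1) = 0 := by linear_combination h6
    rcases mul_eq_zero.1 h8 with h9 | h9
    · left
      have h10' : A 0 0 = 1 := by linear_combination h9
      rw [h10', one_mul] at hdet
      apply Subtype.ext
      rw [Matrix.eta_fin_two (A : Matrix (Fin 2) (Fin 2) F), h10, hdet, h10']
      show _ = !![1, A 0 1 * 1; 0, 1]
      rw [mul_one]
    · right
      have h10' : A 0 0 = -1 := by linear_combination h9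
      rw [h10'] at hdet
      have h11 : A 1 1 = -1 := by linear_combination -hdet
      apply Subtype.ext
      rw [Matrix.SpecialLinearGroup.coe_neg, Matrix.eta_fin_two (A : Matrix (Fin 2) (Fin 2) F), h10, h11, h10']
      show _ = - !![1, A 0 1 * -1; 0, 1]
      ext i j
      (revert i j; simp only [_root_.Fin.forall_fin_succ, Fin.isValue, _root_.Matrix.of_apply, _root_.Matrix.cons_val', _root_.Matrix.cons_val_fin_one, _root_.mul_neg, _root_.mul_one, _root_.Matrix.neg_apply, _root_.Matrix.cons_val_zero, _root_.Matrix.cons_val_succ, _root_.forall_const, _root_.neg_neg, _root_.and_self, _root_.neg_zero, _root_.implies_true])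
  obtain ⟨k', hk2⟩ := hC.pel _ hA
  refine eq_one_of_two_primes hp hr hpF hk2 ?_
  rcases h7 with h8 | h8
  · rw [h8, ← map_pow, uu_pow_char, map_one]
  · rw [h8, pr_neg, ← map_pow, uu_pow_char, map_one]

/-- `p` not the characteristic: elliptic elements -/
theorem elliptic [Fintype F] (hp : p.Prime) (hpF : p ≠ ringChar F)
    {C : Set (ProjectiveSpecialLinearGroup (Fin 2) F)} (hC : _root_.Cfsg.Agent.H162.CCR.Min p C) {x : F} (hx : x ∈ Tr C) (e : F) :
    e ^ 2 - x * e + 1 ≠ 0 := by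
  intro he
  obtain ⟨A, hA, hA1, rfl⟩ := hx
  obtain ⟨g, hg⟩ := exists_conj_upper he
  apply hA1
  have h1 : pr F (g * A * g⁻¹) ∈ C := by
    rw [map_mul, map_mul, map_inv]
    exact hC.conj _ _ hA
  have h2 := eq_one_of_upper hp hpF hC h1 hg
  rw [map_mul, map_mul, map_inv, mul_inv_eq_one, mul_eq_left] at h2
  exact h2

/-- no traces, no elements -/
theorem eq_one_of_Tr {C : Set (ProjectiveSpecialLinearGroup (Fin 2) F)} (h : Tr C = ∅) : ∀ c ∈ C, c = 1 := by
  intro c hc
  by_contra hc1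
  obtain ⟨A, rfl⟩ := QuotientGroup.mk'_surjective _ c
  have : tr A ∈ Tr C := ⟨A, hc, hc1, rfl⟩
  rw [h] at this
  exact this

theorem pCore_eq_bot [Fintype F] (h4 : 4 ≤ Fintype.card F) (p : ℕ) [Fact p.Prime] :
    pCore p (ProjectiveSpecialLinearGroup (Fin 2) F) = ⊥ := by
  have hs := H183.OutPSL.simple_psl (n := 2) (F := F) le_rfl fun _ => h4
  have hZ := H183.OutPSL.center_psl (n := 2) (F := F) le_rfl fun _ => h4
  refine pCore_eq_bot_of_simple ?_ p
  intro hab
  have : (⊤ : Subgroup (ProjectiveSpecialLinearGroup (Fin 2) F)) = ⊥ := by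
    rw [← hZ, eq_comm, eq_top_iff]
    intro x _
    rw [Subgroup.mem_center_iff]
    intro g
    exact hab.is_comm.comm g x
  exact bot_ne_top this.symm

theorem five_check : ∀ x : ZMod 5, (∀ e : ZMod 5, e ^ 2 - x * e + 1 ≠ 0) →
    ∃ z e : ZMod 5, x ^ 2 + x ^ 2 + z ^ 2 - x * x * z - 2 ≠ 2 ∧ x ^ 2 + x ^ 2 + z ^ 2 - x * x * z - 2 ≠ -2 ∧
      e ^ 2 - (x ^ 2 + x ^ 2 + z ^ 2 - x * x * z - 2) * e + 1 = 0 := by decide

theorem seven_check : ∀ x : ZMod 7, x ≠ 0 → (∀ e : ZMod 7, e ^ 2 - x * e + 1 ≠ 0) →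
    ∃ z e : ZMod 7, x ^ 2 + x ^ 2 + z ^ 2 - x * x * z - 2 ≠ 2 ∧ x ^ 2 + x ^ 2 + z ^ 2 - x * x * z - 2 ≠ -2 ∧
      e ^ 2 - (x ^ 2 + x ^ 2 + z ^ 2 - x * x * z - 2) * e + 1 = 0 := by decide +kernel

/-- transport -/
theorem small_check [Fintype F] {m : ℕ} (e : ZMod m ≃+* F) {x : F}
    (h : ∃ z d : ZMod m, (e.symm x) ^ 2 + (e.symm x) ^ 2 + z ^ 2 - (e.symm x) * (e.symm x) * z - 2 ≠ 2 ∧
      (e.symm x) ^ 2 + (e.symm x) ^ 2 + z ^ 2 - (e.symm x) * (e.symm x) * z - 2 ≠ -2 ∧
      d ^ 2 - ((e.symm x) ^ 2 + (e.symm x) ^ 2 + z ^ 2 - (e.symm x) * (e.symm x) * z - 2) * d + 1 = 0) :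
    ∃ z d : F, x ^ 2 + x ^ 2 + z ^ 2 - x * x * z - 2 ≠ 2 ∧ x ^ 2 + x ^ 2 + z ^ 2 - x * x * z - 2 ≠ -2 ∧
      d ^ 2 - (x ^ 2 + x ^ 2 + z ^ 2 - x * x * z - 2) * d + 1 = 0 := by
  obtain ⟨z, d, h1, h2, h3⟩ := h
  have key : e ((e.symm x) ^ 2 + (e.symm x) ^ 2 + z ^ 2 - (e.symm x) * (e.symm x) * z - 2) =
      x ^ 2 + x ^ 2 + (e z) ^ 2 - x * x * (e z) - 2 := by
    simp only [map_sub, map_add, map_mul, map_pow, e.apply_symm_apply, map_ofNat]
  refine ⟨e z, e d, ?_, ?_, ?_⟩
  · rw [← key]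
    intro h4
    apply h1
    apply e.injective
    rw [h4, map_ofNat]
  · rw [← key]
    intro h4
    apply h2
    apply e.injective
    rw [h4, map_neg, map_ofNat]
  · rw [← key, ← map_pow, ← map_mul, ← map_sub, ← map_one e, ← map_add, h3, map_zero]

/-- **`p` not the characteristic.** -/
theorem crow_cross [Fintype F] (h4 : 4 ≤ Fintype.card F) [hp : Fact p.Prime] (hpF : p ≠ ringChar F) :
    CRow p (ProjectiveSpecialLinearGroup (Fin 2) F) := by
  intro C hC
  apply eq_one_of_Tr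
  have hell : ∀ x ∈ Tr C, ∀ e : F, e ^ 2 - x * e + 1 ≠ 0 := fun x hx e => elliptic hp.out hpF hC hx e
  have hO := pCore_eq_bot (F := F) h4 p
  -- involutions
  have hne0 : (0 : F) ∉ Tr C := by
    rintro ⟨A, hA, hA1, h0⟩
    apply hA1
    have h5 : A ^ 2 = -1 := ClassicalGeometry.PSL2Basic.sl2_sq_of_trace_zero h0
    have h6 : pr F A * pr F A = 1 := by
      rw [← map_mul, ← pow_two, h5]
      exact pr_eq_one.2 (Or.inr rfl)
    by_cases h2 : p = 2
    · subst h2
      exact hC.sq_ne_one hO hA h6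
    · obtain ⟨k, hk⟩ := hC.pel _ hA
      exact eq_one_of_two_primes hp.out Nat.prime_two h2 hk (by rw [pow_two, h6])
  by_cases h2 : (2 : F) = 0
  · -- characteristic two
    have hsq : ∀ x ∈ Tr C, x ^ 2 ≠ 4 := by
      intro x hx h
      have h5 : x ^ 2 = 0 := by linear_combination h + 2 * h2
      have h6 : x = 0 := pow_eq_zero_iff (by norm_num) |>.1 h5
      rw [h6] at hx
      exact hne0 hx
    have hc : CharP F 2 := by
      have : Fact (Nat.Prime 2) := ⟨Nat.prime_two⟩
      exact CharTwo.of_one_ne_zero_of_two_eq_zero one_ne_zero h2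
    by_cases h8 : 8 ≤ Fintype.card F
    · apply even_false h2 h8
      · intro x hx e h
        apply hell x hx e
        linear_combination h - x * e * h2
      · intro x hx z
        have h5 := Tr_comm hC hx hx (hsq x hx) (hsq x hx) z
        have h6 : x ^ 2 + x ^ 2 + z ^ 2 - x * x * z - 2 = z ^ 2 + x ^ 2 * z := by
          linear_combination (x ^ 2 - x ^ 2 * z - 1) * h2
        rw [h6] at h5
        rcases h5 with h7 | h7 | h7
        · exact Or.inl h7
        · exact Or.inr (by rw [h7, h2])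
        · exact Or.inr (by rw [h7, h2, neg_zero])
    · -- `q = 4`
      have hq4 : Fintype.card F = 4 := by
        obtain ⟨n, -, hn⟩ := FiniteField.card F 2
        have h5 : (n : ℕ) < 3 := by
          by_contra h6
          have := Nat.pow_le_pow_right (n := 2) (by norm_num) (show 3 ≤ (n : ℕ) by omega)
          omega
        have h6 : 1 < (n : ℕ) := by
          by_contra h6
          have := Nat.pow_le_pow_right (n := 2) (by norm_num) (show (n : ℕ) ≤ 1 by omega)
          omega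
        have h7 : (n : ℕ) = 2 := by omega
        rw [hn, h7]
        norm_num
      have hpow : ∀ x : F, x ^ 4 = x := by
        intro x
        have := FiniteField.pow_card x
        rwa [hq4] at this
      rw [Set.eq_empty_iff_forall_notMem]
      intro x hx
      have hcub : ∀ y : F, y ≠ 0 → y ≠ 1 → y ^ 2 + y + 1 = 0 := by
        intro y hy0 hy1
        have h5 : y * ((y - 1) * (y ^ 2 + y + 1)) = 0 := by linear_combination hpow y
        rcases mul_eq_zero.1 h5 with h6 | h6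
        · exact absurd h6 hy0
        · rcases mul_eq_zero.1 h6 with h7 | h7
          · exact absurd (by linear_combination h7) hy1
          · exact h7
      have hx0 : x ≠ 0 := by
        rintro rfl
        exact hne0 hx
      have hx1 : x ≠ 1 := by
        rintro rfl
        obtain ⟨y, hy⟩ : ∃ y : F, y ∉ ({0, 1} : Set F) := by
          by_contra hcon
          push Not at hcon
          have h5 : (Set.univ : Set F) ⊆ {0, 1} := fun y _ => hcon y
          have h6 := Set.ncard_le_ncard h5 (Set.toFinite _)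
          rw [Set.ncard_univ, Nat.card_eq_fintype_card, hq4] at h6
          have h7 := Set.ncard_pair (zero_ne_one (α := F))
          omega
        rw [Set.mem_insert_iff, Set.mem_singleton_iff, not_or] at hy
        apply hell 1 hx y
        linear_combination hcub y hy.1 hy.2 - y * h2
      have hx2 := hcub x hx0 hx1
      -- `p = 5`
      obtain ⟨A, hA, hA1, hAx⟩ := hx
      have h5 : A ^ 5 = -1 := by
        apply ClassicalGeometry.PSL2Basic.sl2_pow_five_of_trace
        have h6 : Matrix.trace (A : Matrix (Fin 2) (Fin 2) F) = x := hAx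
        rw [h6]
        linear_combination hx2 - (x + 1) * h2
      have h6 : (pr F A) ^ 5 = 1 := by
        rw [← map_pow, h5]
        exact pr_eq_one.2 (Or.inr rfl)
      obtain ⟨k, hk⟩ := hC.pel _ hA
      have hp5 : p = 5 := by
        by_contra hne
        exact hA1 (eq_one_of_two_primes hp.out (by norm_num) hne hk h6)
      have h7 := hC.sq hp5 _ hA
      rw [← map_pow] at h7
      have h8 : tr (A ^ 2) = x ^ 2 := by
        have hdet := det_eq A
        rw [← hAx, tr_def, tr_def, pow_two, Matrix.SpecialLinearGroup.coe_mul, Matrix.mul_apply, Matrix.mul_apply,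
          Fin.sum_univ_two, Fin.sum_univ_two]
        linear_combination -2 * hdet - h2
      have h9 : x ^ 2 ∈ Tr C := by
        refine ⟨_, h7, ?_, h8⟩
        intro h10
        apply hA1
        refine eq_one_of_two_primes hp.out Nat.prime_two ?_ hk (by rw [← map_pow, h10])
        omega
      have hx : x ∈ Tr C := ⟨A, hA, hA1, hAx⟩
      have h10 := Tr_comm hC hx h9 (hsq x hx) (hsq _ h9) 0
      have h11 : x ^ 2 + (x ^ 2) ^ 2 + 0 ^ 2 - x * x ^ 2 * 0 - 2 = 1 := by
        linear_combination hpow x + hx2 - 2 * h2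
      rw [h11] at h10
      rcases h10 with h12 | h12 | h12
      · apply hell 1 h12 x
        linear_combination hx2 - x * h2
      · rw [h2] at h12
        exact one_ne_zero h12
      · rw [h2, neg_zero] at h12
        exact one_ne_zero h12
  · -- odd characteristic
    have hodd : Fintype.card F % 2 = 1 := by
      apply FiniteField.odd_card_of_char_ne_two
      intro h5
      apply h2
      have : CharP F 2 := by rw [← h5]; infer_instance
      exact CharTwo.two_eq_zero
    have h4' : (4 : F) ≠ 0 := by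
      have : (4 : F) = 2 * 2 := by norm_num
      rw [this]
      exact mul_ne_zero h2 h2
    have hsq : ∀ x ∈ Tr C, x ^ 2 ≠ 4 := by
      intro x hx h
      apply hell x hx (x / 2)
      field_simp
      linear_combination -h
    by_cases h9 : 9 ≤ Fintype.card F
    · apply odd_false h2 hodd h9 _ hell
      intro x hx y hy z
      exact Tr_comm hC hx hy (hsq x hx) (hsq y hy) z
    · rw [Set.eq_empty_iff_forall_notMem]
      intro x hx
      obtain ⟨z, d, h5, h6, h7⟩ : ∃ z d : F, x ^ 2 + x ^ 2 + z ^ 2 - x * x * z - 2 ≠ 2 ∧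
          x ^ 2 + x ^ 2 + z ^ 2 - x * x * z - 2 ≠ -2 ∧
          d ^ 2 - (x ^ 2 + x ^ 2 + z ^ 2 - x * x * z - 2) * d + 1 = 0 := by
        rcases (show Fintype.card F = 5 ∨ Fintype.card F = 7 by omega) with h5 | h7
        · have e : ZMod 5 ≃+* F := ZMod.ringEquivOfPrime F (by norm_num) h5
          apply small_check e
          apply five_check
          intro d hd
          apply hell x hx (e d)
          have := congrArg e hd
          rwa [map_add, map_sub, map_mul, map_pow, e.apply_symm_apply, map_one, map_zero] at this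
        · have e : ZMod 7 ≃+* F := ZMod.ringEquivOfPrime F (by norm_num) h7
          apply small_check e
          apply seven_check
          · intro h0
            apply hne0
            have : x = 0 := by rw [← e.apply_symm_apply x, h0, map_zero]
            rwa [this] at hx
          intro d hd
          apply hell x hx (e d)
          have := congrArg e hd
          rwa [map_add, map_sub, map_mul, map_pow, e.apply_symm_apply, map_one, map_zero] at this
      rcases Tr_comm hC hx hx (hsq x hx) (hsq x hx) z with h8 | h8 | h8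
      · exact hell _ h8 d h7
      · exact h5 h8
      · exact h6 h8

/-- **`p` the characteristic.** -/
theorem crow_char [Fintype F] (h4 : 4 ≤ Fintype.card F) [hp : Fact p.Prime] (hpF : p = ringChar F) :
    CRow p (ProjectiveSpecialLinearGroup (Fin 2) F) := by
  intro C hC c hc
  by_contra hc1
  have hO := pCore_eq_bot (F := F) h4 p
  have hcp : CharP F p := by rw [hpF]; infer_instance
  obtain ⟨A, rfl⟩ := QuotientGroup.mk'_surjective _ c
  change pr F A ∈ C at hc
  change pr F A ≠ 1 at hc1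
  -- the trace
  have htr : tr A = 2 ∨ tr A = -2 := by
    obtain ⟨k, hk⟩ := hC.pel _ hc
    have h1 : pr F (A ^ p ^ k) = 1 := by rw [map_pow, ← hk, pow_orderOf_eq_one]
    obtain ⟨n, -, hn⟩ := FiniteField.card F p
    have h2 : ∀ j : ℕ, Matrix.trace ((A : Matrix (Fin 2) (Fin 2) F) ^ (Fintype.card F) ^ j) = tr A := by
      intro j
      induction j with
      | zero => rw [pow_zero, pow_one]; rfl
      | succ j ih => rw [pow_succ, pow_mul, FiniteField.trace_pow_card, ih, FiniteField.pow_card]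
    have h3 := h2 k
    have h5 : (Fintype.card F) ^ k = p ^ k * p ^ ((n : ℕ) * k - k) := by
      rw [hn, ← pow_mul, ← pow_add]
      congr 1
      have : k ≤ (n : ℕ) * k := Nat.le_mul_of_pos_left k n.pos
      omega
    have h6 : A ^ (Fintype.card F) ^ k = 1 ∨ A ^ (Fintype.card F) ^ k = -1 := by
      apply pr_eq_one.1
      rw [h5, pow_mul, map_pow, h1, one_pow]
    rw [← Matrix.SpecialLinearGroup.coe_pow] at h3
    rcases h6 with h7 | h7
    · left
      rw [← h3, h7]
      exact tr_one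
    · right
      rw [← h3, h7]
      have := tr_neg (1 : _root_.Matrix.SpecialLinearGroup (Fin 2) F)
      rw [tr_one] at this
      exact this
  -- a lift of trace 2
  obtain ⟨A, hA, hA1, htr⟩ : ∃ A : _root_.Matrix.SpecialLinearGroup (Fin 2) F, pr F A ∈ C ∧ pr F A ≠ 1 ∧ tr A = 2 := by
    rcases htr with h | h
    · exact ⟨A, hc, hc1, h⟩
    · exact ⟨-A, by rwa [pr_neg], by rwa [pr_neg], by rw [tr_neg, h, neg_neg]⟩
  by_cases h2 : (2 : F) = 0
  · -- characteristic two
    have hp2 : p = 2 := by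
      have h5 : ((2 : ℕ) : F) = 0 := by exact_mod_cast h2
      have h6 := (CharP.cast_eq_zero_iff F p 2).1 h5
      exact (Nat.prime_dvd_prime_iff_eq hp.out Nat.prime_two).1 h6
    subst hp2
    apply hA1
    apply hC.sq_ne_one hO hA
    have h5 : A ^ 2 = -1 := ClassicalGeometry.PSL2Basic.sl2_sq_of_trace_zero (by rw [← h2]; exact htr)
    rw [← map_mul, ← pow_two, h5]
    exact pr_eq_one.2 (Or.inr rfl)
  · -- the normal form
    obtain ⟨g, hg⟩ := exists_conj_upper (A := A) (e := 1) (by rw [htr]; ring)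
    have hB : pr F (g * A * g⁻¹) ∈ C := by
      rw [map_mul, map_mul, map_inv]
      exact hC.conj _ _ hA
    have hB1 : pr F (g * A * g⁻¹) ≠ 1 := by
      intro h
      apply hA1
      rw [map_mul, map_mul, map_inv, mul_inv_eq_one, mul_eq_left] at h
      exact h
    have hBt : tr (g * A * g⁻¹) = 2 := by rw [tr_conj, htr]
    obtain ⟨B, hBdef⟩ : ∃ B, B = g * A * g⁻¹ := ⟨_, rfl⟩
    rw [← hBdef] at hg hB hB1 hBt
    have hdet := det_eq B
    rw [hg, mul_zero, sub_zero] at hdet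
    rw [tr_def] at hBt
    have h5 : B 0 0 = 1 := by
      have h6 : (B 0 0 - 1) ^ 2 = 0 := by linear_combination B 0 0 * hBt - hdet
      have := pow_eq_zero_iff (by norm_num) |>.1 h6
      linear_combination this
    have h6 : B 1 1 = 1 := by linear_combination hBt - h5
    obtain ⟨b, hb⟩ : ∃ b, b = B 0 1 := ⟨_, rfl⟩
    have hBu : B = uu b := by
      apply Subtype.ext
      rw [Matrix.eta_fin_two (B : Matrix (Fin 2) (Fin 2) F), hg, h5, h6, ← hb]
      rfl
    have hb0 : b ≠ 0 := by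
      intro h
      apply hB1
      rw [hBu, h, uu_zero, map_one]
    rw [hBu] at hB
    -- the opposite element
    obtain ⟨D, hD, hD1⟩ : ∃ D : _root_.Matrix.SpecialLinearGroup (Fin 2) F, pr F D ∈ C ∧
        (D : Matrix (Fin 2) (Fin 2) F) = !![1, 0; -b⁻¹, 1] := by
      have hdet' : (0 : F) * 0 - b * (-b⁻¹) = 1 := by
        rw [zero_mul, mul_neg, mul_inv_cancel₀ hb0]
        ring
      refine ⟨mk2 _ _ _ _ hdet' * uu b * (mk2 _ _ _ _ hdet')⁻¹, ?_, ?_⟩
      · rw [map_mul, map_mul, map_inv]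
        exact hC.conj _ _ hB
      · rw [Matrix.SpecialLinearGroup.coe_mul, Matrix.SpecialLinearGroup.coe_mul, Matrix.SpecialLinearGroup.coe_inv,
          mk2_coe]
        show !![0, b; -b⁻¹, 0] * !![1, b; 0, 1] * _ = _
        rw [Matrix.adjugate_fin_two_of, Matrix.mul_fin_two, Matrix.mul_fin_two]
        ext i j
        (revert i j; simp [hb0, _root_.Fin.forall_fin_succ])
    have htD : tr D = 2 := by
      rw [tr_def, hD1]
      simp
      norm_num
    have key : ∀ m : F, pr F (uu (m * b)) ∈ C → m ^ 2 + 2 = 2 ∨ m ^ 2 + 2 = -2 := by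
      intro m hm
      have h7 := hC.comm _ hm _ hD
      have h8 : (pr F (uu (m * b)))⁻¹ * (pr F D)⁻¹ * pr F (uu (m * b)) * pr F D =
          pr F ((uu (m * b))⁻¹ * D⁻¹ * uu (m * b) * D) := by simp only [map_mul, map_inv]
      rw [h8] at h7
      have h9 : tr (uu (m * b) * D) = 2 - m := by
        rw [tr_def, Matrix.SpecialLinearGroup.coe_mul, hD1]
        show (!![1, m * b; 0, 1] * !![1, 0; -b⁻¹, 1] : Matrix (Fin 2) (Fin 2) F) 0 0 +
          (!![1, m * b; 0, 1] * !![1, 0; -b⁻¹, 1] : Matrix (Fin 2) (Fin 2) F) 1 1 = _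
        rw [Matrix.mul_fin_two]
        simp only [_root_.mul_one, _root_.mul_neg, _root_.MulZeroClass.mul_zero, _root_.zero_add, _root_.one_mul, _root_.Fin.isValue, _root_.Matrix.of_apply, _root_.Matrix.cons_val', _root_.Matrix.cons_val_zero, _root_.Matrix.cons_val_fin_one, _root_.Matrix.cons_val_one]
        field_simp
        ring
      have h10 : tr (uu (m * b)) = 2 := by
        rw [tr_def]
        show (1 : F) + 1 = 2
        norm_num
      have h11 := tr_comm (uu (m * b)) D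
      rw [h9, h10, htD] at h11
      have h12 : tr ((uu (m * b))⁻¹ * D⁻¹ * uu (m * b) * D) = m ^ 2 + 2 := by
        rw [h11]; ring
      -- the trace of a `p`-element
      obtain ⟨k, hk⟩ := hC.pel _ h7
      obtain ⟨E, hE⟩ : ∃ E, E = (uu (m * b))⁻¹ * D⁻¹ * uu (m * b) * D := ⟨_, rfl⟩
      rw [← hE] at h12 hk
      rw [← h12]
      have h1 : pr F (E ^ p ^ k) = 1 := by rw [map_pow, ← hk, pow_orderOf_eq_one]
      obtain ⟨n, -, hn⟩ := FiniteField.card F p
      have h2 : ∀ j : ℕ, Matrix.trace ((E : Matrix (Fin 2) (Fin 2) F) ^ (Fintype.card F) ^ j) = tr E := by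
        intro j
        induction j with
        | zero => rw [pow_zero, pow_one]; rfl
        | succ j ih => rw [pow_succ, pow_mul, FiniteField.trace_pow_card, ih, FiniteField.pow_card]
      have h3 := h2 k
      have h5 : (Fintype.card F) ^ k = p ^ k * p ^ ((n : ℕ) * k - k) := by
        rw [hn, ← pow_mul, ← pow_add]
        congr 1
        have : k ≤ (n : ℕ) * k := Nat.le_mul_of_pos_left k n.pos
        omega
      have h6 : E ^ (Fintype.card F) ^ k = 1 ∨ E ^ (Fintype.card F) ^ k = -1 := by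
        apply pr_eq_one.1
        rw [h5, pow_mul, map_pow, h1, one_pow]
      rw [← Matrix.SpecialLinearGroup.coe_pow] at h3
      rcases h6 with h7 | h7
      · left
        rw [← h3, h7]
        exact tr_one
      · right
        rw [← h3, h7]
        have := tr_neg (1 : _root_.Matrix.SpecialLinearGroup (Fin 2) F)
        rw [tr_one] at this
        exact this
    have h7 : (5 : F) = 0 := by
      rcases key 1 (by rwa [one_mul]) with h | h
      · exact absurd (by linear_combination h) (one_ne_zero (α := F))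
      · linear_combination h
    have hp5 : p = 5 := by
      have h5 : ((5 : ℕ) : F) = 0 := by exact_mod_cast h7
      have h6 := (CharP.cast_eq_zero_iff F p 5).1 h5
      exact (Nat.prime_dvd_prime_iff_eq hp.out (by norm_num)).1 h6
    have h8 := hC.sq hp5 _ hB
    rw [← map_pow, uu_pow] at h8
    rcases key 2 (by exact_mod_cast h8) with h | h
    · exact h2 (by
        have : (2 : F) * 2 = 0 := by linear_combination h
        rcases mul_eq_zero.1 this with h9 | h9 <;> exact h9)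
    · apply one_ne_zero (α := F)
      linear_combination 2 * h - 3 * h7

/-- **The row of `PSL₂(q)`.** -/
theorem crow_psl2 {F : Type*} [Field F] [Fintype F] (h4 : 4 ≤ Fintype.card F) (p : ℕ) [Fact p.Prime] :
    CRow p (Matrix.ProjectiveSpecialLinearGroup (Fin 2) F) := by
  by_cases hpF : p = ringChar F
  · exact crow_char h4 hpF
  · exact crow_cross h4 hpF

end Cfsg.Agent.H541.CrowPsl2
end

-- part: H877/CRowPSL3
section
/-!
# `CRow p (PSL₃(q))` for `p` not dividing `q` (helper877, for S3828)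

* `eq_one_of_eigen`: an element of `C` one lift of which has an eigenvector is trivial;
* `crow_psl3`: pole placement with explicit matrices: `A` the companion matrix of `t³ - a t² + b t - 1` and an explicit
  matrix `D` with the same characteristic polynomial such that `A D e₁ = D A e₁` but `A D ≠ D A`.
-/

set_option autoImplicit false
set_option linter.unusedSectionVars false

namespace Cfsg.Agent.H877.CRowPSL3

open Matrix Cfsg Cfsg.Agent.H162.CCR Polynomial

section

variable {F : Type*} [Field F]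

/-- the stabiliser of the line of `v` -/
def stab {v : Fin 3 → F} (hv : v ≠ 0) : Subgroup (Matrix.SpecialLinearGroup (Fin 3) F) where
  carrier := {g | ∃ μ : F, g.1 *ᵥ v = μ • v}
  mul_mem' := by
    rintro g h ⟨μ, hμ⟩ ⟨ν, hν⟩
    refine ⟨ν * μ, ?_⟩
    change (g.1 * h.1) *ᵥ v = _
    rw [← mulVec_mulVec, hν, mulVec_smul, hμ, smul_smul]
  one_mem' := ⟨1, by
    change (1 : Matrix (Fin 3) (Fin 3) F) *ᵥ v = _
    rw [one_mulVec, one_smul]⟩
  inv_mem' := by
    rintro g ⟨μ, hμ⟩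
    have h1 : (g⁻¹ : Matrix.SpecialLinearGroup (Fin 3) F).1 *ᵥ (g.1 *ᵥ v) = v := by
      rw [mulVec_mulVec]
      have h2 : (g⁻¹ : Matrix.SpecialLinearGroup (Fin 3) F).1 * g.1 = 1 := by
        have := congrArg Subtype.val (inv_mul_cancel g)
        exact this
      rw [h2, one_mulVec]
    have hμ0 : μ ≠ 0 := by
      rintro rfl
      rw [hμ, zero_smul, mulVec_zero] at h1
      exact hv h1.symm
    refine ⟨μ⁻¹, ?_⟩
    rw [hμ, mulVec_smul] at h1
    rw [eq_inv_smul_iff₀ hμ0, h1]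

/-- the projection to `PSL₃` -/
abbrev pr (F : Type*) [Field F] : Matrix.SpecialLinearGroup (Fin 3) F →* ProjectiveSpecialLinearGroup (Fin 3) F :=
  QuotientGroup.mk' _

theorem pr_eq_one {g : Matrix.SpecialLinearGroup (Fin 3) F} : pr F g = 1 ↔ ∃ c : F, g.1 = c • (1 : Matrix (Fin 3) (Fin 3) F) := by
  rw [pr, QuotientGroup.mk'_apply, QuotientGroup.eq_one_iff, Matrix.SpecialLinearGroup.mem_center_iff]
  constructor
  · rintro ⟨r, -, hr⟩
    exact ⟨r, by rw [← hr, scalar_apply, smul_one_eq_diagonal]⟩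
  · rintro ⟨c, hc⟩
    refine ⟨c, ?_, ?_⟩
    · have h1 := g.2
      rw [hc, det_smul, det_one, mul_one] at h1
      exact h1
    · rw [hc, scalar_apply, smul_one_eq_diagonal]

theorem stab_ne_top {v : Fin 3 → F} (hv : v ≠ 0) : (stab hv).map (pr F) ≠ ⊤ := by
  intro htop
  obtain ⟨i, hi⟩ : ∃ i, v i ≠ 0 := by
    by_contra hcon
    push Not at hcon
    exact hv (_root_.funext hcon)
  obtain ⟨j, hj⟩ : ∃ j : Fin 3, j ≠ i := exists_ne i
  let t : Matrix.SpecialLinearGroup (Fin 3) F := ⟨Matrix.transvection j i 1, det_transvection_of_ne j i hj 1⟩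
  have h1 : pr F t ∈ (stab hv).map (pr F) := by rw [htop]; trivial
  obtain ⟨s, ⟨μ, hμ⟩, hst⟩ := h1
  have h2 : pr F (s⁻¹ * t) = 1 := by rw [map_mul, map_inv, hst, inv_mul_cancel]
  obtain ⟨c, hc⟩ := pr_eq_one.1 h2
  have h3 : t.1 = s.1 * (c • (1 : Matrix (Fin 3) (Fin 3) F)) := by
    rw [← hc]
    have := congrArg Subtype.val (mul_inv_cancel_left s t)
    exact this.symm
  have h4 : t.1 *ᵥ v = (c * μ) • v := by
    rw [h3, mul_smul_comm, mul_one, smul_mulVec, hμ, smul_smul]
  have h5 : t.1 *ᵥ v = v + Pi.single j (v i) := by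
    change (Matrix.transvection j i 1) *ᵥ v = _
    rw [Matrix.transvection, add_mulVec, one_mulVec]
    congr 1
    rw [single_mulVec, one_mul]
    rfl
  rw [h5] at h4
  have h6 := congrFun h4 i
  have h7 := congrFun h4 j
  simp only [Pi.add_apply, Pi.smul_apply, smul_eq_mul, Pi.single_eq_same,
    Pi.single_eq_of_ne (Ne.symm hj), add_zero] at h6 h7
  have h8 : c * μ = 1 := by
    have : (c * μ - 1) * v i = 0 := by linear_combination -h6
    rcases mul_eq_zero.1 this with h | h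
    · linear_combination h
    · exact absurd h hi
  rw [h8, one_mul] at h7
  exact hi (by linear_combination h7)

theorem pow_aux (μ : F) (X : Matrix (Fin 3) (Fin 3) F) (hX : X * X = 0) (n : ℕ) :
    (μ • (1 : Matrix (Fin 3) (Fin 3) F) + X) ^ (n + 1) = μ ^ (n + 1) • 1 + (((n + 1 : ℕ) : F) * μ ^ n) • X := by
  induction n with
  | zero => simp only [_root_.zero_add, _root_.pow_one, _root_.Nat.cast_one, _root_.pow_zero, _root_.mul_one, _root_.one_smul]
  | succ n ih =>
    rw [pow_succ, ih]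
    have h1 : (μ ^ (n + 1) • (1 : Matrix (Fin 3) (Fin 3) F) + (((n + 1 : ℕ) : F) * μ ^ n) • X) *
        (μ • (1 : Matrix (Fin 3) (Fin 3) F) + X) = (μ ^ (n + 1) * μ) • (1 : Matrix (Fin 3) (Fin 3) F) +
        (μ ^ (n + 1) + (((n + 1 : ℕ) : F) * μ ^ n) * μ) • X := by
      rw [add_mul, mul_add, mul_add, smul_mul_assoc, smul_mul_assoc, smul_mul_assoc, smul_mul_assoc, one_mul, one_mul,
        mul_smul_comm, mul_one, hX, smul_zero, add_zero, smul_smul, smul_smul, add_smul, add_assoc]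
    rw [h1]
    have h2 : μ ^ (n + 1) + ((n + 1 : ℕ) : F) * μ ^ n * μ = ((n + 1 + 1 : ℕ) : F) * μ ^ (n + 1) := by
      push_cast
      ring
    rw [h2, ← pow_succ]

theorem eq_one_of_pow {G : Type*} [Group G] {x : G} {N p k : ℕ} (hN : x ^ N = 1) (hp : p.Prime) (hpN : ¬ p ∣ N)
    (hx : orderOf x = p ^ k) : x = 1 := by
  have h1 : orderOf x ∣ N := orderOf_dvd_of_pow_eq_one hN
  have h2 : (p ^ k).Coprime N := Nat.Coprime.pow_left k ((Nat.Prime.coprime_iff_not_dvd hp).2 hpN)
  rw [← hx] at h2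
  exact orderOf_eq_one_iff.1 (Nat.eq_one_of_dvd_coprimes h2 dvd_rfl h1)

variable [Fintype F]

/-- a scalar plus a square zero matrix -/
theorem pr_pow (A : Matrix.SpecialLinearGroup (Fin 3) F) (μ : F) {X : Matrix (Fin 3) (Fin 3) F} (hX : X * X = 0)
    (hA : A.1 = μ • 1 + X) : (pr F A) ^ Fintype.card F = 1 := by
  obtain ⟨n, hn⟩ : ∃ n, Fintype.card F = n + 1 := ⟨Fintype.card F - 1, by have := Fintype.card_pos (α := F); omega⟩
  rw [← map_pow, pr_eq_one]
  refine ⟨μ ^ Fintype.card F, ?_⟩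
  have h1 : (A ^ Fintype.card F).1 = A.1 ^ Fintype.card F := rfl
  have h2 : ((n + 1 : ℕ) : F) = 0 := by rw [← hn]; exact FiniteField.cast_card_eq_zero F
  rw [h1, hA, hn, pow_aux μ X hX, h2, zero_mul, zero_smul, add_zero]

theorem det_trans {v φ : Fin 3 → F} (h : φ ⬝ᵥ v = 0) : (1 + vecMulVec v φ).det = 1 := by
  rw [vecMulVec_eq Unit, det_one_add_replicateCol_mul_replicateRow, h, add_zero]

/-- the transvections with centre `v` -/
def tv {v φ : Fin 3 → F} (h : φ ⬝ᵥ v = 0) : Matrix.SpecialLinearGroup (Fin 3) F := ⟨1 + vecMulVec v φ, det_trans h⟩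

theorem vecMulVec_mulVec' (u v w : Fin 3 → F) : vecMulVec u v *ᵥ w = (v ⬝ᵥ w) • u := by
  rw [vecMulVec_mulVec]
  exact op_smul_eq_smul _ _

theorem tv_mul {v φ ψ : Fin 3 → F} (h : φ ⬝ᵥ v = 0) :
    (1 + vecMulVec v φ) * (1 + vecMulVec v ψ) = 1 + vecMulVec v (φ + ψ) := by
  rw [add_mul, one_mul, mul_add, mul_one, vecMulVec_mul_vecMulVec, h, zero_smul, vecMulVec_zero, add_zero,
    vecMulVec_add]
  abel

theorem tv_inv {v φ : Fin 3 → F} (h : φ ⬝ᵥ v = 0) : ((tv h)⁻¹ : Matrix.SpecialLinearGroup (Fin 3) F).1 = 1 + vecMulVec v (-φ) := by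
  have h1 : (tv h).1 * (1 + vecMulVec v (-φ)) = 1 := by
    change (1 + vecMulVec v φ) * _ = 1
    rw [tv_mul h, add_neg_cancel, vecMulVec_zero, add_zero]
  have h2 : ((tv h)⁻¹ : Matrix.SpecialLinearGroup (Fin 3) F).1 * (tv h).1 = 1 :=
    congrArg Subtype.val (inv_mul_cancel (tv h))
  calc ((tv h)⁻¹ : Matrix.SpecialLinearGroup (Fin 3) F).1
      = ((tv h)⁻¹ : Matrix.SpecialLinearGroup (Fin 3) F).1 * ((tv h).1 * (1 + vecMulVec v (-φ))) := by rw [h1, mul_one]
    _ = 1 + vecMulVec v (-φ) := by rw [← mul_assoc, h2, one_mul]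

/-- **An element of `C` with an eigenvector is trivial.** -/
theorem eq_one_of_eigen {p : ℕ} [hpp : Fact p.Prime] (hp : ¬ p ∣ Fintype.card F)
    {C : Set (ProjectiveSpecialLinearGroup (Fin 3) F)} (hC : _root_.Cfsg.Agent.H162.CCR.Min p C) {A : Matrix.SpecialLinearGroup (Fin 3) F}
    (hA : pr F A ∈ C) {v : Fin 3 → F} (hv : v ≠ 0) {μ : F} (hμ : A.1 *ᵥ v = μ • v) : pr F A = 1 := by
  have hAH : pr F A ∈ (stab hv).map (pr F) := ⟨A, ⟨μ, hμ⟩, rfl⟩
  have hO := hC.loc _ (stab_ne_top hv) _ hA hAH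
  have hBA : (A⁻¹ : Matrix.SpecialLinearGroup (Fin 3) F).1 * A.1 = 1 := congrArg Subtype.val (inv_mul_cancel A)
  have hAB : A.1 * (A⁻¹ : Matrix.SpecialLinearGroup (Fin 3) F).1 = 1 := congrArg Subtype.val (mul_inv_cancel A)
  set B : Matrix (Fin 3) (Fin 3) F := (A⁻¹ : Matrix.SpecialLinearGroup (Fin 3) F).1 with hB
  have hBv : μ • (B *ᵥ v) = v := by
    rw [← mulVec_smul, ← hμ, mulVec_mulVec, hBA, one_mulVec]
  -- functionals vanishing at `v`
  have key : ∀ φ : Fin 3 → F, φ ⬝ᵥ v = 0 → φ ᵥ* A.1 = μ • φ := by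
    intro φ hφ
    have hu : pr F (tv hφ) ∈ (stab hv).map (pr F) := by
      refine ⟨tv hφ, ⟨1, ?_⟩, rfl⟩
      change (1 + vecMulVec v φ) *ᵥ v = _
      rw [add_mulVec, one_mulVec, vecMulVec_mulVec', hφ, zero_smul, add_zero, one_smul]
    have hE : (⟨pr F (A * tv hφ * A⁻¹ * (tv hφ)⁻¹), by
        rw [map_mul, map_mul, map_mul, map_inv, map_inv]
        exact mul_mem (mul_mem (mul_mem hAH hu) (inv_mem hAH)) (inv_mem hu)⟩ : (stab hv).map (pr F)) ∈
        pCore p ((stab hv).map (pr F)) := by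
      have h1 := mul_mem hO ((Cfsg.Agent.Lib.Cores.pCore_normal p).conj_mem _ (inv_mem hO)
        (⟨pr F (tv hφ), hu⟩ : (stab hv).map (pr F)))
      convert h1 using 1
      apply Subtype.ext
      change pr F (A * tv hφ * A⁻¹ * (tv hφ)⁻¹) = pr F A * (pr F (tv hφ) * (pr F A)⁻¹ * (pr F (tv hφ))⁻¹)
      rw [map_mul, map_mul, map_mul, map_inv, map_inv]
      group
    have hχ : (μ • (φ ᵥ* B)) ⬝ᵥ v = 0 := by
      rw [smul_dotProduct, ← dotProduct_mulVec, ← dotProduct_smul, hBv, hφ]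
    have hE1 : (A * tv hφ * A⁻¹ * (tv hφ)⁻¹).1 = 1 + vecMulVec v (μ • (φ ᵥ* B) + -φ) := by
      change A.1 * (1 + vecMulVec v φ) * B * ((tv hφ)⁻¹ : Matrix.SpecialLinearGroup (Fin 3) F).1 = _
      have h1 : A.1 * (1 + vecMulVec v φ) * B = 1 + vecMulVec v (μ • (φ ᵥ* B)) := by
        rw [mul_add, mul_one, add_mul, hAB, mul_vecMulVec, hμ, vecMulVec_mul, smul_vecMulVec, ← vecMulVec_smul]
      rw [tv_inv, h1, tv_mul hχ]
    have hψ : (μ • (φ ᵥ* B) + -φ) ⬝ᵥ v = 0 := by
      rw [add_dotProduct, neg_dotProduct, hχ, hφ, neg_zero, add_zero]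
    have hEp : (pr F (A * tv hφ * A⁻¹ * (tv hφ)⁻¹)) ^ Fintype.card F = 1 := by
      refine pr_pow _ 1 (X := vecMulVec v (μ • (φ ᵥ* B) + -φ)) ?_ (by rw [hE1, one_smul])
      rw [vecMulVec_mul_vecMulVec, hψ, zero_smul, vecMulVec_zero]
    obtain ⟨k, hk⟩ := (IsPGroup.iff_orderOf.1 (Cfsg.Agent.Lib.Cores.pCore_isPGroup p)) ⟨_, hE⟩
    have hE0 : pr F (A * tv hφ * A⁻¹ * (tv hφ)⁻¹) = 1 := by
      refine eq_one_of_pow hEp hpp.out hp (k := k) ?_
      rw [← hk, ← Subgroup.orderOf_coe, ← Subgroup.orderOf_coe]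
    obtain ⟨c, hc⟩ := pr_eq_one.1 hE0
    rw [hE1] at hc
    have h2 : c • v = v := by
      have h3 := congrArg (fun M : Matrix (Fin 3) (Fin 3) F => M *ᵥ v) hc
      simp only [add_mulVec, one_mulVec, smul_mulVec, vecMulVec_mulVec', hψ, zero_smul, add_zero] at h3
      exact h3.symm
    have h3 : c = 1 := by
      by_contra hne
      have h4 : (c - 1) • v = 0 := by rw [sub_smul, h2, one_smul, sub_self]
      exact hv ((smul_eq_zero.1 h4).resolve_left (sub_ne_zero.2 hne))
    rw [h3, one_smul, add_eq_left] at hc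
    have h4 : μ • (φ ᵥ* B) + -φ = 0 := by
      funext j
      obtain ⟨i, hi⟩ : ∃ i, v i ≠ 0 := by
        by_contra hcon
        push Not at hcon
        exact hv (_root_.funext hcon)
      have h5 := congrFun (congrFun hc i) j
      rw [vecMulVec_apply] at h5
      exact (mul_eq_zero.1 h5).resolve_left hi
    have h5 : μ • (φ ᵥ* B) = φ := by rwa [add_neg_eq_zero] at h4
    calc φ ᵥ* A.1 = (μ • (φ ᵥ* B)) ᵥ* A.1 := by rw [h5]
      _ = μ • φ := by rw [smul_vecMul, vecMul_vecMul, hBA, vecMul_one]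
  -- `A - μ` has square zero
  obtain ⟨i, hi⟩ : ∃ i, v i ≠ 0 := by
    by_contra hcon
    push Not at hcon
    exact hv (_root_.funext hcon)
  have hXv : (A.1 - μ • (1 : Matrix (Fin 3) (Fin 3) F)) *ᵥ v = 0 := by
    rw [sub_mulVec, smul_mulVec, one_mulVec, hμ, sub_self]
  have hXw : ∀ w : Fin 3 → F, (A.1 - μ • (1 : Matrix (Fin 3) (Fin 3) F)) *ᵥ w =
      (((A.1 - μ • (1 : Matrix (Fin 3) (Fin 3) F)) *ᵥ w) i * (v i)⁻¹) • v := by
    intro w
    funext j
    have h1 := key (v i • Pi.single j 1 - v j • Pi.single i 1) (by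
      rw [sub_dotProduct, smul_dotProduct, smul_dotProduct, single_one_dotProduct, single_one_dotProduct]
      simp only [smul_eq_mul]
      ring)
    have h2 : (v i • (Pi.single j 1 : Fin 3 → F) - v j • Pi.single i 1) ⬝ᵥ
        ((A.1 - μ • (1 : Matrix (Fin 3) (Fin 3) F)) *ᵥ w) = 0 := by
      rw [sub_mulVec, dotProduct_sub, smul_mulVec, one_mulVec, dotProduct_mulVec, h1, smul_dotProduct,
        dotProduct_smul, sub_self]
    rw [sub_dotProduct, smul_dotProduct, smul_dotProduct, single_one_dotProduct, single_one_dotProduct] at h2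
    simp only [smul_eq_mul, Pi.smul_apply] at h2 ⊢
    field_simp
    linear_combination h2
  have hXX : (A.1 - μ • (1 : Matrix (Fin 3) (Fin 3) F)) * (A.1 - μ • (1 : Matrix (Fin 3) (Fin 3) F)) = 0 := by
    rw [← Matrix.toLin'.map_eq_zero_iff, Matrix.toLin'_mul]
    apply LinearMap.ext
    intro w
    rw [LinearMap.comp_apply, Matrix.toLin'_apply, Matrix.toLin'_apply, hXw w, mulVec_smul, hXv, smul_zero]
    rfl
  obtain ⟨k, hk⟩ := hC.pel _ hA
  exact eq_one_of_pow (pr_pow A μ hXX (by abel)) hpp.out hp hk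

omit [Fintype F] in
theorem charpoly_three (M : Matrix (Fin 3) (Fin 3) F) : M.charpoly = X ^ 3 - C (M 0 0 + M 1 1 + M 2 2) * X ^ 2 +
    C (M 0 0 * M 1 1 - M 0 1 * M 1 0 + (M 0 0 * M 2 2 - M 0 2 * M 2 0) + (M 1 1 * M 2 2 - M 1 2 * M 2 1)) * X -
    C M.det := by
  rw [Matrix.charpoly, det_fin_three, det_fin_three]
  simp [charmatrix_apply]
  ring

omit [Fintype F] in
theorem irreducible_of (A : Matrix (Fin 3) (Fin 3) F) (h : ∀ v : Fin 3 → F, v ≠ 0 → ∀ μ : F, A *ᵥ v ≠ μ • v) :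
    Irreducible A.charpoly := by
  classical
  refine Polynomial.irreducible_of_degree_le_three_of_not_isRoot ?_ ?_
  · rw [charpoly_natDegree_eq_dim]
    simp
  · intro x hx
    have h1 : (scalar (Fin 3) x - A).det = 0 := by
      rw [← Matrix.eval_charpoly]
      exact hx
    obtain ⟨v, hv, hv1⟩ := Matrix.exists_mulVec_eq_zero_iff.2 h1
    apply h v hv x
    rw [sub_mulVec, sub_eq_zero, scalar_apply, ← smul_one_eq_diagonal, smul_mulVec, one_mulVec] at hv1
    exact hv1.symm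

/-- elements with the same irreducible characteristic polynomial -/
theorem mem_of_charpoly {p : ℕ} {C : Set (ProjectiveSpecialLinearGroup (Fin 3) F)} (hC : _root_.Cfsg.Agent.H162.CCR.Min p C)
    {A A' : Matrix.SpecialLinearGroup (Fin 3) F} (hA : pr F A ∈ C) (hirr : Irreducible A.1.charpoly)
    (h : A'.1.charpoly = A.1.charpoly) : pr F A' ∈ C := by
  obtain ⟨K, hK, hd⟩ := Cfsg.Agent.H140.OreO.exists_conj_matrix
    (Matrix.SpecialLinearGroup.toGL A') (Matrix.SpecialLinearGroup.toGL A) h hirr 1 one_ne_zero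
  let K' : Matrix.SpecialLinearGroup (Fin 3) F := ⟨K.1, hd⟩
  have h1 : A' * K' = K' * A := by
    apply Subtype.ext
    have h2 : Matrix.SpecialLinearGroup.toGL A' * K = K * Matrix.SpecialLinearGroup.toGL A := by
      rw [hK]; group
    exact congrArg Units.val h2
  have h2 : A' = K' * A * K'⁻¹ := by rw [← h1]; group
  rw [h2, map_mul, map_mul, map_inv]
  exact hC.conj _ _ hA

theorem comm_of {p : ℕ} [hpp : Fact p.Prime] (hp : ¬ p ∣ Fintype.card F)
    {C : Set (ProjectiveSpecialLinearGroup (Fin 3) F)} (hC : _root_.Cfsg.Agent.H162.CCR.Min p C) {A D : Matrix.SpecialLinearGroup (Fin 3) F}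
    (hA : pr F A ∈ C) (hD : pr F D ∈ C) {v : Fin 3 → F} (hv : v ≠ 0)
    (h : (A.1 * D.1) *ᵥ v = (D.1 * A.1) *ᵥ v) : A.1 * D.1 = D.1 * A.1 := by
  have hE : pr F (A⁻¹ * D⁻¹ * A * D) ∈ C := by
    have := hC.comm _ hA _ hD
    rwa [← map_inv, ← map_inv, ← map_mul, ← map_mul, ← map_mul] at this
  have hEv : (A⁻¹ * D⁻¹ * A * D).1 *ᵥ v = v := by
    have e1 : (A⁻¹ * D⁻¹ * A * D).1 = (A⁻¹ * D⁻¹).1 * (A.1 * D.1) := by
      have : A⁻¹ * D⁻¹ * A * D = (A⁻¹ * D⁻¹) * (A * D) := by group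
      exact congrArg Subtype.val this
    have e2 : (A⁻¹ * D⁻¹).1 * (D.1 * A.1) = 1 := by
      have : (A⁻¹ * D⁻¹) * (D * A) = 1 := by group
      exact congrArg Subtype.val this
    rw [e1, ← mulVec_mulVec, h, mulVec_mulVec, e2, one_mulVec]
  have h1 := eq_one_of_eigen hp hC hE hv (μ := 1) (by rw [hEv, one_smul])
  obtain ⟨c, hc⟩ := pr_eq_one.1 h1
  have h2 : c = 1 := by
    by_contra hne
    rw [hc, smul_mulVec, one_mulVec] at hEv
    have h4 : (c - 1) • v = 0 := by rw [sub_smul, hEv, one_smul, sub_self]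
    exact hv ((smul_eq_zero.1 h4).resolve_left (sub_ne_zero.2 hne))
  have h3 : A⁻¹ * D⁻¹ * A * D = 1 := by
    apply Subtype.ext
    rw [hc, h2, one_smul]
    rfl
  have h4 : A * D = D * A := by
    calc A * D = D * A * (A⁻¹ * D⁻¹ * A * D) := by group
      _ = D * A := by rw [h3, mul_one]
  exact congrArg Subtype.val h4

end

/-- **The row of `PSL₃(q)`, `p` prime to `q`.** -/
theorem crow_psl3 {F : Type} [Field F] [Fintype F] (p : ℕ) [Fact p.Prime] (hp : ¬ p ∣ Fintype.card F) :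
    CRow p (ProjectiveSpecialLinearGroup (Fin 3) F) := by
  intro C hC c hc
  by_contra hc1
  obtain ⟨A, rfl⟩ := QuotientGroup.mk'_surjective _ c
  have hirr := irreducible_of A.1 (fun v hv μ hμ => hc1 (eq_one_of_eigen hp hC hc hv hμ))
  obtain ⟨a, ha⟩ : ∃ a, a = A.1 0 0 + A.1 1 1 + A.1 2 2 := ⟨_, rfl⟩
  obtain ⟨b, hb⟩ : ∃ b, b = A.1 0 0 * A.1 1 1 - A.1 0 1 * A.1 1 0 + (A.1 0 0 * A.1 2 2 - A.1 0 2 * A.1 2 0) +
    (A.1 1 1 * A.1 2 2 - A.1 1 2 * A.1 2 1) := ⟨_, rfl⟩
  have hcA : A.1.charpoly = X ^ 3 - Polynomial.C a * X ^ 2 + Polynomial.C b * X - Polynomial.C 1 := by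
    rw [charpoly_three, ← ha, ← hb, A.2]
  let A0 : Matrix.SpecialLinearGroup (Fin 3) F := ⟨!![0, 0, 1; 1, 0, -b; 0, 1, a], by
    rw [det_fin_three]; simp⟩
  have hA0 : pr F A0 ∈ C := by
    refine mem_of_charpoly hC hc hirr ?_
    rw [hcA, charpoly_three, A0.2]
    simp only [A0, _root_.Fin.isValue, _root_.Matrix.of_apply, _root_.Matrix.cons_val', _root_.Matrix.cons_val_zero, _root_.Matrix.cons_val_fin_one, _root_.Matrix.cons_val_one, _root_.add_zero, _root_.Matrix.cons_val, _root_.zero_add, _root_.MulZeroClass.mul_zero, _root_.mul_one, _root_.sub_self, _root_.MulZeroClass.zero_mul, _root_.sub_neg_eq_add, _root_.map_one]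
  have he1 : (![1, 0, 0] : Fin 3 → F) ≠ 0 := fun h => one_ne_zero (congrFun h 0)
  -- a matrix with the same characteristic polynomial
  have hmem : ∀ D : Matrix.SpecialLinearGroup (Fin 3) F, D.1 0 0 + D.1 1 1 + D.1 2 2 = a →
      D.1 0 0 * D.1 1 1 - D.1 0 1 * D.1 1 0 + (D.1 0 0 * D.1 2 2 - D.1 0 2 * D.1 2 0) +
        (D.1 1 1 * D.1 2 2 - D.1 1 2 * D.1 2 1) = b → pr F D ∈ C := by
    intro D h1 h2
    refine mem_of_charpoly hC hc hirr ?_
    rw [hcA, charpoly_three, h1, h2, D.2]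
  -- the generic matrix
  let D : Matrix.SpecialLinearGroup (Fin 3) F := ⟨!![1, 0, a - b; 1, 1, -(3 - 2 * a + b); 0, 1, a - 2], by
    rw [det_fin_three]; simp only [_root_.neg_add_rev, _root_.neg_sub, _root_.Fin.isValue, _root_.Matrix.of_apply, _root_.Matrix.cons_val', _root_.Matrix.cons_val_zero, _root_.Matrix.cons_val_fin_one, _root_.Matrix.cons_val_one, _root_.mul_one, _root_.Matrix.cons_val, _root_.one_mul, _root_.MulZeroClass.zero_mul, _root_.sub_zero, _root_.MulZeroClass.mul_zero, _root_.add_zero]; ring⟩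
  have hD : pr F D ∈ C := by
    refine hmem D ?_ ?_
    · simp only [D, _root_.neg_add_rev, _root_.neg_sub, _root_.Fin.isValue, _root_.Matrix.of_apply, _root_.Matrix.cons_val', _root_.Matrix.cons_val_zero, _root_.Matrix.cons_val_fin_one, _root_.Matrix.cons_val_one, _root_.Matrix.cons_val]; ring
    · simp only [D, _root_.neg_add_rev, _root_.neg_sub, _root_.Fin.isValue, _root_.Matrix.of_apply, _root_.Matrix.cons_val', _root_.Matrix.cons_val_zero, _root_.Matrix.cons_val_fin_one, _root_.Matrix.cons_val_one, _root_.mul_one, _root_.sub_zero, _root_.Matrix.cons_val, _root_.one_mul, _root_.MulZeroClass.mul_zero]; ring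
  have h1 : A0.1 * D.1 = D.1 * A0.1 := by
    refine comm_of hp hC hA0 hD he1 ?_
    funext i
    (revert i; simp only [A0, D, Matrix.mul_apply, mulVec, dotProduct, Fin.sum_univ_three, _root_.Fin.forall_fin_succ, _root_.neg_add_rev, _root_.neg_sub, _root_.Matrix.of_apply, _root_.Matrix.cons_val', _root_.Matrix.cons_val_fin_one, Fin.isValue, _root_.Matrix.cons_val_zero, _root_.Matrix.cons_val_one, _root_.Matrix.cons_val, _root_.mul_one, _root_.MulZeroClass.mul_zero, _root_.add_zero, _root_.zero_add, _root_.mul_neg, _root_.Matrix.cons_val_succ, _root_.implies_true, _root_.and_self])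
  have h2 := congrFun (congrFun h1 2) 1
  have h3 := congrFun (congrFun h1 1) 1
  have h4 := congrFun (congrFun h1 0) 1
  simp only [A0, D, Matrix.mul_apply, Fin.sum_univ_three, _root_.neg_add_rev, _root_.neg_sub, _root_.Fin.isValue, _root_.Matrix.of_apply, _root_.Matrix.cons_val', _root_.Matrix.cons_val_fin_one, _root_.Matrix.cons_val, _root_.Matrix.cons_val_one, _root_.Matrix.cons_val_zero, _root_.MulZeroClass.mul_zero, _root_.mul_one, _root_.zero_add, _root_.add_zero, _root_.left_eq_add] at h2 h3 h4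
  have h30 : (3 : F) = 0 := by linear_combination h2
  have ha0 : a = 0 := by linear_combination a * h30 - h3 - h30
  have hb0 : b = -1 := by linear_combination h4 + ha0
  -- the special matrix
  let E : Matrix.SpecialLinearGroup (Fin 3) F := ⟨!![0, 1, 0; 0, 1, 1; 1, 0, -1], by
    rw [det_fin_three]; simp⟩
  have hE : pr F E ∈ C := by
    refine hmem E ?_ ?_
    · simp [E, ha0]
    · simp [E, hb0]
  have h5 : A0.1 * E.1 = E.1 * A0.1 := by
    refine comm_of hp hC hA0 hE he1 ?_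
    funext i
    (revert i; simp [A0, E, Matrix.mul_apply, mulVec, dotProduct, Fin.sum_univ_three, ha0, hb0, _root_.Fin.forall_fin_succ])
  have h6 := congrFun (congrFun h5 2) 1
  simp only [A0, E, Matrix.mul_apply, Fin.sum_univ_three, ha0, hb0, _root_.neg_neg, _root_.Fin.isValue, _root_.Matrix.of_apply, _root_.Matrix.cons_val', _root_.Matrix.cons_val_fin_one, _root_.Matrix.cons_val, _root_.Matrix.cons_val_one, _root_.Matrix.cons_val_zero, _root_.mul_one, _root_.zero_add, _root_.MulZeroClass.mul_zero, _root_.add_zero] at h6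
  have h7 : (1 : F) = 0 := by linear_combination h30 - h6
  exact one_ne_zero h7

end Cfsg.Agent.H877.CRowPSL3
end

-- part: H162/CC/LieRows
section
/-!
# The rows of the groups of Lie type, rank at least two (helper162, S3828)
-/

set_option autoImplicit false
set_option linter.unusedSectionVars false

namespace Cfsg.Agent.H162.CCR.LieRows

open Cfsg Cfsg.Agent.H162.CCR.Fam Cfsg.Agent.H460.Dgs Cfsg.Agent.H460.Engine Cfsg.Agent.H804.CRow

variable {K : Type*} [Group K] [Finite K] [IsSimpleGroup K]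

section

variable {r : ℕ} [Fact r.Prime]

/-- both characteristics -/
theorem crow_both (hab : ¬ IsMulCommutative K) {L : Type*} [Group L] {ℓ : ℕ} [Fact ℓ.Prime] {l : ℕ}
    {M : CoxeterMatrix (Fin l)} (H : HasFiltM ℓ L M) (hD : Dg M) (e : K ≃* L) (own : r = ℓ → CRow r L) : CRow r K := by
  by_cases h : r = ℓ
  · exact (own h).of_equiv e
  · exact H.crow_equiv hab hD e h

theorem fact_prime (F : Type) [Field F] [Finite F] (ℓ : ℕ) [CharP F ℓ] : Fact ℓ.Prime :=
  ⟨CharP.char_is_prime F ℓ⟩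

theorem crow_isPSL (hab : ¬ IsMulCommutative K) (h : IsPSL K) : CRow r K := by
  obtain ⟨F, _, _, n, hn, h4, ⟨e⟩⟩ := h
  obtain ⟨ℓ, hℓ⟩ := CharP.exists F
  have := fact_prime F ℓ
  rcases hn.eq_or_lt with rfl | hn
  · exact (Cfsg.Agent.H541.CrowPsl2.crow_psl2 (h4 rfl) r).of_equiv e
  · rcases (Nat.succ_le_of_lt hn).eq_or_lt with h3 | h3
    · obtain rfl : n = 3 := by omega
      by_cases h : r = ℓ
      · subst h
        exact (crow_own_psl (F := F) le_rfl).of_equiv e
      · refine (Cfsg.Agent.H877.CRowPSL3.crow_psl3 r fun hd => ?_).of_equiv e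
        obtain ⟨k, -, hk⟩ := FiniteField.card F ℓ
        rw [hk] at hd
        exact h ((Nat.prime_dvd_prime_iff_eq Fact.out Fact.out).1 (Nat.Prime.dvd_of_dvd_pow Fact.out hd))
    · obtain ⟨m, rfl⟩ : ∃ m, n = m + 1 := ⟨n - 1, by omega⟩
      exact crow_both hab (hasFiltM_PSL (F := F) m (p := ℓ)) (dg_A m (by omega)) e fun h => by
        subst h
        exact crow_own_psl (F := F) (by omega)

theorem crow_isPSp (hab : ¬ IsMulCommutative K) (h : IsPSp K) : CRow r K := by
  obtain ⟨F, _, _, m, hm, -, ⟨e⟩⟩ := h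
  obtain ⟨ℓ, hℓ⟩ := CharP.exists F
  have := fact_prime F ℓ
  exact crow_both hab (hasFiltM_PSp (F := F) (m := m) (by omega) (p := ℓ)) (dg_B m hm) e fun h => by
    subst h
    exact crow_own_psp (F := F) hm

theorem crow_isPSU (hab : ¬ IsMulCommutative K) (h : IsPSU K)
    (psu3 : ∀ (F : Type) [Field F] [Fintype F] (q : ℕ), Fintype.card F = q ^ 2 → 3 ≤ q → CRow r (PSU 3 F q)) :
    CRow r K := by
  obtain ⟨F, _, _, n, q, hF, h3, h2, ⟨e⟩⟩ := h
  obtain ⟨ℓ, hℓ⟩ := CharP.exists F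
  have := fact_prime F ℓ
  rcases h3.eq_or_lt with rfl | h3
  · have hq : 3 ≤ q := by
      by_contra hcon
      have h5 : 1 < Fintype.card F := Fintype.one_lt_card
      rw [hF] at h5
      have h6 : q ≠ 2 := fun h => h2 ⟨rfl, h⟩
      interval_cases q <;> omega
    exact (psu3 F q hF hq).of_equiv e
  · obtain ⟨m, hm, hmn, H⟩ := hasFiltM_PSU (N := n) hF (by omega) (p := ℓ)
    exact crow_both hab H (dg_B m (by omega)) e fun h => by
      subst h
      exact crow_own_psu (F := F) hF (by omega)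

theorem crow_isPOmegaOdd (hab : ¬ IsMulCommutative K) (h : IsPOmegaOdd K) : CRow r K := by
  obtain ⟨F, _, _, m, hm, hq, ⟨e⟩⟩ := h
  obtain ⟨ℓ, hℓ⟩ := CharP.exists F
  have := fact_prime F ℓ
  have h2 : (2 : F) ≠ 0 := by
    intro h2
    have h3 : CharP F 2 := CharTwo.of_one_ne_zero_of_two_eq_zero one_ne_zero h2
    obtain ⟨k, -, hk⟩ := FiniteField.card F 2
    rw [hk] at hq
    exact absurd hq (by
      rw [Nat.not_odd_iff_even]
      exact (even_two).pow_of_ne_zero k.ne_zero)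
  exact crow_both hab (hasFiltM_PO_odd (F := F) (m := m) h2 (by omega) (p := ℓ)) (dg_B m (by omega)) e fun h => by
    subst h
    exact crow_own_odd (F := F) h2 (by omega)

theorem crow_isPOmegaPlus (hab : ¬ IsMulCommutative K) (h : IsPOmegaPlus K) : CRow r K := by
  obtain ⟨F, _, _, m, hm, ⟨e⟩⟩ := h
  obtain ⟨ℓ, hℓ⟩ := CharP.exists F
  have := fact_prime F ℓ
  obtain ⟨n, rfl⟩ : ∃ n, m = n + 3 := ⟨m - 3, by omega⟩
  exact crow_both hab (hasFiltM_PO_plus (F := F) n (p := ℓ)) (dg_D (n + 1) (by omega)) e fun h => by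
    subst h
    exact crow_own_plus (F := F) (by omega)

theorem crow_isPOmegaMinus (hab : ¬ IsMulCommutative K) (h : IsPOmegaMinus K) : CRow r K := by
  obtain ⟨F, _, _, m, a, b, hm, hd, ⟨e⟩⟩ := h
  obtain ⟨ℓ, hℓ⟩ := CharP.exists F
  have := fact_prime F ℓ
  exact crow_both hab (hasFiltM_PO_minus (F := F) (m := m - 1) a b hd (by omega) (p := ℓ)) (dg_B (m - 1) (by omega)) e
    (fun h => by
      subst h
      exact crow_own_minus (F := F) a b hd (by omega))

open Cfsg.Lie Cfsg.Agent.ChevalleyStructure Cfsg.Agent.ChevalleyStructure.CoxeterGeomTypes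
  Cfsg.Agent.ChevalleyStructure.NPerm Cfsg.Agent.Nodes.RGDChev

theorem crow_isoChevG2 (hab : ¬ IsMulCommutative K) (h : Lie.IsoChevG2 K) : CRow r K := by
  obtain ⟨F, _, _, h3, ⟨e⟩⟩ := h
  obtain ⟨ℓ, hℓ⟩ := CharP.exists F
  have := fact_prime F ℓ
  have : Finite ↥(chevG2.group F) := Finite.of_equiv K e.toEquiv
  exact crow_both hab (hasFiltM_group (D := chevG2) (l := 2) (M := CoxeterMatrix.G₂) (by simp [IsType, typeList]) F ℓ)
    dg_G2 e (fun h => by
      subst h
      exact crow_own_exceptional ⟨F, inferInstance, inferInstance, hℓ, Or.inl ⟨h3, ⟨MulEquiv.refl _⟩⟩⟩)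

theorem crow_isoF4 (hab : ¬ IsMulCommutative K) (h : Lie.IsoF4 K) : CRow r K := by
  obtain ⟨F, _, _, ⟨e⟩⟩ := h
  obtain ⟨ℓ, hℓ⟩ := CharP.exists F
  have := fact_prime F ℓ
  have : Finite ↥(chevF4.group F) := Finite.of_equiv K e.toEquiv
  exact crow_both hab (hasFiltM_group (D := chevF4) (l := 4) (M := CoxeterMatrix.F₄) (by simp [IsType, typeList]) F ℓ)
    dg_F4 e (fun h => by
      subst h
      exact crow_own_exceptional ⟨F, inferInstance, inferInstance, hℓ, Or.inr (Or.inl ⟨MulEquiv.refl _⟩)⟩)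

theorem crow_isoE6 (hab : ¬ IsMulCommutative K) (h : Lie.IsoChevE6 K) : CRow r K := by
  obtain ⟨F, _, _, ⟨e⟩⟩ := h
  obtain ⟨ℓ, hℓ⟩ := CharP.exists F
  have := fact_prime F ℓ
  have : Finite ↥(chevE6.group F) := Finite.of_equiv K e.toEquiv
  exact crow_both hab (hasFiltM_group (D := chevE6) (l := 6) (M := CoxeterMatrix.E₆) (by simp [IsType, typeList]) F ℓ)
    dg_E6 e (fun h => by
      subst h
      exact crow_own_exceptional ⟨F, inferInstance, inferInstance, hℓ, Or.inr (Or.inr (Or.inl ⟨MulEquiv.refl _⟩))⟩)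

theorem crow_isoE7 (hab : ¬ IsMulCommutative K) (h : Lie.IsoE7 K) : CRow r K := by
  obtain ⟨F, _, _, ⟨e⟩⟩ := h
  obtain ⟨ℓ, hℓ⟩ := CharP.exists F
  have := fact_prime F ℓ
  have : Finite ↥(chevE7.group F) := Finite.of_equiv K e.toEquiv
  exact crow_both hab (hasFiltM_group (D := chevE7) (l := 7) (M := CoxeterMatrix.E₇) (by simp [IsType, typeList]) F ℓ)
    dg_E7 e (fun h => by
      subst h
      exact crow_own_exceptional ⟨F, inferInstance, inferInstance, hℓ, Or.inr (Or.inr (Or.inr (Or.inl ⟨MulEquiv.refl _⟩)))⟩)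

theorem crow_isoE8 (hab : ¬ IsMulCommutative K) (h : Lie.IsoE8 K) : CRow r K := by
  obtain ⟨F, _, _, ⟨e⟩⟩ := h
  obtain ⟨ℓ, hℓ⟩ := CharP.exists F
  have := fact_prime F ℓ
  have : Finite ↥(chevE8.group F) := Finite.of_equiv K e.toEquiv
  exact crow_both hab (hasFiltM_group (D := chevE8) (l := 8) (M := CoxeterMatrix.E₈) (by simp [IsType, typeList]) F ℓ)
    dg_E8 e (fun h => by
      subst h
      exact crow_own_exceptional ⟨F, inferInstance, inferInstance, hℓ, Or.inr (Or.inr (Or.inr (Or.inr ⟨MulEquiv.refl _⟩)))⟩)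

theorem crow_iso2E6 (hab : ¬ IsMulCommutative K) (h : Lie.Iso2E6 K) : CRow r K := by
  obtain ⟨F, _, _, q, hq, hF, ⟨e⟩⟩ := h
  obtain ⟨ℓ, hℓ⟩ := CharP.exists F
  have := fact_prime F ℓ
  have : Finite ↥(twistedE6 F q) := Finite.of_equiv K e.toEquiv
  exact crow_both hab (hasFiltM_twE6 hq hF ℓ) dg_F4 e fun h => by
    subst h
    exact crow_own_twisted ⟨F, inferInstance, inferInstance, hℓ, q, hq, Or.inl ⟨hF, ⟨MulEquiv.refl _⟩⟩⟩

theorem crow_iso3D4 (hab : ¬ IsMulCommutative K) (h : Lie.Iso3D4 K) : CRow r K := by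
  obtain ⟨F, _, _, q, hq, hF, ⟨e⟩⟩ := h
  obtain ⟨ℓ, hℓ⟩ := CharP.exists F
  have := fact_prime F ℓ
  have : Finite ↥(twistedD4 F q) := Finite.of_equiv K e.toEquiv
  exact crow_both hab (hasFiltM_twD4 hq hF ℓ) dg_G2 e fun h => by
    subst h
    exact crow_own_twisted ⟨F, inferInstance, inferInstance, hℓ, q, hq, Or.inr ⟨hF, ⟨MulEquiv.refl _⟩⟩⟩

end

end Cfsg.Agent.H162.CCR.LieRows
end

-- part: H778/CRowRee
section
/-!
# S3828, task REE-1 (helper778): `CRow p (²G₂(q))` for every prime `p` not dividing `q² - q + 1`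
-/

set_option autoImplicit false
set_option linter.unusedSectionVars false

namespace Cfsg.Agent.H778.CRowRee

open Subgroup Cfsg Cfsg.Lie Cfsg.Agent Cfsg.Agent.H162.CCR Cfsg.Agent.LieRecognition
open Cfsg.Agent.Lib.Cores

/-! ### cores of direct products -/

theorem pCore_prod_eq_bot {p : ℕ} [hp : Fact p.Prime] {A L : Type*} [Group A] [Group L] [Finite A] [Finite L]
    (hA : ¬ p ∣ Nat.card A) (hL : pCore p L = ⊥) : pCore p (A × L) = ⊥ := by
  rw [eq_bot_iff]
  intro x hx
  have hP : IsPGroup p (pCore p (A × L)) := pCore_isPGroup p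
  have h2 : x.2 = 1 := by
    have hn : ((pCore p (A × L)).map (MonoidHom.snd A L)).Normal :=
      Subgroup.Normal.map inferInstance _ Prod.snd_surjective
    have h3 : (pCore p (A × L)).map (MonoidHom.snd A L) ≤ pCore p L := le_pCore hn (hP.map _)
    rw [hL] at h3
    have h4 := h3 ⟨x, hx, rfl⟩
    simpa using h4
  have h1 : x.1 = 1 := by
    obtain ⟨k, hk⟩ := hP ⟨x, hx⟩
    have hk' : x ^ p ^ k = 1 := congrArg Subtype.val hk
    have h5 : x.1 ^ p ^ k = 1 := by rw [← Prod.pow_fst, hk', Prod.fst_one]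
    have h6 : orderOf x.1 ∣ p ^ k := orderOf_dvd_of_pow_eq_one h5
    have h7 : orderOf x.1 ∣ Nat.card A := _root_.orderOf_dvd_natCard _
    have h8 : (p ^ k).Coprime (Nat.card A) := Nat.Coprime.pow_left k ((Nat.Prime.coprime_iff_not_dvd hp.out).2 hA)
    have h9 : orderOf x.1 = 1 := Nat.eq_one_of_dvd_coprimes h8 h6 h7
    exact orderOf_eq_one_iff.1 h9
  rw [Subgroup.mem_bot]
  exact Prod.ext h1 h2

theorem pCore_eq_bot_of_equiv {p : ℕ} {H K : Type*} [Group H] [Group K] (e : H ≃* K) (h : pCore p K = ⊥) :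
    pCore p H = ⊥ := by
  rw [eq_bot_iff]
  intro x hx
  have h1 := pCore_of_equiv e hx
  rw [h, Subgroup.mem_bot] at h1
  rw [Subgroup.mem_bot]
  exact e.injective (by rw [h1, map_one])

/-! ### numbers -/

/-- `|G| = |C| * (q² (q² - q + 1))` -/
theorem index_eq {q i : ℕ} (hq : 1 < q) (h : q * (q ^ 2 - 1) * i = q ^ 3 * (q - 1) * (q ^ 3 + 1)) :
    i = q ^ 2 * (q ^ 2 - q + 1) := by
  obtain ⟨r, rfl⟩ : ∃ r, q = r + 1 := ⟨q - 1, by omega⟩
  have e1 : (r + 1) ^ 2 - 1 = r * (r + 2) := by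
    have : (r + 1) ^ 2 = r * (r + 2) + 1 := by ring
    omega
  have e2 : (r + 1) ^ 2 - (r + 1) + 1 = r ^ 2 + r + 1 := by
    have : (r + 1) ^ 2 = (r ^ 2 + r) + (r + 1) := by ring
    omega
  have e3 : r + 1 - 1 = r := by omega
  rw [e1, e3] at h
  rw [e2]
  have hr : 0 < (r + 1) * (r * (r + 2)) := by
    have : 0 < r := by omega
    positivity
  apply Nat.eq_of_mul_eq_mul_left hr
  rw [h]
  ring

theorem not_comm_psl {F : Type*} [Field F] [Fintype F] (h3 : 3 < Fintype.card F) :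
    ¬ IsMulCommutative (Matrix.ProjectiveSpecialLinearGroup (Fin 2) F) := by
  intro h
  have h1 := TwoFusion.SLTwoFacts.commutator_eq_top h3
  have h2 := Subgroup.map_commutator (⊤ : Subgroup (Matrix.SpecialLinearGroup (Fin 2) F)) ⊤
    (QuotientGroup.mk' (center (Matrix.SpecialLinearGroup (Fin 2) F)))
  have h4 : ⁅(⊤ : Subgroup (Matrix.SpecialLinearGroup (Fin 2) F)), ⊤⁆ = ⊤ := h1
  have h6 : (⊤ : Subgroup (Matrix.SpecialLinearGroup (Fin 2) F)).map
      (QuotientGroup.mk' (center (Matrix.SpecialLinearGroup (Fin 2) F))) = ⊤ :=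
    Subgroup.map_top_of_surjective _ (QuotientGroup.mk'_surjective _)
  rw [h4, h6] at h2
  have h5 : ⁅(⊤ : Subgroup (Matrix.SpecialLinearGroup (Fin 2) F ⧸ center (Matrix.SpecialLinearGroup (Fin 2) F))),
      (⊤ : Subgroup (Matrix.SpecialLinearGroup (Fin 2) F ⧸ center (Matrix.SpecialLinearGroup (Fin 2) F)))⁆ = ⊥ := by
    rw [commutator_eq_bot_iff_le_centralizer]
    intro x _
    rw [mem_centralizer_iff]
    intro y _
    exact h.is_comm.comm y x
  rw [h5] at h2
  have := TwoFusion.SLTwoFacts.isSimpleGroup_psl h3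
  exact bot_ne_top (α := Subgroup (Matrix.ProjectiveSpecialLinearGroup (Fin 2) F)) h2.symm

section Abs

variable {K : Type*} [Field K] [Fintype K] {G : Type*} [Group G] [Finite G] {m : ℕ} {U : K → K → K → G} {h : Kˣ → G}
  {n : G} (D : ReeAbs.Data m U h n) (hK : Fintype.card K = 3 ^ (2 * m + 1))

include D

theorem not_comm (hperf : commutator G = ⊤) : ¬ IsMulCommutative G := by
  intro hc
  have h1 : commutator G = ⊥ := by
    rw [commutator_def, Subgroup.commutator_eq_bot_iff_le_centralizer]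
    intro x _
    rw [Subgroup.mem_centralizer_iff]
    intro y _
    exact hc.is_comm.comm y x
  have h2 : n ∈ (⊤ : Subgroup G) := Subgroup.mem_top n
  rw [← hperf, h1, Subgroup.mem_bot] at h2
  exact D.n_ne_one h2

include hK

/-- `p = 2` -/
theorem row_two (hperf : commutator G = ⊤) : CRow 2 G := by
  intro C hC c hc
  have hf3 : Fact (Nat.Prime 2) := ⟨Nat.prime_two⟩
  have hs := ChevalleyStructure.Ree.Simple.isSimple D hK hperf
  have hO := pCore_eq_bot_of_simple (not_comm D hperf) 2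
  obtain ⟨P, hP⟩ := (hC.isPGroup_zpowers hc).exists_le_sylow
  exact hC.sq_ne_one hO hc ((D.sylow_two hK (ReeFinal.card_of_data D hK) P).2 c (hP (Subgroup.mem_zpowers c)))

theorem card_centralizer : Nat.card (Subgroup.centralizer ({h (-1)} : Set G)) =
    3 ^ (2 * m + 1) * ((3 ^ (2 * m + 1)) ^ 2 - 1) := by
  obtain ⟨e⟩ := D.centralizer_iso hK
  rw [Nat.card_congr e.toEquiv, Nat.card_prod, Nat.card_congr Multiplicative.toAdd, Nat.card_zmod]
  have h1 := Cfsg.Agent.ClassicalGeometry.PSL2Basic.card_PSL2_gcd (F := K)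
  have h2 : Nat.gcd 2 (Fintype.card K - 1) = 2 := by
    apply Nat.gcd_eq_left
    have h3 : Odd (Fintype.card K) := by rw [hK]; exact Odd.pow (by decide)
    obtain ⟨j, hj⟩ := h3
    exact ⟨j, by (clear * - hj; omega)⟩
  rw [h2, hK] at h1
  rw [mul_comm, h1]

theorem index_centralizer : (Subgroup.centralizer ({h (-1)} : Set G)).index =
    (3 ^ (2 * m + 1)) ^ 2 * ((3 ^ (2 * m + 1)) ^ 2 - 3 ^ (2 * m + 1) + 1) := by
  have h1 := Subgroup.card_mul_index (Subgroup.centralizer ({h (-1)} : Set G))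
  rw [card_centralizer D hK, ReeFinal.card_of_data D hK] at h1
  exact index_eq (Nat.one_lt_pow (by omega) (by norm_num)) h1

theorem centralizer_ne_top : Subgroup.centralizer ({h (-1)} : Set G) ≠ ⊤ := by
  intro h1
  have h2 := index_centralizer D hK
  rw [h1, Subgroup.index_top] at h2
  have h3 : 1 < (3 ^ (2 * m + 1)) ^ 2 := Nat.one_lt_pow (by norm_num) (Nat.one_lt_pow (by omega) (by norm_num))
  have h4 : 1 ≤ ((3 ^ (2 * m + 1)) ^ 2 - 3 ^ (2 * m + 1) + 1) := by omega
  nlinarith only [h2, h3]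

theorem core_centralizer (hm : 1 ≤ m) {p : ℕ} [hp : Fact p.Prime] (hp2 : p ≠ 2) :
    pCore p (Subgroup.centralizer ({h (-1)} : Set G)) = ⊥ := by
  obtain ⟨e⟩ := D.centralizer_iso hK
  have h3 : 3 < Fintype.card K := by
    rw [hK]
    calc 3 < 3 ^ 3 := by norm_num
      _ ≤ 3 ^ (2 * m + 1) := Nat.pow_le_pow_right (by norm_num) (by omega)
  have hs : IsSimpleGroup (Matrix.ProjectiveSpecialLinearGroup (Fin 2) K) :=
    Cfsg.Agent.TwoFusion.SLTwoFacts.isSimpleGroup_psl h3
  have hfin : Finite (Matrix.ProjectiveSpecialLinearGroup (Fin 2) K) := by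
    unfold Matrix.ProjectiveSpecialLinearGroup
    infer_instance
  refine pCore_eq_bot_of_equiv e (pCore_prod_eq_bot ?_ (pCore_eq_bot_of_simple (not_comm_psl h3) p))
  rw [Nat.card_congr Multiplicative.toAdd, Nat.card_zmod]
  intro h4
  exact hp2 ((Nat.prime_dvd_prime_iff_eq hp.out Nat.prime_two).1 h4)

/-- `p ≠ 2, 3` prime to `q² - q + 1` -/
theorem row_index (hm : 1 ≤ m) {p : ℕ} [hp : Fact p.Prime] (hp2 : p ≠ 2) (hp3 : p ≠ 3)
    (hpq : ¬ p ∣ (3 ^ (2 * m + 1)) ^ 2 - 3 ^ (2 * m + 1) + 1) : CRow p G := by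
  intro C hC
  refine hC.eq_one_of_index (centralizer_ne_top D hK) ?_ (core_centralizer D hK hm hp2)
  rw [index_centralizer D hK]
  intro h1
  rcases (Nat.Prime.dvd_mul hp.out).1 h1 with h2 | h2
  · have h3 := hp.out.dvd_of_dvd_pow (hp.out.dvd_of_dvd_pow h2)
    exact hp3 ((Nat.prime_dvd_prime_iff_eq hp.out Nat.prime_three).1 h3)
  · exact hpq h2

/-! ### `p = 3` -/

/-- the Sylow 3-subgroup -/
def UU : Subgroup G where
  carrier := {g | ∃ t u v, g = U t u v}
  one_mem' := ⟨0, 0, 0, D.U_zero.symm⟩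
  mul_mem' := by
    rintro _ _ ⟨t, u, v, rfl⟩ ⟨t', u', v', rfl⟩
    exact ⟨_, _, _, D.U_mul _ _ _ _ _ _⟩
  inv_mem' := by
    rintro _ ⟨t, u, v, rfl⟩
    exact ChevalleyStructure.Ree.Simple.U_inv D t u v

omit hK in
theorem U_inj {t u v t' u' v' : K} (h1 : U t u v = U t' u' v') : t = t' ∧ u = u' ∧ v = v' := by
  have h2 : U t u v * h 1 = U t' u' v' * h 1 := by rw [h1]
  obtain ⟨a, b, c, -⟩ := D.inj₁ _ _ _ _ _ _ _ _ h2
  exact ⟨a, b, c⟩

theorem card_UU : Nat.card (UU D) = (3 ^ (2 * m + 1)) ^ 3 := by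
  let f : K × K × K → UU D := fun x => ⟨U x.1 x.2.1 x.2.2, _, _, _, rfl⟩
  have hf : Function.Bijective f := by
    constructor
    · rintro ⟨t, u, v⟩ ⟨t', u', v'⟩ h1
      obtain ⟨h2, h3, h4⟩ := U_inj D (congrArg Subtype.val h1)
      simp only at h2 h3 h4
      rw [h2, h3, h4]
    · rintro ⟨_, t, u, v, rfl⟩
      exact ⟨(t, u, v), rfl⟩
  rw [← Nat.card_congr (Equiv.ofBijective f hf), Nat.card_prod, Nat.card_prod, Nat.card_eq_fintype_card, hK]
  ring

theorem index_UU : ¬ 3 ∣ (UU D).index := by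
  have h1 := Subgroup.card_mul_index (UU D)
  rw [card_UU D hK, ReeFinal.card_of_data D hK, mul_assoc] at h1
  have h2 := Nat.eq_of_mul_eq_mul_left (by positivity) h1
  rw [h2]
  intro h3
  have h4 : 3 ∣ 3 ^ (2 * m + 1) := dvd_pow_self 3 (by omega)
  have h5 : 1 < 3 ^ (2 * m + 1) := Nat.one_lt_pow (by omega) (by norm_num)
  rcases (Nat.Prime.dvd_mul Nat.prime_three).1 h3 with h6 | h6
  · omega
  · have h7 : 3 ∣ (3 ^ (2 * m + 1)) ^ 3 := Dvd.dvd.pow h4 (by norm_num)
    omega

theorem isPGroup_UU : IsPGroup 3 (UU D) := IsPGroup.of_card (n := (2 * m + 1) * 3) (by rw [card_UU D hK, ← pow_mul])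

section Three

variable {C : Set G} (hC : Min 3 C)

include hC

/-- `U 0 u v ∈ C` implies `u = 0` -/
theorem u_eq_zero (hm : 1 ≤ m) {u v : K} (h1 : U 0 u v ∈ C) : u = 0 := by
  by_contra hu
  have e0 : (0 : K) ^ 3 ^ (m + 1) = 0 := zero_pow (by positivity)
  have h2 : U (-(v / u)) 0 0 * U 0 u v = U 0 u 0 * U (-(v / u)) 0 0 := by
    rw [D.U_mul, D.U_mul]
    rw [e0]
    congr 1
    · ring
    · ring
    · field_simp
      ring
  have h3 : U (-(v / u)) 0 0 * U 0 u v * (U (-(v / u)) 0 0)⁻¹ ∈ C := hC.conj _ _ h1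
  rw [h2, mul_inv_cancel_right] at h3
  have h4 : U 0 u 0 ∈ Subgroup.centralizer ({h (-1)} : Set G) := by
    rw [Subgroup.mem_centralizer_singleton_iff, D.inv_mul_U, neg_zero]
  have h5 := hC.eq_one_of_mem (centralizer_ne_top D hK) (core_centralizer D hK hm (by norm_num)) h3 h4
  rw [← D.U_zero] at h5
  exact hu (U_inj D h5).2.1

/-- `U t u v ∈ C` implies `t = 0` -/
theorem t_eq_zero (hm : 1 ≤ m) {t u v : K} (h1 : U t u v ∈ C) : t = 0 := by
  by_contra ht
  -- a torus element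
  obtain ⟨a, ha⟩ : ∃ a : Kˣ, ((a : K) ^ 3 ^ (m + 1)) ^ 3 ^ (m + 1) ≠ (a : K) ^ 3 ^ (m + 1) := by
    by_contra hall
    push Not at hall
    obtain ⟨g, hg⟩ := IsCyclic.exists_generator (α := Kˣ)
    have hg1 := hall g
    rw [← pow_mul, ← pow_add] at hg1
    have e1 : m + 1 + (m + 1) = 2 * m + 1 + 1 := by ring
    rw [e1, pow_succ 3 (2 * m + 1), pow_mul, ← hK, FiniteField.pow_card, pow_succ 3 m, pow_mul] at hg1
    have hchar := ReeAbs.charP_three hK
    have h3 : (g : K) = (g : K) ^ 3 ^ m := frobenius_inj K 3 hg1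
    have h4 : g ^ (3 ^ m - 1) = 1 := by
      have h5 : g * g ^ (3 ^ m - 1) = g * 1 := by
        rw [← pow_succ', mul_one, Nat.sub_add_cancel (Nat.one_le_pow _ _ (by norm_num))]
        exact Units.ext (by rw [Units.val_pow_eq_pow_val]; exact h3.symm)
      exact mul_left_cancel h5
    have h5 : orderOf g = 3 ^ (2 * m + 1) - 1 := by
      rw [orderOf_eq_card_of_forall_mem_zpowers hg, Nat.card_units, Nat.card_eq_fintype_card, hK]
    have h6 := orderOf_dvd_of_pow_eq_one h4
    rw [h5] at h6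
    have h7 : 3 ≤ 3 ^ m := by
      calc 3 = 3 ^ 1 := by norm_num
        _ ≤ 3 ^ m := Nat.pow_le_pow_right (by norm_num) hm
    have h8 : 3 ^ m < 3 ^ (2 * m + 1) := Nat.pow_lt_pow_right (by norm_num) (by omega)
    have h9 := Nat.le_of_dvd (by omega) h6
    omega
  -- the conjugate
  obtain ⟨u', v', h2⟩ : ∃ u' v', U ((a : K) ^ 3 ^ (m + 1) * t) u' v' ∈ C := by
    have h3 : h a * U t u v * (h a)⁻¹ ∈ C := hC.conj _ _ h1
    rw [D.h_U, mul_inv_cancel_right] at h3
    exact ⟨_, _, h3⟩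
  set κ := (a : K) ^ 3 ^ (m + 1) with hκ
  -- the commutator
  have h3 := hC.comm _ h1 _ h2
  have h4 : (U t u v)⁻¹ * (U (κ * t) u' v')⁻¹ * U t u v * U (κ * t) u' v' ∈ UU D := by
    have k1 : U t u v ∈ UU D := ⟨_, _, _, rfl⟩
    have k2 : U (κ * t) u' v' ∈ UU D := ⟨_, _, _, rfl⟩
    exact mul_mem (mul_mem (mul_mem (inv_mem k1) (inv_mem k2)) k1) k2
  obtain ⟨x, y, z, h5⟩ := h4
  have h6 : U t u v * U (κ * t) u' v' = U (κ * t) u' v' * U t u v * U x y z := by
    rw [← h5]
    group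
  rw [D.U_mul, D.U_mul, D.U_mul] at h6
  obtain ⟨h7, h8, -⟩ := U_inj D h6
  have hx : x = 0 := by
    have : t + κ * t = κ * t + t + x := h7
    linear_combination -this
  rw [hx] at h5 h8
  rw [h5] at h3
  have hy := u_eq_zero D hK hC hm h3
  rw [hy, zero_pow (by positivity)] at h8
  have h9 : t * t ^ 3 ^ (m + 1) * (κ - κ ^ 3 ^ (m + 1)) = 0 := by
    rw [mul_pow] at h8
    linear_combination h8
  rcases mul_eq_zero.1 h9 with h10 | h10
  · rcases mul_eq_zero.1 h10 with h11 | h11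
    · exact ht h11
    · exact ht (pow_eq_zero_iff (by positivity) |>.1 h11)
  · exact ha (sub_eq_zero.1 h10).symm

/-- a non-trivial element of `C` -/
theorem one_mem_C (hm : 1 ≤ m) {c : G} (hc : c ∈ C) (hc1 : c ≠ 1) : U 0 0 1 ∈ C := by
  have hf3 : Fact (Nat.Prime 3) := ⟨Nat.prime_three⟩
  obtain ⟨g, hg⟩ := hC.exists_conj_mem (index_UU D hK) hc
  obtain ⟨t, u, v, h1⟩ := hg
  have h2 : U t u v ∈ C := h1 ▸ hC.conj g c hc
  have ht := t_eq_zero D hK hC hm h2
  subst ht
  have hu := u_eq_zero D hK hC hm h2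
  subst hu
  have hv : v ≠ 0 := by
    rintro rfl
    rw [D.U_zero] at h1
    exact hc1 (by simpa only [_root_.conj_eq_one_iff] using h1)
  -- the torus is transitive
  obtain ⟨b, hb⟩ : ∃ b : Kˣ, ((b : Kˣ) : K) * v = 1 :=
    ⟨(Units.mk0 v hv)⁻¹, by rw [Units.val_inv_eq_inv_val, Units.val_mk0, inv_mul_cancel₀ hv]⟩
  have h3 : b ^ 3 ^ (2 * m + 1) = b := ReeAbs.units_pow_card hK b
  have h4 : (b ^ (2 * 3 ^ m) * b⁻¹) ^ (2 * 3 ^ (m + 1) + 3) = b := by
    rw [mul_pow, inv_pow b, ← pow_mul, mul_inv_eq_iff_eq_mul]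
    have e1 : 2 * 3 ^ m * (2 * 3 ^ (m + 1) + 3) = 3 ^ (2 * m + 1) * 4 + 2 * 3 ^ (m + 1) := by
      have : 3 ^ (2 * m + 1) = 3 ^ m * 3 ^ (m + 1) := by rw [← pow_add]; congr 1; ring
      rw [this, pow_succ 3 m]
      ring
    rw [e1, pow_add, pow_mul, h3]
    have e2 : 2 * 3 ^ (m + 1) + 3 = 3 + 2 * 3 ^ (m + 1) := by ring
    rw [e2, pow_add b 3, ← mul_assoc, ← pow_succ']
  have h5 : h (b ^ (2 * 3 ^ m) * b⁻¹) * U 0 0 v * (h (b ^ (2 * 3 ^ m) * b⁻¹))⁻¹ ∈ C := hC.conj _ _ h2
  rw [D.h_U, mul_inv_cancel_right, ← Units.val_pow_eq_pow_val (b ^ (2 * 3 ^ m) * b⁻¹) (2 * 3 ^ (m + 1) + 3), h4,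
    mul_zero, mul_zero] at h5
  rwa [hb] at h5

end Three

/-- `p = 3` -/
theorem row_three (hm : 1 ≤ m) (hperf : commutator G = ⊤) (R : Subgroup G) (hR : R ≠ ⊤) (hR1 : U 0 0 1 ∈ R)
    (hR2 : n ∈ R) : CRow 3 G := by
  intro C hC c hc
  by_contra hc1
  have hf3 : Fact (Nat.Prime 3) := ⟨Nat.prime_three⟩
  have hs := ChevalleyStructure.Ree.Simple.isSimple D hK hperf
  have hO := pCore_eq_bot_of_simple (not_comm D hperf) 3
  have h1 := one_mem_C D hK hC hm hc hc1
  have h2 : U 0 0 1 ≠ 1 := by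
    intro h3
    rw [← D.U_zero] at h3
    exact one_ne_zero (U_inj D h3).2.2
  let P : Sylow 3 G := (isPGroup_UU D hK).toSylow (index_UU D hK)
  have hP : (P : Subgroup G) = UU D := IsPGroup.toSylow_coe _ _
  have h3 : U 0 0 1 ∈ (P : Subgroup G) := by rw [hP]; exact ⟨_, _, _, rfl⟩
  have h4 := hC.le_M hO h1 h2 h3 hR hR1 hR2
  have h5 : n * U 0 0 1 * n⁻¹ ∈ W C (P : Subgroup G) := (Subgroup.mem_normalizer_iff.1 h4 _).1 (mem_W h1 h3)
  have h6 := W_le h5
  rw [hP] at h6
  obtain ⟨t, u, v, h7⟩ := h6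
  have h8 : U 0 0 0 * h 1 * n * U 0 0 1 = U t u v * h 1 * n * U 0 0 0 := by
    rw [D.U_zero, D.h_one, ← h7]
    group
  exact one_ne_zero (D.inj₂ _ _ _ _ _ _ _ _ _ _ _ _ _ _ h8).2.2.2.2.2.2

end Abs

/-! ### The subfield subgroup -/

section Concrete

open Cfsg.Agent.ChevalleyStructure.Ree.Gens Cfsg.Agent.ChevalleyStructure.Ree.Checks

variable {K : Type*} [Field K] [Fintype K] {m : ℕ}

theorem map_wU {L : Type*} [Field L] (φ : K →+* L) (e : ℕ) (t u v : K) :
    ((wU e t u v : GL chevG2.Idx K) : Matrix chevG2.Idx chevG2.Idx K).map φ =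
      ((wU e (φ t) (φ u) (φ v) : GL chevG2.Idx L) : Matrix chevG2.Idx chevG2.Idx L) := by
  rw [coe_wU, coe_wU]
  refine (Cfsg.Agent.ChevStructure.FieldMap.wordMat_map chevG2 φ _).trans ?_
  congr 1
  simp [reeWordU, map_pow, map_add]

theorem map_nMat {L : Type*} [Field L] (φ : K →+* L) : (nMat K).map φ = nMat L := by
  ext i j
  rcases i with i | i <;> rcases j with j | j
  · simp only [Matrix.map_apply, nMat, Matrix.of_apply]
    split_ifs <;> simp only [_root_.map_neg, _root_.map_one, _root_.map_zero]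
  · simp only [nMat, _root_.Matrix.map_apply, _root_.Matrix.of_apply, _root_.map_zero]
  · simp only [nMat, _root_.Matrix.map_apply, _root_.Matrix.of_apply, _root_.map_zero]
  · simp only [Matrix.map_apply, nMat, Matrix.of_apply]
    split_ifs <;> simp only [_root_.map_neg, _root_.map_one, _root_.map_zero]

/-- the fixed points of an endomorphism of the field -/
def fixG (φ : K →+* K) (m : ℕ) : Subgroup ↥(twistedG2 K (3 ^ m)) :=
  MonoidHom.eqLocus ((Matrix.GeneralLinearGroup.map φ).comp (twistedG2 K (3 ^ m)).subtype)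
    (twistedG2 K (3 ^ m)).subtype

theorem mem_fixG {φ : K →+* K} {g : ↥(twistedG2 K (3 ^ m))} : g ∈ fixG φ m ↔
    ((g : GL chevG2.Idx K) : Matrix chevG2.Idx chevG2.Idx K).map φ =
      ((g : GL chevG2.Idx K) : Matrix chevG2.Idx chevG2.Idx K) := by
  constructor
  · intro h
    have h1 : Matrix.GeneralLinearGroup.map φ (g : GL chevG2.Idx K) = g := h
    exact congrArg (fun x : GL chevG2.Idx K => (x : Matrix chevG2.Idx chevG2.Idx K)) h1
  · intro h
    show Matrix.GeneralLinearGroup.map φ (g : GL chevG2.Idx K) = g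
    exact Units.ext h

/-- **REE-1**: `CRow p (²G₂(q))` for every prime `p` not dividing `q² - q + 1`. -/
theorem crow_ree_easy (hm : 1 ≤ m) (hK : Fintype.card K = 3 ^ (2 * m + 1)) (p : ℕ) [hp : Fact p.Prime]
    (hpq : ¬ p ∣ (3 ^ (2 * m + 1)) ^ 2 - 3 ^ (2 * m + 1) + 1) : CRow p ↥(twistedG2 K (3 ^ m)) := by
  have D := ReeFinal.data hK
  have hperf := ChevalleyStructure.Ree.Perfect.commutator_eq_top hK hm
  have hfin : Finite ↥(twistedG2 K (3 ^ m)) := inferInstance
  by_cases hp2 : p = 2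
  · subst hp2
    exact row_two D hK hperf
  by_cases hp3 : p = 3
  swap
  · exact row_index D hK hm hp2 hp3 hpq
  subst hp3
  have hchar := ReeAbs.charP_three hK
  refine row_three D hK hm hperf (fixG (frobenius K 3) m) ?_ ?_ ?_
  · intro htop
    -- a generator of the multiplicative group
    obtain ⟨g, hg⟩ := IsCyclic.exists_generator (α := Kˣ)
    have h1 : ReeData.U m (g : K) 0 0 ∈ fixG (frobenius K 3) m := by rw [htop]; trivial
    rw [mem_fixG] at h1
    have h2 : ((wU (3 ^ m) (frobenius K 3 g) (frobenius K 3 0) (frobenius K 3 0) : GL chevG2.Idx K) :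
        Matrix chevG2.Idx chevG2.Idx K) = ((wU (3 ^ m) (g : K) 0 0 : GL chevG2.Idx K) :
        Matrix chevG2.Idx chevG2.Idx K) := by
      rw [← map_wU]
      exact h1
    have h3 : ReeData.U m (frobenius K 3 g) (frobenius K 3 0) (frobenius K 3 0) = ReeData.U m (g : K) 0 0 :=
      Subtype.ext (Units.ext h2)
    have h4 := (U_inj D h3).1
    rw [frobenius_def] at h4
    have h5 : g ^ 2 = 1 := by
      have h6 : g * g ^ 2 = g * 1 := by
        rw [← pow_succ', mul_one]
        exact Units.ext (by rw [Units.val_pow_eq_pow_val]; exact h4)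
      exact mul_left_cancel h6
    have h6 : orderOf g = 3 ^ (2 * m + 1) - 1 := by
      rw [orderOf_eq_card_of_forall_mem_zpowers hg, Nat.card_units, Nat.card_eq_fintype_card, hK]
    have h7 := Nat.le_of_dvd (by norm_num) (orderOf_dvd_of_pow_eq_one h5)
    have h8 : 3 ^ 3 ≤ 3 ^ (2 * m + 1) := Nat.pow_le_pow_right (by norm_num) (by omega)
    omega
  · rw [mem_fixG]
    show ((wU (3 ^ m) (0 : K) 0 1 : GL chevG2.Idx K) : Matrix chevG2.Idx chevG2.Idx K).map _ = _
    rw [map_wU, map_zero, map_one]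
    rfl
  · rw [mem_fixG]
    exact map_nMat _

end Concrete

end Cfsg.Agent.H778.CRowRee
end

private theorem dce_1bae87ec16da : _root_.True := by
  try have : _root_.True := by simp only [_root_.Cfsg.Agent.H877.CRowPSL3.tv.congr_simp]
  try have : _root_.True := by simp only [_root_.Cfsg.Agent.H877.CRowPSL3.pr.eq_1]
  try have : _root_.True := by simp only [_root_.Cfsg.Agent.H541.CrowPsl2.uu.eq_1]
  exact _root_.True.intro
end

-- part: H442/CRowTools
section
set_option linter.all false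
open scoped Cfsg.Agent.FastGrp

/-!
# Rows `CRow p G`: small tools for the sporadic groups (helper442, S3828)
-/

set_option autoImplicit false

namespace Cfsg.Agent.H442.CRowTools

open Subgroup Cfsg Cfsg.Agent.Lib.Cores Cfsg.Agent.H162.CCR
open Cfsg.Agent.J2Type.Model Cfsg.Agent.J2Type.CStruct
open Cfsg.Agent.H102.AAJtwo

/-! ### `O_p` of some groups -/

/-- a group with a nonabelian simple quotient and a `p'`-kernel -/
theorem pCore_bot_of_onto {H S : Type*} [Group H] [Finite H] [Group S] [Finite S] {p : ℕ} [hp : Fact p.Prime]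
    (hs : IsSimpleGroup S) (hab : ¬ IsMulCommutative S) (f : H →* S) (hf : Function.Surjective f)
    (hk : ¬ p ∣ Nat.card f.ker) : pCore p H = ⊥ := by
  have h1 : (pCore p H).map f ≤ pCore p S :=
    le_pCore (Subgroup.Normal.map inferInstance f hf) ((pCore_isPGroup p).map f)
  rw [pCore_eq_bot_of_simple hab p] at h1
  have h2 : pCore p H ≤ f.ker := by
    intro x hx
    exact (mem_bot.1 (h1 ⟨x, hx, rfl⟩) : f x = 1)
  obtain ⟨n, hn⟩ := (IsPGroup.iff_card).1 (pCore_isPGroup (G := H) p)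
  have h3 : Nat.card (pCore p H) ∣ Nat.card f.ker := card_dvd_of_le h2
  rcases Nat.eq_zero_or_pos n with h0 | h0
  · rw [h0, pow_zero] at hn
    exact card_eq_one.1 hn
  · exfalso
    exact hk ((dvd_pow_self p h0.ne').trans (hn ▸ h3))

/-- a group with a nonabelian simple subgroup of `p'`-index -/
theorem pCore_bot_of_sub {H : Type*} [Group H] [Finite H] {p : ℕ} [hp : Fact p.Prime] {S : Subgroup H}
    (hs : IsSimpleGroup S) (hab : ¬ IsMulCommutative S) (hi : ¬ p ∣ S.index) : pCore p H = ⊥ := by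
  obtain ⟨P, hP⟩ := exists_sylow_le hi
  have h1 : pCore p H ≤ S := by
    refine le_trans ?_ hP
    obtain ⟨Q, hQ⟩ := (pCore_isPGroup (G := H) p).exists_le_sylow
    obtain ⟨g, hg⟩ := MulAction.exists_smul_eq H Q P
    intro x hx
    have h2 : g⁻¹ * x * g⁻¹⁻¹ ∈ pCore p H := (inferInstance : (pCore p H).Normal).conj_mem x hx g⁻¹
    have h3 := hQ h2
    have h4 : g * (g⁻¹ * x * g⁻¹⁻¹) * g⁻¹ ∈ (P : Subgroup H) := by
      rw [← hg, Sylow.coe_subgroup_smul]
      exact Subgroup.smul_mem_pointwise_smul _ (MulAut.conj g) _ h3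
    have e : g * (g⁻¹ * x * g⁻¹⁻¹) * g⁻¹ = x := by group
    rwa [e] at h4
  have h2 : (pCore p H).subgroupOf S ≤ pCore p S := by
    refine le_pCore inferInstance ?_
    exact (pCore_isPGroup (G := H) p).comap_of_injective _ S.subtype_injective
  rw [pCore_eq_bot_of_simple hab p, le_bot_iff, subgroupOf_eq_bot, disjoint_iff, inf_eq_left.2 h1] at h2
  exact h2

/-! ### Primes not dividing the order -/

theorem crow_of_card {G : Type*} [Group G] [Finite G] {p : ℕ} [hp : Fact p.Prime] (h : ¬ p ∣ Nat.card G) :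
    CRow p G := by
  intro C hC c hc
  obtain ⟨k, hk⟩ := hC.pel c hc
  rcases Nat.eq_zero_or_pos k with h0 | h0
  · rw [h0, pow_zero] at hk
    exact orderOf_eq_one_iff.1 hk
  · exfalso
    exact h ((dvd_pow_self p h0.ne').trans (hk ▸ orderOf_dvd_natCard c))

/-- elements with centralizers of even order -/
theorem crow_of_even {G : Type*} [Group G] [Finite G] {p : ℕ} [hp : Fact p.Prime]
    (ht : ∀ t : G, t ≠ 1 → t * t = 1 → ∃ H : Subgroup G, H ≠ ⊤ ∧ centralizer {t} ≤ H ∧ pCore p H = ⊥)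
    (he : ∀ x : G, x ≠ 1 → (∃ k : ℕ, orderOf x = p ^ k) → 2 ∣ Nat.card (centralizer ({x} : Set G))) : CRow p G := by
  intro C hC c hc
  by_contra hc1
  have h1 := hC.odd_centralizer ht hc hc1
  exact (Nat.not_even_iff_odd.2 h1) (even_iff_two_dvd.2 (he c hc1 (hC.pel c hc)))

/-! ### `p = 2`: `C(t) = 2^{1+4}_-.A₅` -/

theorem perm_exists : ∀ i j : Fin 5, i ≠ j → ∃ σ : Equiv.Perm (Fin 5), Equiv.Perm.sign σ = 1 ∧ σ i = i ∧ σ j ≠ j := by
  decide +kernel

/-- the abelian normal 2-subgroups of `C(t)` have exponent 2 -/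
theorem sq_of_abelian {C : Type*} [Group C] [Finite C] {Q : Subgroup C} {z : C} {v : Fin 5 → C} {ρ : C →* SP}
    (M : IsModel Q z v ρ) {N : Subgroup C} (h2 : IsPGroup 2 N) (hn : ∀ c, ∀ n ∈ N, c * n * c⁻¹ ∈ N)
    (hab : ∀ x ∈ N, ∀ y ∈ N, x * y = y * x) {x : C} (hx : x ∈ N) : x * x = 1 := by
  have hQ := Cfsg.Agent.KFacts.J2.Facts.normal_le M h2 hn
  rcases M.cover x (hQ hx) with ⟨a, rfl⟩ | ⟨a, i, rfl⟩ | ⟨a, i, j, hij, rfl⟩
  · exact zp_self z M.z_sq a
  · calc zp z a * v i * (zp z a * v i) = zp z a * (v i * zp z a) * v i := by group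
      _ = zp z a * (zp z a * v i) * v i := by rw [zp_comm z M.z_comm a]
      _ = (zp z a * zp z a) * (v i * v i) := by group
      _ = 1 := by rw [zp_self z M.z_sq, M.v_sq, one_mul]
  · exfalso
    obtain ⟨σ, hσ, hi, hj⟩ := perm_exists i j hij.ne
    obtain ⟨c, hc⟩ := (M.range ⟨σ, fun _ => 0⟩).2 ⟨hσ, by simp⟩
    have hcv : ∀ l, c * v l * c⁻¹ = v (σ l) := by
      intro l
      rw [M.conj, hc]
      show zp z 0 * v (σ l) = v (σ l)
      rw [zp_zero, one_mul]
    have h1 := hn c _ hx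
    have e1 : c * (zp z a * (v i * v j)) * c⁻¹ = zp z a * (v i * v (σ j)) := by
      calc c * (zp z a * (v i * v j)) * c⁻¹ = (c * zp z a) * (v i * v j) * c⁻¹ := by group
        _ = (zp z a * c) * (v i * v j) * c⁻¹ := by rw [zp_comm z M.z_comm a]
        _ = zp z a * ((c * v i * c⁻¹) * (c * v j * c⁻¹)) := by group
        _ = zp z a * (v i * v (σ j)) := by rw [hcv, hcv, hi]
    rw [e1] at h1
    have h3 := hab _ hx _ h1
    set k := σ j with hk
    have hik : i ≠ k := by
      intro h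
      rw [← hi, hk] at h
      exact hij.ne (σ.injective h)
    have key : ∀ {l m : Fin 5}, i ≠ l → i ≠ m → (v i * v l) * (v i * v m) = z * (v l * v m) := by
      intro l m hl hm
      calc (v i * v l) * (v i * v m) = (z * (v l * v i)) * (v i * v m) := by rw [M.v_anti i l hl]
        _ = z * (v l * (v i * v i) * v m) := by group
        _ = z * (v l * v m) := by rw [M.v_sq, mul_one]
    have red : ∀ {x y : C}, zp z a * x * (zp z a * y) = x * y := by
      intro x y
      calc zp z a * x * (zp z a * y) = zp z a * (x * zp z a) * y := by group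
        _ = zp z a * (zp z a * x) * y := by rw [zp_comm z M.z_comm a]
        _ = (zp z a * zp z a) * (x * y) := by group
        _ = x * y := by rw [zp_self z M.z_sq, one_mul]
    rw [red, red, key hij.ne hik, key hik hij.ne, M.v_anti j k (Ne.symm hj)] at h3
    have h4 : z * (v k * v j) = v k * v j := mul_left_cancel h3
    exact M.z_ne (mul_eq_right.1 h4)

/-- **the row for `p = 2`** -/
theorem crow_two {G : Type*} [Group G] [Finite G] [IsSimpleGroup G] (hna : ¬ IsMulCommutative G) {t : G}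
    {Q : Subgroup (centralizer ({t} : Set G))} {z : centralizer ({t} : Set G)}
    {v : Fin 5 → centralizer ({t} : Set G)} {ρ : centralizer ({t} : Set G) →* SP} (M : IsModel Q z v ρ)
    (hne : centralizer ({t} : Set G) ≠ ⊤) (hi : ¬ 2 ∣ (centralizer ({t} : Set G)).index) [Fact (Nat.Prime 2)] :
    CRow 2 G := by
  intro C hC
  refine hC.eq_one_of_two_abelian (pCore_eq_bot_of_simple hna 2) hne hi ?_
  intro A hA hAN hA2 hab x hx
  have h1 : IsPGroup 2 (A.subgroupOf (centralizer ({t} : Set G))) :=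
    hA2.comap_of_injective _ (centralizer ({t} : Set G)).subtype_injective
  have h2 := sq_of_abelian M (N := A.subgroupOf (centralizer ({t} : Set G))) h1 (by
    intro c n hn
    rw [mem_subgroupOf] at hn ⊢
    have h3 := hAN c.2
    exact (mem_normalizer_iff.1 h3 n).1 hn) (by
    intro x hx y hy
    exact Subtype.ext (hab _ hx _ hy)) (x := ⟨x, hA hx⟩) hx
  exact congrArg Subtype.val h2

/-- `O_p(C(t)) = 1` for odd `p` -/
theorem pCore_model {C : Type*} [Group C] [Finite C] {Q : Subgroup C} {z : C} {v : Fin 5 → C} {ρ : C →* SP}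
    (M : IsModel Q z v ρ) (hc : Nat.card C = 1920) {p : ℕ} [hp : Fact p.Prime] (hp2 : p ≠ 2) : pCore p C = ⊥ := by
  obtain ⟨f, hf⟩ := exists_onto M
  refine pCore_bot_of_onto simple_A5 not_comm_A5 f hf ?_
  have h1 := card_eq_card_quotient_mul_card_subgroup f.ker
  rw [Nat.card_congr (QuotientGroup.quotientKerEquivOfSurjective f hf).toEquiv, card_A5, hc] at h1
  have h2 : Nat.card f.ker = 2 ^ 5 := by omega
  rw [h2]
  intro h3
  exact hp2 ((Nat.prime_dvd_prime_iff_eq hp.out Nat.prime_two).1 (hp.out.dvd_of_dvd_pow h3))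

end Cfsg.Agent.H442.CRowTools
end

-- part: H341/CC/Rc
section
set_option linter.all false
open scoped Cfsg.Agent.FastGrp

-- part: H865/CC/Base
section
/-!
# S3828, rows: small tools
-/

set_option autoImplicit false

namespace Cfsg.Agent.H865.CC

open Subgroup Cfsg Cfsg.Agent.H162.CCR Cfsg.Agent.Lib.Cores Cfsg.Agent.H459.Rad
open Cfsg.Agent.H839.Rad (RadFree)

variable {G : Type*} [Group G]

/-- a prime not dividing the order -/
theorem crow_of_not_dvd [Finite G] {p : ℕ} (h : ¬ p ∣ Nat.card G) : CRow p G := by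
  intro C hC c hc
  obtain ⟨k, hk⟩ := hC.pel c hc
  rcases Nat.eq_zero_or_pos k with rfl | hk0
  · rwa [pow_zero, orderOf_eq_one_iff] at hk
  · exfalso
    apply h
    exact (dvd_pow_self p hk0.ne').trans (hk ▸ orderOf_dvd_natCard c)

/-- an element of order `p` in a non-trivial subgroup of `p`-elements -/
theorem exists_order [Finite G] {p : ℕ} [hp : Fact p.Prime] {N : Subgroup G} (hN : IsPGroup p N) (h : N ≠ ⊥) :
    ∃ x ∈ N, orderOf x = p := by
  have h1 : p ∣ Nat.card N := by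
    obtain ⟨n, hn⟩ := hN.exists_card_eq
    rw [hn]
    rcases Nat.eq_zero_or_pos n with rfl | h0
    · exact absurd (card_eq_one.1 (by rw [hn, pow_zero])) h
    · exact dvd_pow_self p h0.ne'
  obtain ⟨x, hx⟩ := exists_prime_orderOf_dvd_card' p h1
  exact ⟨x, x.2, by rw [Subgroup.orderOf_coe, hx]⟩

theorem pCore_eq_bot_of_radFree [Finite G] {p : ℕ} [hp : Fact p.Prime] (h : RadFree p G) : pCore p G = ⊥ := by
  by_contra hne
  have h1 : IsPGroup p (pCore p G) := pCore_isPGroup p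
  obtain ⟨x, hx, hxp⟩ := exists_order h1 hne
  have h2 : Group.IsNilpotent (pCore p G) := h1.isNilpotent
  have h3 : Group.IsSolvable (pCore p G) := inferInstance
  exact h x hxp (le_rad (inferInstance : (pCore p G).Normal) h3 hx)

/-- the image of the core -/
theorem map_pCore_le {H : Type*} [Group H] {f : G →* H} (hf : Function.Surjective f) (p : ℕ) :
    (pCore p G).map f ≤ pCore p H :=
  le_pCore ((inferInstance : (pCore p G).Normal).map f hf) ((pCore_isPGroup p).map f)

/-- the core lies in the kernel if the image has trivial core -/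
theorem pCore_le_ker {H : Type*} [Group H] {f : G →* H} (hf : Function.Surjective f) {p : ℕ} (h : pCore p H = ⊥) :
    pCore p G ≤ f.ker := by
  intro x hx
  have h1 := map_pCore_le hf p (mem_map_of_mem f hx)
  rwa [h, mem_bot] at h1

/-- **Tool for `p` odd**: `c` of order `p` commutes with an involution, all involution centralizers have trivial core -/
theorem eq_one_of_comm [Finite G] {p : ℕ} {C : Set G} (h : Min p C)
    (ht : ∀ t : G, t ≠ 1 → t * t = 1 → ∃ H : Subgroup G, H ≠ ⊤ ∧ centralizer {t} ≤ H ∧ pCore p H = ⊥)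
    {c t : G} (hc : c ∈ C) (ht1 : t ≠ 1) (ht2 : t * t = 1) (hct : c * t = t * c) : c = 1 := by
  obtain ⟨H, h1, h2, h3⟩ := ht t ht1 ht2
  exact h.eq_one_of_mem h1 h3 hc (h2 (mem_centralizer_singleton_iff.2 hct))

end Cfsg.Agent.H865.CC
end

-- part: H341/CC/Rc
section
/-!
# S3828 rows: the bridge to radical elements (`RC`)

* `Min.rc` : in a simple group every `c ∈ C` is a radical element: `RC (MulAut.conj c)`.  So all facts of the rows of S3829
  (`false_of_inv`, ...) about radical elements of order `p` apply to the elements of order `p` of `C`.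
* `false_of_rc` : a subgroup `H ≠ ⊤` containing `c` with trivial radical.
-/

set_option autoImplicit false

namespace Cfsg.Agent.H341.CC

open Subgroup Cfsg Cfsg.Agent.H162.CCR Cfsg.Agent.Lib.Cores Cfsg.Agent.H459.Rad

variable {G : Type*} [Group G] {p : ℕ} {C : Set G}

/-- **The bridge.** -/
theorem rc_of_min [Finite G] [hp : Fact p.Prime] [hs : IsSimpleGroup G] (h : Min p C) {c : G} (hc : c ∈ C) :
    RC (MulAut.conj c) := by
  intro M hM hinv m hm
  have hcM : c ∈ normalizer (M : Set G) := by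
    have h1 : M.map (MulAut.conj c).toMonoidHom ≤ M := by
      rintro _ ⟨x, hx, rfl⟩
      exact hinv x hx
    have h2 : M.map (MulAut.conj c).toMonoidHom = M := by
      apply Subgroup.eq_of_le_of_card_ge h1
      rw [Subgroup.card_map_of_injective (MulAut.conj c).injective]
    rw [mem_normalizer_iff]
    intro x
    constructor
    · intro hx
      exact hinv x hx
    · intro hx
      have h3 : c * x * c⁻¹ ∈ M.map (MulAut.conj c).toMonoidHom := by
        rw [h2]
        exact hx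
      obtain ⟨y, hy, hyx⟩ := h3
      have h4 : c * y * c⁻¹ = c * x * c⁻¹ := hyx
      have h5 : y = x := by simpa using h4
      exact h5 ▸ hy
  by_cases hN : normalizer (M : Set G) = ⊤
  · have h1 : M.Normal := normalizer_eq_top_iff.1 hN
    rcases hs.eq_bot_or_eq_top_of_normal M h1 with h2 | h2
    · have h3 : m = 1 := by rw [h2] at hm; simpa using hm
      rw [h3, map_one, inv_one, mul_one]
      exact one_mem _
    · exact absurd h2 hM
  · set H := normalizer (M : Set G) with hH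
    set P : Subgroup G := (pCore p H).map H.subtype with hP
    have hcP : c ∈ P := h.mem_map_pCore hN hc hcM
    have hMH : M ≤ H := le_normalizer
    have hPn : ∀ g ∈ H, ∀ x ∈ P, g * x * g⁻¹ ∈ P := by
      rintro g hg _ ⟨x, hx, rfl⟩
      refine ⟨⟨g, hg⟩ * x * ⟨g, hg⟩⁻¹, ?_, rfl⟩
      exact (inferInstance : (pCore p H).Normal).conj_mem x hx ⟨g, hg⟩
    have hPp : IsPGroup p P := (pCore_isPGroup p).map _
    have hNs : Group.IsSolvable (P ⊓ M : Subgroup G) := by
      have h1 : IsPGroup p (P ⊓ M : Subgroup G) := hPp.to_le inf_le_left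
      have h2 : Group.IsNilpotent (P ⊓ M : Subgroup G) := h1.isNilpotent
      infer_instance
    have h1 : P ⊓ M ≤ radIn M := by
      refine le_radIn inf_le_right ?_ hNs
      intro g hg n hn
      exact ⟨hPn g (hMH hg) n hn.1, M.mul_mem (M.mul_mem hg hn.2) (M.inv_mem hg)⟩
    apply h1
    refine ⟨?_, M.mul_mem (M.inv_mem hm) (hinv m hm)⟩
    have e : m⁻¹ * MulAut.conj c m = (m⁻¹ * c * m⁻¹⁻¹) * c⁻¹ := by
      rw [MulAut.conj_apply]
      group
    rw [e]
    exact P.mul_mem (hPn _ (hMH (M.inv_mem hm)) _ hcP) (P.inv_mem hcP)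

end Cfsg.Agent.H341.CC
end
end

-- part: H829/S3828/TwFFour_mg
section
prune_inst 0x840022240b0002000000051440003c169e000490002b0801c9800a440680ab030d000f20a42030080928222800000048104400d9000000c00400060000010401808250062300a00846000f009100400000000000000000000000000000000004200000000
set_option linter.all false
open scoped Cfsg.Agent.FastGrp

-- part: H829/S3828/RankTwo
section
/-!
# Rank two: an element in no proper parabolic subgroup has a conjugate in `P_1 P_2` (helper829, task 2640)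
-/

set_option autoImplicit false
set_option linter.unusedSectionVars false

namespace Cfsg.Agent.H829.S3828

open Cfsg Cfsg.Agent.LieExceptional.BNPairCore Cfsg.Agent.Tits.Core Cfsg.Agent.Tits.Core.Bldg
  Cfsg.Agent.Tits.OfBN Cfsg.Agent.Tits.OppRes Cfsg.Agent.Tits.Exchange Cfsg.Agent.Tits
open Cfsg.Agent.FixBN (Split Sys)
open Cfsg.Agent.FixOdd (Tw)
open Cfsg.Agent.H460.EllC

/-- elements of `W_i` -/
theorem mem_WJ_single {I : Type*} {M : CoxeterMatrix I} {W : Type*} [Group W] {cs : CoxeterSystem M W} {i : I} {w : W}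
    (hw : w ∈ WJ cs ({i} : Set I)) : w = 1 ∨ w = cs.simple i := by
  unfold WJ at hw
  rw [Set.image_singleton] at hw
  obtain ⟨n, rfl⟩ := Subgroup.mem_closure_singleton.1 hw
  have hs : cs.simple i ^ (2 : ℤ) = 1 := by
    have := cs.simple_sq i
    exact_mod_cast this
  rcases Int.even_or_odd' n with ⟨k, rfl | rfl⟩
  · left; rw [zpow_mul, hs, one_zpow]
  · right; rw [zpow_add, zpow_mul, hs, one_zpow, one_mul, zpow_one]

theorem simple_ne_one {I : Type*} {M : CoxeterMatrix I} {W : Type*} [Group W] (cs : CoxeterSystem M W) (i : I) :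
    cs.simple i ≠ 1 := by
  intro h
  have h1 := cs.length_simple i
  rw [h, cs.length_one] at h1
  exact absurd h1 (by norm_num)

section

variable {G : Type*} [Group G] {P : Cfsg.BNPair G}

theorem parabolic_empty : P.parabolic ∅ = P.B := by
  unfold Cfsg.BNPair.parabolic
  rw [Subgroup.closure_empty, sup_bot_eq]

theorem parabolic_S : P.parabolic P.S = ⊤ := by
  unfold Cfsg.BNPair.parabolic
  rw [eq_top_iff, ← P.sup_eq_top]
  refine sup_le le_sup_left ?_
  rw [← P.closure_sup]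
  exact sup_le le_sup_right (inf_le_left.trans le_sup_left)

/-- the proper overgroups of `B`, different from `B` -/
theorem exists_single {s t : G} (hS : P.S = {s, t}) {H : Subgroup G} (hB : P.B ≤ H) (h1 : H ≠ ⊤) (h2 : H ≠ P.B) :
    ∃ a ∈ P.S, H = P.parabolic {a} := by
  obtain ⟨J, hJ, rfl⟩ := Cfsg.Agent.S0311.result P H hB
  rw [hS] at hJ
  rcases Set.subset_pair_iff_eq.1 hJ with h | h | h | h
  · rw [h, parabolic_empty] at h2
    exact absurd rfl h2
  · exact ⟨s, by rw [hS]; exact Set.mem_insert _ _, by rw [h]⟩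
  · exact ⟨t, by rw [hS]; exact Set.mem_insert_of_mem _ rfl, by rw [h]⟩
  · rw [h, ← hS, parabolic_S] at h1
    exact absurd rfl h1

theorem mem_parabolic_single {a : G} : a ∈ P.parabolic {a} :=
  (le_sup_right : _ ≤ P.parabolic {a}) (Subgroup.subset_closure rfl)

theorem sup_eq_top {s t : G} (hS : P.S = {s, t}) {H1 H2 : Subgroup G} (hB1 : P.B ≤ H1)
    (hB2 : P.B ≤ H2) (h1 : H1 ≠ ⊤) (h2 : H2 ≠ ⊤) (hn1 : H1 ≠ P.B) (hn2 : H2 ≠ P.B) (hne : H1 ≠ H2) :
    H1 ⊔ H2 = ⊤ := by
  obtain ⟨a, ha, rfl⟩ := exists_single hS hB1 h1 hn1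
  obtain ⟨b, hb, rfl⟩ := exists_single hS hB2 h2 hn2
  have hab : a ≠ b := fun h => hne (by rw [h])
  rw [eq_top_iff, ← parabolic_S]
  refine sup_le (hB1.trans le_sup_left) ((Subgroup.closure_le _).2 ?_)
  intro x hx
  have ha' := ha
  have hb' := hb
  rw [hS] at ha' hb' hx
  have hcov : x = a ∨ x = b := by
    rcases hx with h | h <;> rcases ha' with h' | h' <;> rcases hb' with h'' | h''
    · exact absurd (h'.trans h''.symm) hab
    · left; exact h.trans h'.symm
    · right; exact h.trans h''.symm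
    · exact absurd (h'.trans h''.symm) hab
    · exact absurd (h'.trans h''.symm) hab
    · right; exact h.trans h''.symm
    · left; exact h.trans h'.symm
    · exact absurd (h'.trans h''.symm) hab
  rcases hcov with rfl | rfl
  · exact Subgroup.mem_sup_left mem_parabolic_single
  · exact Subgroup.mem_sup_right mem_parabolic_single

variable [Finite G] {r : ℕ} [hr : Fact r.Prime] {U : Subgroup G}

/-- **An element with no conjugate in the two parabolic subgroups has a conjugate in their product.** -/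
theorem exists_mul (hs : Split P r U) {s t : G} (hS : P.S = {s, t}) {H1 H2 : Subgroup G} (hB1 : P.B ≤ H1)
    (hB2 : P.B ≤ H2) (h1 : H1 ≠ ⊤) (h2 : H2 ≠ ⊤) (hn1 : H1 ≠ P.B) (hn2 : H2 ≠ P.B) (hne : H1 ≠ H2) (c : G)
    (hc1 : ∀ g, g * c * g⁻¹ ∉ H1) (hc2 : ∀ g, g * c * g⁻¹ ∉ H2) :
    ∃ g, ∃ x ∈ H1, ∃ y ∈ H2, g * c * g⁻¹ = x * y := by
  obtain ⟨a, ha, rfl⟩ := exists_single hS hB1 h1 hn1
  obtain ⟨b, hb, rfl⟩ := exists_single hS hB2 h2 hn2
  have hab : a ≠ b := fun h => hne (by rw [h])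
  have hN : ((P.B ⊓ P.N).subgroupOf P.N).Normal := normal_subgroupOf P
  obtain ⟨Mx, cs, hcs⟩ := Cfsg.Agent.S0320.result P
  have hI : Finite P.S := FixBN.OfBN.finite_I (Equiv.refl P.S)
  have hcov : ∀ i : P.S, i = ⟨a, ha⟩ ∨ i = ⟨b, hb⟩ := by
    rintro ⟨x, hx⟩
    have ha' := ha
    have hb' := hb
    have hx' := hx
    rw [hS] at ha' hb' hx'
    rcases hx' with h | h <;> rcases ha' with h' | h' <;> rcases hb' with h'' | h''
    · exact absurd (h'.trans h''.symm) hab
    · left; exact Subtype.ext (h.trans h'.symm)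
    · right; exact Subtype.ext (h.trans h''.symm)
    · exact absurd (h'.trans h''.symm) hab
    · exact absurd (h'.trans h''.symm) hab
    · right; exact Subtype.ext (h.trans h''.symm)
    · left; exact Subtype.ext (h.trans h'.symm)
    · exact absurd (h'.trans h''.symm) hab
  let Δ := bldg P (Equiv.refl P.S) cs hcs
  let Sy : Sys Δ G r := FixBN.OfBN.sys (Equiv.refl P.S) cs hcs hs
  have hth : Δ.Thick := thick P (Equiv.refl P.S) cs hcs
  let T : Tw Δ G :=
    { τ := MulAut.conj c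
      θ := MulAction.toPerm c
      φ := MulEquiv.refl _
      σ := Equiv.refl _
      φ_simple := fun _ => rfl
      δ_θ := fun x y => Sy.iso c x y
      θ_smul := fun g x => by
        show c • (g • x) = (c * g * c⁻¹) • (c • x)
        rw [← mul_smul, ← mul_smul, inv_mul_cancel_right] }
  -- proper subsets
  have hK : ∀ K : Set P.S, K ≠ Set.univ → ∀ w ∈ WJ cs K, w = 1 ∨ w = cs.simple ⟨a, ha⟩ ∨ w = cs.simple ⟨b, hb⟩ := by
    intro K hK w hw
    obtain ⟨i, hi⟩ := (Set.ne_univ_iff_exists_notMem K).1 hK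
    rcases hcov i with rfl | rfl
    · have h3 : K ⊆ {⟨b, hb⟩} := by
        intro j hj
        rcases hcov j with h | h
        · rw [h] at hj
          exact absurd hj hi
        · exact h
      have h4 : w ∈ WJ cs ({⟨b, hb⟩} : Set P.S) := Subgroup.closure_mono (Set.image_mono h3) hw
      rcases mem_WJ_single h4 with h | h
      · exact Or.inl h
      · exact Or.inr (Or.inr h)
    · have h3 : K ⊆ {⟨a, ha⟩} := by
        intro j hj
        rcases hcov j with h | h
        · exact h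
        · rw [h] at hj
          exact absurd hj hi
      have h4 : w ∈ WJ cs ({⟨a, ha⟩} : Set P.S) := Subgroup.closure_mono (Set.image_mono h3) hw
      rcases mem_WJ_single h4 with h | h
      · exact Or.inl h
      · exact Or.inr (Or.inl h)
  have hδ : ∀ g : G, Δ.δ (QuotientGroup.mk g) (T.θ (QuotientGroup.mk g)) = wt P (g⁻¹ * (c * g)) := fun g =>
    bldg_δ_mk P (Equiv.refl P.S) cs hcs g (c * g)
  have hell : Elliptic T := by
    intro y J hy
    by_contra hJ
    induction y using QuotientGroup.induction_on with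
    | H g =>
    have h3 : wt P (g⁻¹ * (c * g)) ∈ WJ cs J := by
      rw [← hδ]; exact hy
    have e : g⁻¹ * c * g⁻¹⁻¹ = g⁻¹ * (c * g) := by group
    rcases hK J hJ _ h3 with h | h | h
    · have h4 : g⁻¹ * (c * g) ∈ C P ((1 : P.N) : G) := mem_C_of_wt P (by rw [h]; rfl)
      obtain ⟨x, hx, y, hy, e'⟩ := mem_C.1 h4
      apply hc1 g⁻¹
      rw [e, e']
      exact mul_mem (mul_mem (hB1 hx) (one_mem _)) (hB1 hy)
    · rw [hcs] at h
      obtain ⟨x, hx, y, hy, e'⟩ := mem_C.1 (mem_C_of_wt P h)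
      apply hc1 g⁻¹
      rw [e, e']
      exact mul_mem (mul_mem (hB1 hx) mem_parabolic_single) (hB1 hy)
    · rw [hcs] at h
      obtain ⟨x, hx, y, hy, e'⟩ := mem_C.1 (mem_C_of_wt P h)
      apply hc2 g⁻¹
      rw [e, e']
      exact mul_mem (mul_mem (hB2 hx) mem_parabolic_single) (hB2 hy)
  have hfull : Full cs (cs.simple ⟨a, ha⟩ * cs.simple ⟨b, hb⟩) := by
    intro K hw
    by_contra hKu
    rcases hK K hKu _ hw with h | h | h
    · have h3 : cs.simple ⟨a, ha⟩ = cs.simple ⟨b, hb⟩ := by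
        have h4 := mul_eq_one_iff_eq_inv.1 h
        rwa [cs.inv_simple] at h4
      rw [hcs, hcs, mk_eq_iff] at h3
      exact hab (P.inj a ha b hb h3)
    · exact simple_ne_one cs _ (mul_eq_left.1 h)
    · exact simple_ne_one cs _ (mul_eq_right.1 h)
  have hC : Nonempty (G ⧸ P.B) := ⟨QuotientGroup.mk 1⟩
  obtain ⟨y, hy⟩ := exists_delta' Sy hth (t := T) (fun _ => rfl) hell hfull
  induction y using QuotientGroup.induction_on with
  | H g =>
  rw [hδ, hcs, hcs, ← QuotientGroup.mk_mul] at hy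
  obtain ⟨x, hx, z, hz, e'⟩ := mem_C.1 (mem_C_of_wt P hy)
  refine ⟨g⁻¹, x * a, mul_mem (hB1 hx) mem_parabolic_single, b * z, mul_mem mem_parabolic_single (hB2 hz), ?_⟩
  have e : g⁻¹ * c * g⁻¹⁻¹ = g⁻¹ * (c * g) := by group
  rw [e, e']
  show x * (a * b) * z = x * a * (b * z)
  group

end

end Cfsg.Agent.H829.S3828
end

-- part: H829/S3828/TwFFour
section
/-!
# The rows of `²F₄(q)` of S3828 (helper829, task 2640)

`crow_2F4 : Lie.Iso2F4 G → CRow p G` for all primes `p`.
-/

set_option autoImplicit false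
set_option linter.unusedSectionVars false

namespace Cfsg.Agent.H829.S3828

open Subgroup Cfsg Cfsg.Agent.Lib.Cores Cfsg.Agent.H162.CCR

section Gen

variable {G : Type*} [Group G]

theorem eq_one_of_pows {p q : ℕ} (hp : p.Prime) (hq : q.Prime) (hpq : p ≠ q) {x : G} {a b : ℕ} (h1 : x ^ p ^ a = 1)
    (h2 : x ^ q ^ b = 1) : x = 1 := by
  have h3 := Nat.dvd_gcd (orderOf_dvd_of_pow_eq_one h1) (orderOf_dvd_of_pow_eq_one h2)
  have h4 : Nat.gcd (p ^ a) (q ^ b) = 1 := Nat.Coprime.pow a b ((Nat.coprime_primes hp hq).2 hpq)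
  rw [h4, Nat.dvd_one, orderOf_eq_one_iff] at h3
  exact h3

/-- `O_p(H) = 1` if `H` normalises a `q`-group whose centraliser in `H` is a `q`-group -/
theorem pCore_eq_bot_of {p q : ℕ} [hp : Fact p.Prime] [hq : Fact q.Prime] [Finite G] (hpq : p ≠ q) {H D : Subgroup G}
    (hDH : D ≤ H) (hn : H ≤ Subgroup.normalizer (D : Set G)) (hD : IsPGroup q D)
    (hc : ∀ x ∈ H, (∀ d ∈ D, d * x = x * d) → ∃ k : ℕ, x ^ q ^ k = 1) : pCore p H = ⊥ := by
  rw [eq_bot_iff]
  intro x hx
  have hpx : ∀ y : H, y ∈ pCore p H → ∃ j : ℕ, (y : G) ^ p ^ j = 1 := by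
    intro y hy
    obtain ⟨j, hj⟩ := (pCore_isPGroup p) ⟨y, hy⟩
    exact ⟨j, congrArg (fun z => ((z : pCore p H) : H).val) hj⟩
  have hcx : ∀ d ∈ D, d * (x : G) = x * d := by
    intro d hd
    obtain ⟨d', hd'⟩ : ∃ d' : H, d' = ⟨d, hDH hd⟩ := ⟨_, rfl⟩
    have h1 : d' * x * d'⁻¹ * x⁻¹ ∈ pCore p H :=
      mul_mem ((inferInstance : (pCore p H).Normal).conj_mem x hx d') (inv_mem hx)
    obtain ⟨j, hj⟩ := hpx _ h1
    have h2 : ((d' * x * d'⁻¹ * x⁻¹ : H) : G) ∈ D := by
      have h3 : (x : G) * d⁻¹ * (x : G)⁻¹ ∈ D := (Subgroup.mem_normalizer_iff.1 (hn x.2) d⁻¹).1 (inv_mem hd)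
      have e : ((d' * x * d'⁻¹ * x⁻¹ : H) : G) = d * ((x : G) * d⁻¹ * (x : G)⁻¹) := by
        rw [hd']
        simp only [Subgroup.coe_mul, Subgroup.coe_inv]
        group
      rw [e]
      exact mul_mem hd h3
    obtain ⟨k, hk⟩ := hD ⟨_, h2⟩
    have hk' : ((d' * x * d'⁻¹ * x⁻¹ : H) : G) ^ q ^ k = 1 := congrArg Subtype.val hk
    have h4 := eq_one_of_pows hp.1 hq.1 hpq hj hk'
    have e : ((d' * x * d'⁻¹ * x⁻¹ : H) : G) = d * (x : G) * d⁻¹ * (x : G)⁻¹ := by
      rw [hd']
      simp only [Subgroup.coe_mul, Subgroup.coe_inv]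
    rw [e] at h4
    calc d * (x : G) = (d * (x : G) * d⁻¹ * (x : G)⁻¹) * (x * d) := by group
      _ = x * d := by rw [h4, one_mul]
  obtain ⟨j, hj⟩ := hpx x hx
  obtain ⟨k, hk⟩ := hc x x.2 hcx
  rw [Subgroup.mem_bot]
  exact Subtype.ext (eq_one_of_pows hp.1 hq.1 hpq hj hk)

/-- a split (B, N)-pair whose unipotent subgroup is a given Sylow subgroup -/
theorem exists_pair_of [Finite G] {p : ℕ} [hp : Fact p.Prime] (P : Cfsg.BNPair G) {U : Subgroup G} {s t : G}
    (hs : FixBN.Split P p U) (hS : P.S = {s, t}) (V : Sylow p G) :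
    ∃ (Q : Cfsg.BNPair G) (s t : G), FixBN.Split Q p (V : Subgroup G) ∧ Q.S = {s, t} := by
  have hN : ((P.B ⊓ P.N).subgroupOf P.N).Normal := Cfsg.Agent.Tits.OfBN.normal_subgroupOf P
  obtain ⟨x, hx⟩ := Cfsg.Agent.FixBN.OfBN.exists_fix hs (V : Subgroup G) V.2
  induction x using QuotientGroup.induction_on with
  | H g =>
  have h1 : (V : Subgroup G) ≤ U.map (MulAut.conj g).toMonoidHom := by
    intro v hv
    have h2 : (QuotientGroup.mk (v * g) : G ⧸ P.B) = QuotientGroup.mk g := hx v hv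
    rw [QuotientGroup.eq] at h2
    have h3 : g⁻¹ * v * g ∈ P.B := by
      have h4 := inv_mem h2
      have e : ((v * g)⁻¹ * g)⁻¹ = g⁻¹ * v * g := by group
      rwa [e] at h4
    obtain ⟨k, hk⟩ := V.2 ⟨v, hv⟩
    have hk' : v ^ p ^ k = 1 := congrArg Subtype.val hk
    have h5 : (g⁻¹ * v * g) ^ p ^ k = 1 := by
      have e : g⁻¹ * v * g = g⁻¹ * v * g⁻¹⁻¹ := by group
      rw [e, conj_pow, hk', mul_one, mul_inv_cancel]
    refine ⟨g⁻¹ * v * g, hs.mem_of_pow h3 h5, ?_⟩
    simp [mul_assoc]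
  have h2 : U.map (MulAut.conj g).toMonoidHom = (V : Subgroup G) := V.3 (hs.isP.map _) h1
  have h3 := FixBN.Transport.split (MulAut.conj g) P hs
  rw [h2] at h3
  refine ⟨_, MulAut.conj g s, MulAut.conj g t, h3, ?_⟩
  show (MulAut.conj g) '' P.S = _
  rw [hS, Set.image_pair]

end Gen

section TwF4

open Cfsg.Agent.KFacts.TwF4 Cfsg.Agent.KFacts.TwF4.Arc Cfsg.Agent.KFacts.TwF4.Irr Cfsg.Agent.KFacts.TwF4.Inv
  Cfsg.Agent.SplitTwo.ZS Cfsg.Agent.H806.RowCharTwo

universe u

variable {F : Type*} [Field F] [Finite F] {σ : F →+* F} {G : Type u} [Group G] [Finite G] (S : Full σ G)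

/-- the first maximal parabolic subgroup -/
def H1 : Subgroup G := Subgroup.normalizer (J S.XZ 1 7 : Set G)

/-- the second maximal parabolic subgroup -/
def H2 : Subgroup G := Subgroup.normalizer (J S.XZ 2 8 : Set G)

/-- the Borel subgroup -/
def BB : Subgroup G := Subgroup.normalizer (J S.XZ 1 8 : Set G)

variable {S}

theorem isP (hR : S.R.p = 2) {a b : ℤ} (h1 : 1 ≤ a) (h2 : b ≤ 8) : IsPGroup 2 (J S.XZ a b) :=
  (isPGroup_J S.zsys8 (two_X S hR) 8 1 8 (by norm_num) (by norm_num)).to_le (J_mono h1 h2)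

theorem T_norm {t : G} (ht : t ∈ S.T) (a b : ℤ) : t ∈ Subgroup.normalizer (J S.XZ a b : Set G) := by
  obtain ⟨c, d, rfl⟩ := S.mem_T.1 ht
  exact h_norm S c d a b

theorem BB_le_H1 (hF : ∃ c : Fˣ, c ≠ 1) (hR : S.R.p = 2) : BB S ≤ H1 S := by
  intro g hg
  obtain ⟨b, hb, t, ht, rfl⟩ := SylU.norm_U S hF hR (Subgroup.mem_normalizer_iff.1 hg)
  exact mul_mem (norm_Q S (J_mono (by norm_num) le_rfl hb)) (T_norm ht 1 7)

theorem BB_le_H2 (hF : ∃ c : Fˣ, c ≠ 1) (hR : S.R.p = 2) : BB S ≤ H2 S := by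
  intro g hg
  obtain ⟨b, hb, t, ht, rfl⟩ := SylU.norm_U S hF hR (Subgroup.mem_normalizer_iff.1 hg)
  exact mul_mem (norm_R S (J_mono le_rfl (by norm_num) hb)) (T_norm ht 2 8)

theorem h_notMem (hF : ∃ c : Fˣ, c ≠ 1) (hR : S.R.p = 2) {c d : Fˣ} (h : S.h c d ∈ J S.XZ 1 8) : d = 1 := by
  obtain ⟨k, hk⟩ := isP (S := S) hR le_rfl le_rfl ⟨_, h⟩
  exact (SylU.torus_two S (k := k) (congrArg Subtype.val hk)).2

theorem X_le_of (hF : ∃ c : Fˣ, c ≠ 1) (hR : S.R.p = 2) {k : ℤ} (h : S.XZ k ≤ BB S) : S.XZ k ≤ J S.XZ 1 8 := by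
  obtain ⟨P, hP⟩ := SylU.exists_sylow S hF hR
  intro x hx
  obtain ⟨j, hj⟩ := two_X S hR k ⟨x, hx⟩
  have h1 := h hx
  unfold BB at h1
  rw [← hP] at h1
  rw [← hP]
  exact H747.mem_of_two_pow P h1 (k := j) (congrArg Subtype.val hj)

theorem H1_ne_BB (hF : ∃ c : Fˣ, c ≠ 1) (hR : S.R.p = 2) : H1 S ≠ BB S := by
  intro h
  have h0 : S.XZ 0 ≤ J S.XZ 1 8 := by
    apply X_le_of hF hR
    rw [← h]
    exact (X_le_J (by norm_num) (by norm_num)).trans (norm_Q S)
  have h8 : S.XZ 8 ≤ J S.XZ 1 8 := X_le_J (by norm_num) (by norm_num)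
  obtain ⟨d, hd⟩ := hF
  exact hd (h_notMem ⟨d, hd⟩ hR ((sup_le h0 h8 : L4 S ≤ _) (h_mem_L4 S d)))

theorem H2_ne_BB (hF : ∃ c : Fˣ, c ≠ 1) (hR : S.R.p = 2) : H2 S ≠ BB S := by
  intro h
  have h9 : S.XZ 9 ≤ J S.XZ 1 8 := by
    apply X_le_of hF hR
    rw [← h]
    exact (X_le_J (by norm_num) (by norm_num)).trans (norm_R S)
  have h1 : S.XZ 1 ≤ J S.XZ 1 8 := X_le_J (by norm_num) (by norm_num)
  have hn : S.n1 ∈ J S.XZ 1 8 := n1_mem_of S h1 h9
  obtain ⟨d, hd⟩ := hF
  have hT : S.h d 1 ∈ S.T := S.mem_T.2 ⟨d, 1, rfl⟩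
  have h2 := mul_mem (S.T_conj_J hT hn) (inv_mem hn)
  have e1 : S.h d 1 * S.n1 * (S.h d 1)⁻¹ * S.n1⁻¹ = S.h d 1 * (S.n1 * (S.h d 1)⁻¹ * S.n1⁻¹) := by group
  rw [e1, S.h_inv, S.n1_h, S.h_mul] at h2
  simp only [inv_one, mul_one, one_mul, inv_inv] at h2
  exact hd (h_notMem ⟨d, hd⟩ hR h2)

theorem H1_ne_H2 (hF : ∃ c : Fˣ, c ≠ 1) (hR : S.R.p = 2) : H1 S ≠ H2 S := by
  intro h
  apply H1_ne_BB hF hR
  refine le_antisymm ?_ (BB_le_H1 hF hR)
  have hJ : J S.XZ 1 8 = J S.XZ 1 7 ⊔ J S.XZ 2 8 := by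
    refine le_antisymm (J_le fun k h1 h2 => ?_) (sup_le (J_mono le_rfl (by norm_num)) (J_mono (by norm_num) le_rfl))
    by_cases h3 : k ≤ 7
    · exact (X_le_J h1 h3).trans le_sup_left
    · exact (X_le_J (by omega) h2).trans le_sup_right
  have key : ∀ g ∈ H1 S, ∀ x ∈ J S.XZ 1 8, g * x * g⁻¹ ∈ J S.XZ 1 8 := by
    intro g hg x hx
    have h2 : g ∈ H2 S := h ▸ hg
    have h3 : J S.XZ 1 8 ≤ (J S.XZ 1 8).comap (MulAut.conj g).toMonoidHom := by
      conv_lhs => rw [hJ]
      refine sup_le (fun y hy => ?_) (fun y hy => ?_)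
      · exact J_mono le_rfl (by norm_num) ((Subgroup.mem_normalizer_iff.1 hg y).1 hy)
      · exact J_mono (by norm_num) le_rfl ((Subgroup.mem_normalizer_iff.1 h2 y).1 hy)
    exact h3 hx
  intro g hg
  rw [BB, Subgroup.mem_normalizer_iff]
  intro x
  refine ⟨key g hg x, fun hx => ?_⟩
  have h1 := key g⁻¹ (inv_mem hg) _ hx
  have e : g⁻¹ * (g * x * g⁻¹) * g⁻¹⁻¹ = x := by group
  rwa [e] at h1

theorem J_ne_bot {a b k : ℤ} (h1 : a ≤ k) (h2 : k ≤ b) : J S.XZ a b ≠ ⊥ := fun h =>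
  S.zsys8.ne_bot k (eq_bot_iff.2 (h ▸ X_le_J h1 h2))

theorem H1_core (hR : S.R.p = 2) {p : ℕ} [hp : Fact p.Prime] (hp2 : p ≠ 2) : pCore p (H1 S) = ⊥ := by
  have h2 : Fact (Nat.Prime 2) := ⟨Nat.prime_two⟩
  refine pCore_eq_bot_of hp2 (D := J S.XZ 1 7) Subgroup.le_normalizer le_rfl (isP hR le_rfl (by norm_num)) ?_
  intro x _ hx
  have h1 : x ∈ S.Zc 2 := by
    rw [← S.centralizer_Q]
    exact Subgroup.mem_centralizer_iff.2 hx
  have h3 : x ∈ J S.XZ 1 8 := mem_J (S.Zc_le 2 h1) (by norm_num) (by norm_num)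
  obtain ⟨k, hk⟩ := isP hR le_rfl le_rfl ⟨x, h3⟩
  exact ⟨k, congrArg Subtype.val hk⟩

theorem H2_core (hR : S.R.p = 2) {p : ℕ} [hp : Fact p.Prime] (hp2 : p ≠ 2) : pCore p (H2 S) = ⊥ := by
  have h2 : Fact (Nat.Prime 2) := ⟨Nat.prime_two⟩
  refine pCore_eq_bot_of hp2 (D := J S.XZ 2 8) Subgroup.le_normalizer le_rfl (isP hR (by norm_num) le_rfl) ?_
  intro x _ hx
  have h1 : x ∈ S.W46 := by
    rw [← S.centralizer_J28]
    exact Subgroup.mem_centralizer_iff.2 hx
  have h3 : x ∈ J S.XZ 1 8 := J_mono (by norm_num) (by norm_num) (S.W46_le h1)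
  obtain ⟨k, hk⟩ := isP hR le_rfl le_rfl ⟨x, h3⟩
  exact ⟨k, congrArg Subtype.val hk⟩

/-- `H1` normalises `Z_4` -/
theorem H1_Zc {g z : G} (hg : g ∈ H1 S) (hz : z ∈ S.Zc 2) : g⁻¹ * z * g ∈ S.Zc 2 := by
  rw [← S.centralizer_Q] at hz ⊢
  rw [Subgroup.mem_centralizer_iff] at hz ⊢
  intro x hx
  have h1 : g * x * g⁻¹ ∈ S.Q := (Subgroup.mem_normalizer_iff.1 hg x).1 hx
  have h2 := hz _ h1
  calc x * (g⁻¹ * z * g) = g⁻¹ * ((g * x * g⁻¹) * z) * g := by group
    _ = g⁻¹ * (z * (g * x * g⁻¹)) * g := by rw [h2]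
    _ = g⁻¹ * z * g * x := by group

variable {p : ℕ} [hp : Fact p.Prime] {C : Set G}

/-- **The row of `²F₄(q)`, abstractly.** -/
theorem crow_full (hF : ∃ c : Fˣ, c ≠ 1) (hR : S.R.p = 2) (hO2 : pCore 2 G = ⊥) (hOp : pCore p G = ⊥)
    (P : Cfsg.BNPair G) {U : Subgroup G} {s t : G} (hs : FixBN.Split P 2 U) (hS : P.S = {s, t}) : CRow p G := by
  have h2 : Fact (Nat.Prime 2) := ⟨Nat.prime_two⟩
  obtain ⟨V, hV⟩ := SylU.exists_sylow S hF hR
  obtain ⟨Q, a, b, hQ, hQS⟩ := exists_pair_of P hs hS V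
  have hQB : Q.B = BB S := by
    rw [← hQ.normalizer_eq, hV]
    rfl
  have hB1 : Q.B ≤ H1 S := by rw [hQB]; exact BB_le_H1 hF hR
  have hB2 : Q.B ≤ H2 S := by rw [hQB]; exact BB_le_H2 hF hR
  have ht1 : H1 S ≠ ⊤ := normalizer_ne_top hO2 (isP hR le_rfl (by norm_num)) (J_ne_bot (k := 1) le_rfl (by norm_num))
  have ht2 : H2 S ≠ ⊤ := normalizer_ne_top hO2 (isP hR (by norm_num) le_rfl) (J_ne_bot (k := 2) le_rfl (by norm_num))
  have hn1 : H1 S ≠ Q.B := by rw [hQB]; exact H1_ne_BB hF hR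
  have hn2 : H2 S ≠ Q.B := by rw [hQB]; exact H2_ne_BB hF hR
  have hne : H1 S ≠ H2 S := H1_ne_H2 hF hR
  intro C hC
  by_cases hp2 : p = 2
  · subst hp2
    have hV1 : (V : Subgroup G) ≤ Q.B := hQ.le
    exact hC.eq_one_of_two hO2 V ht1 ht2 (hV1.trans hB1) (hV1.trans hB2)
      (sup_eq_top hQS hB1 hB2 ht1 ht2 hn1 hn2 hne)
  · intro c hc
    by_contra hc1
    have hc1' : ∀ g, g * c * g⁻¹ ≠ 1 := fun g h => hc1 (by simpa only [_root_.conj_eq_one_iff] using h)
    obtain ⟨g, x, hx, y, hy, e⟩ := exists_mul hQ hQS hB1 hB2 ht1 ht2 hn1 hn2 hne c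
      (fun g hg => hc1' g (hC.eq_one_of_mem ht1 (H1_core hR hp2) (hC.conj g c hc) hg))
      (fun g hg => hc1' g (hC.eq_one_of_mem ht2 (H2_core hR hp2) (hC.conj g c hc) hg))
    obtain ⟨d, hd⟩ : ∃ d, d = g * c * g⁻¹ := ⟨_, rfl⟩
    have hdC : d ∈ C := by rw [hd]; exact hC.conj g c hc
    have hd1 : d ≠ 1 := by rw [hd]; exact hc1' g
    rw [← hd] at e
    have hz : S.e 2 0 1 ∈ S.Zc 2 := S.mem_Zc.2 ⟨1, rfl⟩
    have hz1 : S.e 2 0 1 ≠ 1 := fun h => one_ne_zero (S.e_eq_one h).2
    have hz2 : S.e 2 0 1 * S.e 2 0 1 = 1 := by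
      rw [S.e_mul_Zc, S.add_self, S.e_zero]
    obtain ⟨z, hzz⟩ : ∃ z, z = S.e 2 0 1 := ⟨_, rfl⟩
    rw [← hzz] at hz hz1 hz2
    have hord : orderOf z = 2 := orderOf_eq_prime (by rw [pow_two]; exact hz2) hz1
    refine hC.comm_false hdC hd1 (g := z) ?_ ?_ ?_
    · rw [hord]
      exact (Nat.coprime_primes Nat.prime_two hp.1).2 (Ne.symm hp2)
    · have h3 : d⁻¹ * z * d = y⁻¹ * (x⁻¹ * z * x) * y := by rw [e]; group
      have h4 : x⁻¹ * z * x ∈ J S.XZ 2 8 := mem_J (S.Zc_le 2 (H1_Zc hx hz)) (by norm_num) (by norm_num)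
      have h5 : y⁻¹ * (x⁻¹ * z * x) * y ∈ J S.XZ 2 8 := by
        have h6 := (Subgroup.mem_normalizer_iff.1 (inv_mem hy) _).1 h4
        rwa [inv_inv] at h6
      rw [h3]
      exact (S.comm_PL (J_mono (by norm_num) le_rfl h5) hz).symm
    · intro w hw
      obtain ⟨k, hk⟩ := isConj_iff.1 hw
      refine ⟨(H1 S).map (MulAut.conj k).toMonoidHom, ?_, ?_, ?_⟩
      · intro h
        apply ht1
        rw [eq_top_iff]
        intro v _
        have h3 : k * v * k⁻¹ ∈ (H1 S).map (MulAut.conj k).toMonoidHom := by rw [h]; trivial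
        obtain ⟨v', hv', e'⟩ := h3
        have e'' : k * v' * k⁻¹ = k * v * k⁻¹ := e'
        have h4 : v' = v := by simpa only [_root_.mul_left_inj, _root_.mul_right_inj] using e''
        rw [← h4]
        exact hv'
      · intro v hv
        have h3 : k⁻¹ * v * k ∈ Subgroup.centralizer {z} := by
          rw [Subgroup.mem_centralizer_singleton_iff] at hv ⊢
          rw [← hk] at hv
          calc k⁻¹ * v * k * z = k⁻¹ * (v * (k * z * k⁻¹)) * k := by group
            _ = k⁻¹ * ((k * z * k⁻¹) * v) * k := by rw [hv]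
            _ = z * (k⁻¹ * v * k) := by group
        rw [S.centralizer_z hz hz1] at h3
        refine ⟨k⁻¹ * v * k, norm_Q S h3, ?_⟩
        show k * (k⁻¹ * v * k) * k⁻¹ = v
        group
      · have e1 : H1 S ≃* (H1 S).map (MulAut.conj k).toMonoidHom :=
          (H1 S).equivMapOfInjective _ (MulAut.conj k).injective
        rw [← map_equiv_pCore e1 p, H1_core hR hp2, Subgroup.map_bot]

end TwF4

universe u

/-- **The rows of `²F₄(q)`.** -/
theorem crow_2F4 {G : Type u} [Group G] [Finite G] (h : Cfsg.Lie.Iso2F4 G) (p : ℕ) [hp : Fact p.Prime] :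
    CRow p G := by
  obtain ⟨K, iK, iK', m, hm, hK, ⟨e⟩⟩ := h
  obtain ⟨φ, hφ⟩ := Cfsg.Agent.ChevalleyStructure.TwF4.TwistedFix.exists_rln hK
  have := Cfsg.Agent.ChevalleyStructure.TwF4.Twisted.charP_two hK
  have hfin : Finite ↥(Cfsg.Lie.twistedF4 K (2 ^ m)) := inferInstance
  have h2 : Fact (Nat.Prime 2) := ⟨Nat.prime_two⟩
  have hF : ∃ c : Kˣ, c ≠ 1 := by
    have h1 : 1 < Nat.card Kˣ := by
      rw [Nat.card_units, Nat.card_eq_fintype_card, hK]
      have : 2 ^ 3 ≤ 2 ^ (2 * m + 1) := Nat.pow_le_pow_right (by norm_num) (by omega)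
      omega
    have h2 : Nontrivial Kˣ := Finite.one_lt_card_iff_nontrivial.1 h1
    exact exists_ne 1
  obtain ⟨Q, UE, s, t, -, -, hs, hS, -⟩ := Cfsg.Agent.H69.OctTwF.exists_pair hm hK
  obtain ⟨hsimp, hna⟩ := Cfsg.Agent.S1072.result hm hK
  refine CRow.of_equiv e ?_
  exact crow_full (S := Cfsg.Agent.KFacts.TwF4.Inst.full hK hφ) hF rfl (pCore_eq_bot_of_simple hna 2)
    (pCore_eq_bot_of_simple hna p) Q hs hS

end Cfsg.Agent.H829.S3828
end

-- part: H442/CRowJThreeA
section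
/-!
# The row `CRow p G` of the third Janko group: computations in `3·J₃` (helper442, S3828)
-/

set_option autoImplicit false
set_option maxRecDepth 100000

namespace Cfsg.Agent.H442.CRowJThreeA

open Subgroup Cfsg Cfsg.Spor Cfsg.Agent.J3.Core Cfsg.Agent.J3.Tab Cfsg.Agent.J3.Mono Cfsg.Agent.J3.Elts
open Cfsg.Agent.J3.Order Cfsg.Agent.Lib.BitSet Cfsg.Agent.H48.J3Three

/-- two tables have different columns -/
def difT (T U : List ℕ) : Bool :=
  (List.range 9).any fun z => !(Nat.beq ((cols T).getD z 0) ((cols U).getD z 0))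

/-- the element of order 17 -/
def tY : List ℕ := compT (tD (0, 1)) tC

/-- the element of order 19 -/
def tX : List ℕ := compT (compT (tD (0, 1)) tE) tC

/-- the commutator `[y^k, (y^k)^g]`, `y^n = 1`, `m = n - k` -/
def tW (T g g' : List ℕ) (m k : ℕ) : List ℕ :=
  compT (compT (powT T m) (compT g' (compT (powT T m) g))) (compT (powT T k) (compT g' (compT (powT T k) g)))

theorem chkY : beqL (cols (powT tY 17)) (cols (tS 0)) = true := by decide +kernel

theorem chkX : beqL (cols (powT tX 19)) (cols (tS 0)) = true := by decide +kernel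

theorem chkE : beqL (cols (compT (compT tE tE) tE)) (cols (tS 0)) = true := by decide +kernel

theorem chkC : beqL (cols (compT tC tC)) (cols (tS 0)) = true := by decide +kernel

private noncomputable def powF (T : List ℕ) (n : ℕ) : List ℕ := Nat.rec (tS 0) (fun _ r => J3.Fast.compF T r) n

private theorem powT_fun : powT = powF := by
  funext T n
  induction n with
  | zero => rfl
  | succ n ih =>
    change compT T (powT T n) = _
    rw [ih, J3.Fast.compT_fun]
    rfl

theorem chk17 : ∀ k : Fin 17, k ≠ 0 →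
    difT (powT (powT (tW tY tE (compT tE tE) (17 - k) k) 17) 3) (tS 0) = true := by
  delta tW tY
  rw [powT_fun, J3.Fast.compT_fun]
  decide +kernel

theorem chk19 : ∀ k : Fin 19, k ≠ 0 →
    difT (powT (powT (tW tX tC tC (19 - k) k) 19) 3) (tS 0) = true := by
  delta tW tX
  rw [powT_fun, J3.Fast.compT_fun]
  decide +kernel

/-- words for the elements outside `Ω₁`: `a^i b^j c^k` -/
def tP (i j k : ℕ) : List ℕ := compT (powT (lt 0) i) (compT (powT (lt 1) j) (powT (lt 3) k))

/-- conjugation by `h` -/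
def tH (T : List ℕ) : List ℕ := compT (lt 2) (compT T (powT (lt 2) 3))

/-- the commutator `x⁻¹ (x^h)⁻¹ x x^h`, `x⁹ = 1` -/
def tU (T : List ℕ) : List ℕ := compT (compT (powT T 8) (tH (powT T 8))) (compT T (tH T))

theorem chkH : beqL (cols (compT (lt 2) (powT (lt 2) 3))) (cols (tS 0)) = true := by decide +kernel

/-- a scalar table -/
def scT (T : List ℕ) : Bool := beqL (cols T) (cols (tS 0)) || beqL (cols T) (cols (tS 1)) || beqL (cols T) (cols (tS 2))

theorem chkP9 : ∀ i j k : Fin 3, ¬ (i = 0 ∧ j = 0) → scT (powT (tP i j k) 9) = true := by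
  delta tP
  rw [powT_fun, J3.Fast.compT_fun]
  decide +kernel

theorem chkU3 : ∀ i j k : Fin 3, ¬ (i = 0 ∧ j = 0) → scT (powT (tU (tP i j k)) 3) = true := by
  delta tU tH tP
  rw [powT_fun, J3.Fast.compT_fun]
  decide +kernel

theorem chkU1 : ∀ i j k : Fin 3, ¬ (i = 0 ∧ j = 0) →
    difT (compT (tU (tP i j k)) (lt 0)) (compT (lt 0) (tU (tP i j k))) = true := by
  delta tU tH tP
  rw [powT_fun, J3.Fast.compT_fun]
  decide +kernel

section

variable {F : Type*} [Field F] {ω : F} {G : Gens F ω}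

theorem ne_of_dif (H : Good ω) {T U : List ℕ} {g h : threeJ3 F ω} (hT : RepG ω T g) (hU : RepG ω U h)
    (hd : difT T U = true) : g ≠ h := by
  unfold difT at hd
  rw [List.any_eq_true] at hd
  obtain ⟨z, hz, hne⟩ := hd
  intro e
  subst e
  have h1 := RepG.cols_eq H hT hU (z9 z)
  rw [idx_z9 z (List.mem_range.1 hz)] at h1
  rw [h1, Nat.beq_refl] at hne
  exact Bool.noConfusion hne

/-- the elements of the centre -/
theorem center_cube [Fintype F] (hF : Fintype.card F = 4) (H : Good ω) {t : threeJ3 F ω}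
    (ht : t ∈ center (threeJ3 F ω)) : t ^ 3 = 1 := by
  have h1 : Nat.card (center (threeJ3 F ω)) = 3 := Cfsg.Agent.J3.Nineteen.card_center hF H
  have h2 : (⟨t, ht⟩ : center (threeJ3 F ω)) ^ Nat.card (center (threeJ3 F ω)) = 1 := pow_card_eq_one'
  have h3 := congrArg Subtype.val h2
  have h4 : t ^ Nat.card (center (threeJ3 F ω)) = 1 := h3
  rwa [h1] at h4

theorem pr_ne_of_cube [Fintype F] (hF : Fintype.card F = 4) (H : Good ω) {T : List ℕ} {g : threeJ3 F ω}
    (hT : RepG ω T g) (hd : difT (powT T 3) (tS 0) = true) : pr F ω g ≠ 1 := by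
  intro h
  have h1 : g ∈ center (threeJ3 F ω) := by rw [← ker_pr]; exact h
  exact ne_of_dif H (hT.pow H 3) (repG_one H) hd (center_cube hF H h1)

/-- a scalar table gives an element of the centre -/
theorem pr_of_scT (H : Good ω) {T : List ℕ} {g : threeJ3 F ω} (hT : RepG ω T g) (hs : scT T = true) :
    pr F ω g = 1 := by
  have key : ∀ s : ℕ, s < 3 → cols T = cols (tS s) → pr F ω g = 1 := by
    intro s hs h
    have h1 : _root_.Cfsg.Agent.J3.Tab.Rep ω (tS s) (ω ^ s • (1 : Matrix F9 F9 F)) := repS H s hs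
    have h2 : mat ω g = ω ^ s • (1 : Matrix F9 F9 F) := Rep.ext hT h1 h
    have h3 : g ∈ (pr F ω).ker := by rw [ker_pr]; exact mem_center_of_mat h2
    exact h3
  unfold scT at hs
  rw [Bool.or_eq_true, Bool.or_eq_true] at hs
  rcases hs with (h | h) | h
  · exact key 0 (by norm_num) (beqL_eq h)
  · exact key 1 (by norm_num) (beqL_eq h)
  · exact key 2 (by norm_num) (beqL_eq h)

/-- the element of order 17 -/
def eY (G : Gens F ω) : threeJ3 F ω := G.d (0, 1) * G.c

/-- the element of order 19 -/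
def eX (G : Gens F ω) : threeJ3 F ω := G.d (0, 1) * G.e * G.c

theorem rD (H : Good ω) (z : F9) : RepG ω (tD z) (G.d z) := by unfold RepG; rw [G.hd]; exact repD H _
theorem rE (H : Good ω) : RepG ω tE G.e := by unfold RepG; rw [G.he]; exact repE H
theorem rC (H : Good ω) : RepG ω tC G.c := by unfold RepG; rw [G.hc]; exact repC H

theorem repY (H : Good ω) : RepG ω tY (eY G) := (rD H _).mul (rC H)
theorem repX (H : Good ω) : RepG ω tX (eX G) := ((rD H _).mul (rE H)).mul (rC H)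

theorem repW (H : Good ω) {T t t' : List ℕ} {y g g' : threeJ3 F ω} (hT : RepG ω T y) (ht : RepG ω t g)
    (ht' : RepG ω t' g') (m k : ℕ) :
    RepG ω (tW T t t' m k) (y ^ m * (g' * (y ^ m * g)) * (y ^ k * (g' * (y ^ k * g)))) :=
  ((hT.pow H m).mul (ht'.mul ((hT.pow H m).mul ht))).mul ((hT.pow H k).mul (ht'.mul ((hT.pow H k).mul ht)))

/-- the commutator as a word -/
theorem word_eq {X : Type*} [Group X] {y g g' : X} {m k : ℕ} (hm : y ^ m = (y ^ k)⁻¹) (hg : g' = g⁻¹) :
    y ^ m * (g' * (y ^ m * g)) * (y ^ k * (g' * (y ^ k * g))) =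
      (y ^ k)⁻¹ * (g⁻¹ * y ^ k * g)⁻¹ * y ^ k * (g⁻¹ * y ^ k * g) := by
  rw [hm, hg]
  generalize y ^ k = x
  group

theorem map_word (y g g' : threeJ3 F ω) (m k : ℕ) :
    pr F ω (y ^ m * (g' * (y ^ m * g)) * (y ^ k * (g' * (y ^ k * g)))) =
      pr F ω y ^ m * (pr F ω g' * (pr F ω y ^ m * pr F ω g)) *
        (pr F ω y ^ k * (pr F ω g' * (pr F ω y ^ k * pr F ω g))) := by
  simp only [map_mul, map_pow]

theorem pow_sub_eq {X : Type*} [Group X] {y : X} {n k : ℕ} (h : y ^ n = 1) (hk : k < n) : y ^ (n - k) = (y ^ k)⁻¹ := by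
  rw [eq_inv_iff_mul_eq_one, ← pow_add, Nat.sub_add_cancel hk.le, h]

/-- the commutators of the powers of a given element of order 17 -/
theorem exists_seventeen [Fintype F] (hF : Fintype.card F = 4) (H : Good ω) : ∃ y g : J3 F ω, y ^ 17 = 1 ∧
    ∀ k : ℕ, 0 < k → k < 17 → ((y ^ k)⁻¹ * (g⁻¹ * y ^ k * g)⁻¹ * y ^ k * (g⁻¹ * y ^ k * g)) ^ 17 ≠ 1 := by
  obtain ⟨G⟩ := exists_gens hF H
  have hY := repY (G := G) H
  have hE := rE (G := G) H
  have hEE := hE.mul hE
  have h1 : eY G ^ 17 = 1 := (hY.pow H 17).ext (repG_one H) (beqL_eq chkY)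
  have h2 : G.e * G.e * G.e = 1 := (hEE.mul hE).ext (repG_one H) (beqL_eq chkE)
  have h1' : pr F ω (eY G) ^ 17 = 1 := by rw [← map_pow, h1, map_one]
  have h2' : pr F ω (G.e * G.e) = (pr F ω G.e)⁻¹ := by
    rw [eq_inv_iff_mul_eq_one, ← map_mul, h2, map_one]
  refine ⟨pr F ω (eY G), pr F ω G.e, h1', fun k hk0 hk => ?_⟩
  have h3 := chk17 ⟨k, hk⟩ (fun h => by
    have := congrArg Fin.val h
    simp at this
    omega)
  have h4 := pr_ne_of_cube hF H (((repW H hY hE hEE (17 - k) k)).pow H 17) h3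
  rwa [map_pow, map_word, word_eq (pow_sub_eq h1' hk) h2'] at h4

/-- the commutators of the powers of a given element of order 19 -/
theorem exists_nineteen [Fintype F] (hF : Fintype.card F = 4) (H : Good ω) : ∃ y g : J3 F ω, y ^ 19 = 1 ∧
    ∀ k : ℕ, 0 < k → k < 19 → ((y ^ k)⁻¹ * (g⁻¹ * y ^ k * g)⁻¹ * y ^ k * (g⁻¹ * y ^ k * g)) ^ 19 ≠ 1 := by
  obtain ⟨G⟩ := exists_gens hF H
  have hY := repX (G := G) H
  have hE := rC (G := G) H
  have h1 : eX G ^ 19 = 1 := (hY.pow H 19).ext (repG_one H) (beqL_eq chkX)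
  have h2 : G.c * G.c = 1 := (hE.mul hE).ext (repG_one H) (beqL_eq chkC)
  have h1' : pr F ω (eX G) ^ 19 = 1 := by rw [← map_pow, h1, map_one]
  have h2' : pr F ω G.c = (pr F ω G.c)⁻¹ := by
    rw [eq_inv_iff_mul_eq_one, ← map_mul, h2, map_one]
  refine ⟨pr F ω (eX G), pr F ω G.c, h1', fun k hk0 hk => ?_⟩
  have h3 := chk19 ⟨k, hk⟩ (fun h => by
    have := congrArg Fin.val h
    simp at this
    omega)
  have h4 := pr_ne_of_cube hF H (((repW H hY hE hE (19 - k) k)).pow H 19) h3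
  rwa [map_pow, map_word, word_eq (pow_sub_eq h1' hk) h2'] at h4

end

end Cfsg.Agent.H442.CRowJThreeA
end

-- part: H442/CRowJThreeB
section
/-!
# The row `CRow p G` of the third Janko group: the Sylow 3-subgroup (helper442, S3828)
-/

set_option autoImplicit false

namespace Cfsg.Agent.H442.CRowJThreeB

open Subgroup Cfsg Cfsg.Spor
open Cfsg.Agent.H48.Crit Cfsg.Agent.H102.AAThree
open scoped commutatorElement

section abs
variable {X : Type*} [Group X]

/-- normal form in the group of type `3^{2+1+2}` -/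
theorem normal_form {a b c d e : X} (hc : ⁅a, b⁆ = c) (hd : ⁅c, a⁆ = d)
    (he : ⁅c, b⁆ = e) (hda : d * a = a * d) (hdb : d * b = b * d) (hea : e * a = a * e) (heb : e * b = b * e)
    (hc3 : c ^ 3 = 1) (ha3 : a ^ 3 ∈ _root_.Subgroup.closure ({d, e} : Set X)) (hb3 : b ^ 3 ∈ closure ({d, e} : Set X)) :
    (∀ z ∈ closure ({d, e} : Set X), (∀ g ∈ closure ({a, b} : Set X), g * z = z * g) ∧ z ^ 3 = 1) ∧
    ∀ x ∈ closure ({a, b} : Set X), ∃ i j k : ℕ, i < 3 ∧ j < 3 ∧ k < 3 ∧ ∃ z ∈ closure ({d, e} : Set X),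
      x = a ^ i * (b ^ j * c ^ k) * z := by
  have hcd : c * d = d * c := by
    rw [← hc, commutatorElement_def]
    have h1 : Commute d a := hda
    have h2 : Commute d b := hdb
    exact (((h1.mul_right h2).mul_right h1.inv_right).mul_right h2.inv_right).symm
  have hce : c * e = e * c := by
    rw [← hc, commutatorElement_def]
    have h1 : Commute e a := hea
    have h2 : Commute e b := heb
    exact (((h1.mul_right h2).mul_right h1.inv_right).mul_right h2.inv_right).symm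
  have hde : d * e = e * d := by
    rw [← hd, commutatorElement_def]
    have h1 : Commute e c := hce.symm
    have h2 : Commute e a := hea
    exact (((h1.mul_right h2).mul_right h1.inv_right).mul_right h2.inv_right).symm
  have hd3 : d ^ 3 = 1 := by
    rw [← comm_zpow_of_comm hd hcd, hc3, commutatorElement_one_left]
  have he3 : e ^ 3 = 1 := by
    rw [← comm_zpow_of_comm he hce, hc3, commutatorElement_one_left]
  set! E := _root_.Subgroup.closure ({c, d, e} : Set X) with hE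
  set Z := _root_.Subgroup.closure ({d, e} : Set X) with hZ
  have hcE : c ∈ E := _root_.Subgroup.subset_closure (by simp)
  have hdE : d ∈ E := _root_.Subgroup.subset_closure (by simp)
  have heE : e ∈ E := _root_.Subgroup.subset_closure (by simp)
  have hdZ : d ∈ Z := _root_.Subgroup.subset_closure (by simp)
  have heZ : e ∈ Z := _root_.Subgroup.subset_closure (by simp)
  have hZE : Z ≤ E := by
    rw [hZ, closure_le]
    rintro y (rfl | rfl)
    · exact hdE
    · exact heE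
  -- `Z` commutes with everything
  have hZc : ∀ z ∈ Z, z * a = a * z ∧ z * b = b * z ∧ z * c = c * z ∧ z ^ 3 = 1 := by
    intro z hz
    obtain ⟨i, j, rfl⟩ := mem_closure_pair_comm hde hz
    refine ⟨?_, ?_, ?_, ?_⟩
    · exact ((show Commute d a from hda).zpow_left i).mul_left ((show Commute e a from hea).zpow_left j)
    · exact ((show Commute d b from hdb).zpow_left i).mul_left ((show Commute e b from heb).zpow_left j)
    · exact ((show Commute d c from hcd.symm).zpow_left i).mul_left ((show Commute e c from hce.symm).zpow_left j)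
    · have h1 : Commute (d ^ i) (e ^ j) := ((show Commute d e from hde).zpow_left i).zpow_right j
      rw [h1.mul_pow, ← zpow_natCast, ← zpow_natCast, ← zpow_mul, ← zpow_mul, mul_comm i, mul_comm j, zpow_mul, zpow_mul,
        zpow_natCast, zpow_natCast, hd3, he3, one_zpow, one_zpow, one_mul]
  -- the elements of `E`
  have hEf : ∀ s ∈ E, ∃ i : ℤ, ∃ z ∈ Z, s = c ^ i * z := by
    intro s hs
    obtain ⟨i, y, hy, rfl⟩ := mem_closure_insert_comm (S := {d, e}) (by
      rintro y (rfl | rfl)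
      · exact hcd
      · exact hce) hs
    exact ⟨i, y, hy, rfl⟩
  -- the action of `P` on `c`
  have hcP : ∀ g ∈ _root_.Subgroup.closure ({a, b} : Set X), (∃ w ∈ Z, g * c * g⁻¹ = w * c) ∧ (∀ z ∈ Z, g * z = z * g) := by
    intro g hg
    induction hg using closure_induction with
    | mem y hy =>
      rcases hy with rfl | rfl
      · exact ⟨⟨d⁻¹, inv_mem hdZ, by rw [← hd, commutatorElement_def]; group⟩, fun z hz => (hZc z hz).1.symm⟩
      · exact ⟨⟨e⁻¹, inv_mem heZ, by rw [← he, commutatorElement_def]; group⟩, fun z hz => (hZc z hz).2.1.symm⟩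
    | one => exact ⟨⟨1, one_mem _, by group⟩, fun z _ => by rw [one_mul, mul_one]⟩
    | mul y z _ _ hy hz =>
      obtain ⟨⟨w, hw, hy1⟩, hy2⟩ := hy
      obtain ⟨⟨v, hv, hz1⟩, hz2⟩ := hz
      refine ⟨⟨v * w, mul_mem hv hw, ?_⟩, fun u hu => ?_⟩
      · calc y * z * c * (y * z)⁻¹ = y * (z * c * z⁻¹) * y⁻¹ := by group
          _ = (y * v) * c * y⁻¹ := by rw [hz1]; group
          _ = v * (y * c * y⁻¹) := by rw [hy2 v hv]; group
          _ = v * w * c := by rw [hy1]; group
      · rw [mul_assoc, hz2 u hu, ← mul_assoc, hy2 u hu, mul_assoc]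
    | inv y _ hy =>
      obtain ⟨⟨w, hw, hy1⟩, hy2⟩ := hy
      have h2 : ∀ z ∈ Z, y⁻¹ * z = z * y⁻¹ := fun z hz => ((show Commute y z from hy2 z hz).inv_left).eq
      refine ⟨⟨w⁻¹, inv_mem hw, ?_⟩, h2⟩
      have h3 : y * c = w * c * y := by rw [← hy1]; group
      calc y⁻¹ * c * y⁻¹⁻¹ = y⁻¹ * w⁻¹ * (w * c * y) := by group
        _ = (y⁻¹ * w⁻¹) * (y * c) := by rw [← h3]
        _ = (w⁻¹ * y⁻¹) * (y * c) := by rw [h2 _ (inv_mem hw)]
        _ = w⁻¹ * c := by group
  -- the action of `P` on `E`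
  have hEn : ∀ g ∈ _root_.Subgroup.closure ({a, b} : Set X), ∀ s ∈ E, g * s * g⁻¹ ∈ E := by
    intro g hg s hs
    obtain ⟨⟨w, hw, h1⟩, h2⟩ := hcP g hg
    obtain ⟨i, z, hz, rfl⟩ := hEf s hs
    have h3 : Commute w c := (hZc w hw).2.2.1
    have h4 : g * (c ^ i * z) * g⁻¹ = w ^ i * (c ^ i * z) := by
      calc g * (c ^ i * z) * g⁻¹ = (g * c ^ i * g⁻¹) * (g * z * g⁻¹) := by group
        _ = (g * c * g⁻¹) ^ i * z := by rw [h2 z hz, mul_inv_cancel_right, conj_zpow]
        _ = w ^ i * (c ^ i * z) := by rw [h1, h3.mul_zpow, mul_assoc]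
    rw [h4]
    exact mul_mem (hZE (zpow_mem hw i)) hs
  refine ⟨fun z hz => ⟨fun g hg => (hcP g hg).2 z hz, (hZc z hz).2.2.2⟩, fun x hx => ?_⟩
  have haP : a ∈ closure ({a, b} : Set X) := _root_.Subgroup.subset_closure (by simp)
  have hbP : b ∈ closure ({a, b} : Set X) := _root_.Subgroup.subset_closure (by simp)
  obtain ⟨i, j, s, hs, hxs⟩ := exists_coset (E := E) (hEn a haP)
    (fun s hs => by simpa using hEn a⁻¹ (inv_mem haP) s hs) (hEn b hbP)
    (fun s hs => by simpa using hEn b⁻¹ (inv_mem hbP) s hs) (by rw [hc]; exact hcE) hx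
  obtain ⟨k, w, hw, rfl⟩ := hEf s hs
  obtain ⟨i0, i', hi0, hi⟩ : ∃ i0 : ℕ, ∃ i' : ℤ, i0 < 3 ∧ i = i0 + 3 * i' := by
    refine ⟨(i % 3).toNat, i / 3, ?_, ?_⟩ <;> omega
  obtain ⟨j0, j', hj0, hj⟩ : ∃ j0 : ℕ, ∃ j' : ℤ, j0 < 3 ∧ j = j0 + 3 * j' := by
    refine ⟨(j % 3).toNat, j / 3, ?_, ?_⟩ <;> omega
  obtain ⟨k0, k', hk0, hk⟩ : ∃ k0 : ℕ, ∃ k' : ℤ, k0 < 3 ∧ k = k0 + 3 * k' := by
    refine ⟨(k % 3).toNat, k / 3, ?_, ?_⟩ <;> omega
  have e1 : a ^ i = a ^ i0 * (a ^ 3) ^ i' := by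
    have e0 : a ^ (3 : ℤ) = a ^ 3 := zpow_natCast a 3
    rw [hi, zpow_add, zpow_mul, e0, zpow_natCast]
  have e2 : b ^ j = b ^ j0 * (b ^ 3) ^ j' := by
    have e0 : b ^ (3 : ℤ) = b ^ 3 := zpow_natCast b 3
    rw [hj, zpow_add, zpow_mul, e0, zpow_natCast]
  have e3 : c ^ k = c ^ k0 := by
    have h0 : c ^ (3 : ℤ) = 1 := by rw [← hc3]; exact zpow_natCast c 3
    rw [hk, zpow_add, zpow_mul, h0, one_zpow, mul_one, zpow_natCast]
  have hu := zpow_mem ha3 i'
  have hv := zpow_mem hb3 j'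
  refine ⟨i0, j0, k0, hi0, hj0, hk0, (a ^ 3) ^ i' * (b ^ 3) ^ j' * w, mul_mem (mul_mem hu hv) hw, ?_⟩
  rw [hxs, e1, e2, e3]
  generalize (a ^ 3) ^ i' = s at *
  generalize (b ^ 3) ^ j' = t at *
  have c1 := hZc s hu
  have c2 := hZc t hv
  have f1 : s * b ^ j0 = b ^ j0 * s := (show Commute s b from c1.2.1).pow_right _
  have f2 : s * c ^ k0 = c ^ k0 * s := (show Commute s c from c1.2.2.1).pow_right _
  have f3 : t * c ^ k0 = c ^ k0 * t := (show Commute t c from c2.2.2.1).pow_right _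
  calc a ^ i0 * s * (b ^ j0 * t) * (c ^ k0 * w) = a ^ i0 * (s * b ^ j0) * (t * c ^ k0) * w := by group
    _ = a ^ i0 * (b ^ j0 * s) * (c ^ k0 * t) * w := by rw [f1, f3]
    _ = a ^ i0 * b ^ j0 * (s * c ^ k0) * t * w := by group
    _ = a ^ i0 * b ^ j0 * (c ^ k0 * s) * t * w := by rw [f2]
    _ = a ^ i0 * (b ^ j0 * c ^ k0) * (s * t * w) := by group

/-- central factors drop out of commutators -/
theorem comm_central {x y z w : X} (hzx : z * x = x * z) (hzy : z * y = y * z) (hzw : z * w = w * z)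
    (hwx : w * x = x * w) (hwy : w * y = y * w) :
    (x * z)⁻¹ * (y * w)⁻¹ * (x * z) * (y * w) = x⁻¹ * y⁻¹ * x * y := by
  have h1 : Commute z (x * (y * w)) :=
    (show Commute z x from hzx).mul_right ((show Commute z y from hzy).mul_right (show Commute z w from hzw))
  have h2 : Commute w (x * y) := (show Commute w x from hwx).mul_right (show Commute w y from hwy)
  have h3 : (x * z)⁻¹ = x⁻¹ * z⁻¹ := by rw [← hzx]; group
  have h4 : (y * w)⁻¹ = y⁻¹ * w⁻¹ := by rw [← hwy]; group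
  have h5 : z⁻¹ * y⁻¹ = y⁻¹ * z⁻¹ := ((show Commute z y from hzy).inv_inv).eq
  have h6 : z⁻¹ * w⁻¹ = w⁻¹ * z⁻¹ := ((show Commute z w from hzw).inv_inv).eq
  have h7 : z⁻¹ * x = x * z⁻¹ := ((show Commute z x from hzx).inv_left).eq
  have h8 : w⁻¹ * (x * y) = x * y * w⁻¹ := (h2.inv_left).eq
  calc (x * z)⁻¹ * (y * w)⁻¹ * (x * z) * (y * w) = x⁻¹ * (z⁻¹ * y⁻¹) * w⁻¹ * x * z * y * w := by
        rw [h3, h4]; group
    _ = x⁻¹ * y⁻¹ * (z⁻¹ * w⁻¹) * x * z * y * w := by rw [h5]; group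
    _ = x⁻¹ * y⁻¹ * w⁻¹ * (z⁻¹ * x) * z * y * w := by rw [h6]; group
    _ = x⁻¹ * y⁻¹ * w⁻¹ * x * y * w := by rw [h7]; group
    _ = x⁻¹ * y⁻¹ * (w⁻¹ * (x * y)) * w := by group
    _ = x⁻¹ * y⁻¹ * x * y := by rw [h8]; group

end abs

section model

open Cfsg.Agent.J3.Core Cfsg.Agent.J3.Tab Cfsg.Agent.J3.Mono Cfsg.Agent.J3.Elts
open Cfsg.Agent.H48.J3Three Cfsg.Agent.H442.CRowJThreeA

variable {F : Type*} [Field F] {ω : F} {G : Gens F ω}

/-- the commutators `[x, x^h]` for `x = a^i b^j c^k` -/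
theorem comm_word (H : Good ω) {i j k : ℕ} (hi : i < 3) (hj : j < 3) (hk : k < 3) (hij : ¬ (i = 0 ∧ j = 0))
    {x y : J3 F ω} (hx : x = q G 0 ^ i * (q G 1 ^ j * q G 3 ^ k)) (hy : y = q G 2 * x * (q G 2)⁻¹) :
    x⁻¹ * y⁻¹ * x * y ≠ 1 ∧ (x⁻¹ * y⁻¹ * x * y) ^ 3 = 1 := by
  set! X : threeJ3 F ω := lg G 0 ^ i * (lg G 1 ^ j * lg G 3 ^ k) with hX
  have hT : RepG ω (tP i j k) X := ((rep_lg H 0).pow H i).mul (((rep_lg H 1).pow H j).mul ((rep_lg H 3).pow H k))
  have hHt : ∀ {T : List ℕ} {g : threeJ3 F ω}, RepG ω T g → RepG ω (tH T) (lg G 2 * (g * lg G 2 ^ 3)) :=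
    fun hg => (rep_lg H 2).mul (hg.mul ((rep_lg H 2).pow H 3))
  have hU := ((hT.pow H 8).mul (hHt (hT.pow H 8))).mul (hT.mul (hHt hT))
  have hij' : ¬ ((⟨i, hi⟩ : Fin 3) = 0 ∧ (⟨j, hj⟩ : Fin 3) = 0) := by
    rintro ⟨h1, h2⟩
    exact hij ⟨congrArg Fin.val h1, congrArg Fin.val h2⟩
  have c9 := pr_of_scT H (hT.pow H 9) (chkP9 ⟨i, hi⟩ ⟨j, hj⟩ ⟨k, hk⟩ hij')
  have c3 := pr_of_scT H (hU.pow H 3) (chkU3 ⟨i, hi⟩ ⟨j, hj⟩ ⟨k, hk⟩ hij')
  have c1 := ne_of_dif H (hU.mul (rep_lg (G := G) H 0)) ((rep_lg (G := G) H 0).mul hU) (chkU1 ⟨i, hi⟩ ⟨j, hj⟩ ⟨k, hk⟩ hij')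
  have hh : lg G 2 * lg G 2 ^ 3 = 1 := ((rep_lg H 2).mul ((rep_lg H 2).pow H 3)).ext (repG_one H) (beqL_eq chkH)
  have hpx : pr F ω X = x := by
    rw [hx, hX, map_mul, map_mul, map_pow, map_pow, map_pow]; rfl
  have hx9 : x ^ 8 = x⁻¹ := by
    rw [eq_inv_iff_mul_eq_one, ← pow_succ, ← hpx, ← map_pow]; exact c9
  have hh3 : q G 2 ^ 3 = (q G 2)⁻¹ := by
    rw [eq_inv_iff_mul_eq_one, ← pow_succ, pow_succ', q, ← map_pow, ← map_mul, hh, map_one]
  have hpU : pr F ω (X ^ 8 * (lg G 2 * (X ^ 8 * lg G 2 ^ 3)) * (X * (lg G 2 * (X * lg G 2 ^ 3)))) =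
      x⁻¹ * y⁻¹ * x * y := by
    have h1 : pr F ω (X ^ 8 * (lg G 2 * (X ^ 8 * lg G 2 ^ 3)) * (X * (lg G 2 * (X * lg G 2 ^ 3)))) =
        x ^ 8 * (q G 2 * (x ^ 8 * q G 2 ^ 3)) * (x * (q G 2 * (x * q G 2 ^ 3))) := by
      simp only [map_mul, map_pow, hpx]
      rfl
    rw [h1, hx9, hh3, hy]
    generalize q G 2 = h
    group
  refine ⟨fun h => ?_, ?_⟩
  · rw [← hpU] at h
    have h2 : X ^ 8 * (lg G 2 * (X ^ 8 * lg G 2 ^ 3)) * (X * (lg G 2 * (X * lg G 2 ^ 3))) ∈
        center (threeJ3 F ω) := by rw [← ker_pr]; exact h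
    exact c1 (mem_center_iff.1 h2 _).symm
  · rw [← hpU, ← map_pow]; exact c3

/-- **A 3-subgroup `P` of index prime to 3, whose elements of order 3 commute, and an element `h` such that
`[x, x^h]` has order 3 for all `x ∈ P` with `x³ ≠ 1`.** -/
theorem exists_P [Fintype F] (hF : Fintype.card F = 4) (H : Good ω) : ∃ (P : Subgroup (J3 F ω)) (h : J3 F ω),
    ¬ 3 ∣ P.index ∧ (∀ x ∈ P, ∀ y ∈ P, x ^ 3 = 1 → y ^ 3 = 1 → x * y = y * x) ∧
    ∀ x ∈ P, x ^ 3 ≠ 1 → x⁻¹ * (h * x * h⁻¹)⁻¹ * x * (h * x * h⁻¹) ≠ 1 ∧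
      (x⁻¹ * (h * x * h⁻¹)⁻¹ * x * (h * x * h⁻¹)) ^ 3 = 1 := by
  obtain ⟨G⟩ := exists_gens hF H
  have hcard := Cfsg.Agent.J3.Simple.card_J3 hF H
  have hfin : Finite (J3 F ω) := Nat.finite_of_card_ne_zero (by rw [hcard]; norm_num)
  have hab : ⁅q G 0, q G 1⁆ = q G 3 := by
    have h1 := congrArg (pr F ω) (wd_eq (G := G) H k_comm)
    rw [wd_cons, wd_one, wd_cons, wd_cons, wd_one, map_mul, map_mul, map_mul] at h1
    have h2 : q G 0 * q G 1 = q G 3 * (q G 1 * q G 0) := h1
    rw [commutatorElement_def, h2]; group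
  have r3 : ∀ {x y z : ℕ} {s : ℕ} (_ : s < 3)
      (_ : beqL (cols (wt [x, y])) (cols (compT (tS s) (wt [z, y, x]))) = true), ⁅q G x, q G y⁆ = q G z := by
    intro x y z s hs h
    have h1 := pr_eqS (G := G) H hs h
    rw [wd_cons, wd_one, wd_cons, wd_cons, wd_one, map_mul, map_mul, map_mul] at h1
    have h2 : q G x * q G y = q G z * (q G y * q G x) := h1
    rw [commutatorElement_def, h2]; group
  have cube : ∀ {x : ℕ} {s : ℕ} {l : List ℕ} (_ : s < 3)
      (_ : beqL (cols (wt [x, x, x])) (cols (compT (tS s) (wt l))) = true), q G x ^ 3 = pr F ω (wd G l) := by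
    intro x s l hs h
    have h1 := pr_eqS (G := G) H hs h
    rw [← h1, wd_cons, wd_cons, wd_one, map_mul, map_mul, pow_succ, pow_two, mul_assoc]
    rfl
  have hca := r3 (by norm_num) k_ca
  have hcb := r3 (by norm_num) k_cb
  have hda := q2 (G := G) H (by norm_num) k_da
  have hdb := q2 (G := G) H (by norm_num) k_db
  have hea := q2 (G := G) H (by norm_num) k_ea
  have heb := q2 (G := G) H (by norm_num) k_eb
  have c3 : q G 3 ^ 3 = 1 := by rw [cube (by norm_num) k_c3, wd_nil, map_one]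
  have d3 : q G 4 ^ 3 = 1 := by rw [cube (by norm_num) k_d3, wd_nil, map_one]
  have e3 : q G 5 ^ 3 = 1 := by rw [cube (by norm_num) k_e3, wd_nil, map_one]
  have a3 : q G 0 ^ 3 = q G 5 := by rw [cube (by norm_num) k_a3, wd_one]; rfl
  have b3 : q G 1 ^ 3 = q G 4 * q G 4 := by rw [cube (by norm_num) k_b3, wd_cons, wd_one, map_mul]; rfl
  have ha9 : q G 0 ^ 3 ^ 2 = 1 := by rw [show 3 ^ 2 = 3 * 3 by norm_num, pow_mul, a3, e3]
  have hb9 : q G 1 ^ 3 ^ 2 = 1 := by
    rw [show 3 ^ 2 = 3 * 3 by norm_num, pow_mul, b3, ← pow_two, ← pow_mul, mul_comm, pow_mul, d3, one_pow]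
  have hha : q G 2 * q G 0 * (q G 2)⁻¹ = q G 1 := by
    rw [show q G 2 * q G 0 = q G 1 * q G 2 from q2 (G := G) H (by norm_num) k_ha, mul_inv_cancel_right]
  have hhd : q G 2 * q G 4 * (q G 2)⁻¹ = q G 5 := by
    rw [show q G 2 * q G 4 = q G 5 * q G 2 from q2 (G := G) H (by norm_num) k_hd, mul_inv_cancel_right]
  have hhb : q G 2 * q G 1 * (q G 2)⁻¹ = (q G 0)⁻¹ := by
    have h1 := pr_eqS (G := G) H (by norm_num) k_hb
    rw [wd_cons, wd_cons, wd_one, wd_one, map_mul, map_mul] at h1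
    have h2 : q G 0 * (q G 2 * q G 1) = q G 2 := h1
    rw [eq_inv_iff_mul_eq_one]
    calc q G 2 * q G 1 * (q G 2)⁻¹ * q G 0 = (q G 0)⁻¹ * (q G 0 * (q G 2 * q G 1)) * (q G 2)⁻¹ * q G 0 := by group
      _ = 1 := by rw [h2]; group
  have hhe : q G 2 * q G 5 * (q G 2)⁻¹ = (q G 4)⁻¹ := by
    have h1 := pr_eqS (G := G) H (by norm_num) k_he
    rw [wd_cons, wd_cons, wd_one, wd_one, map_mul, map_mul] at h1
    have h2 : q G 4 * (q G 2 * q G 5) = q G 2 := h1
    rw [eq_inv_iff_mul_eq_one]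
    calc q G 2 * q G 5 * (q G 2)⁻¹ * q G 4 = (q G 4)⁻¹ * (q G 4 * (q G 2 * q G 5)) * (q G 2)⁻¹ * q G 4 := by group
      _ = 1 := by rw [h2]; group
  have hind := independent (G := G) H
  have h35 := Cfsg.Agent.H48.Crit.three_pow_five hab hca hcb hda hdb hea heb c3 ⟨2, ha9⟩ ⟨2, hb9⟩ hind
  have hidx : ¬ 3 ∣ (_root_.Subgroup.closure ({q G 0, q G 1} : Set (J3 F ω))).index :=
    Cfsg.Agent.H48.Crit.index_not_dvd Nat.prime_three h35 (by rw [hcard]; norm_num)
  obtain ⟨hcen, hnf⟩ := normal_form hab hca hcb hda hdb hea heb c3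
    (by rw [a3]; exact _root_.Subgroup.subset_closure (by simp))
    (by rw [b3]; exact mul_mem (_root_.Subgroup.subset_closure (by simp)) (_root_.Subgroup.subset_closure (by simp)))
  set! P := _root_.Subgroup.closure ({q G 0, q G 1} : Set (J3 F ω)) with hP; rewrite [← hP] at hnf hcen hidx h35
  have hcP : q G 3 ∈ P := by
    rw [← hab, commutatorElement_def]
    have h0 : q G 0 ∈ P := _root_.Subgroup.subset_closure (by simp)
    have h1 : q G 1 ∈ P := _root_.Subgroup.subset_closure (by simp)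
    exact mul_mem (mul_mem (mul_mem h0 h1) (inv_mem h0)) (inv_mem h1)
  have hcj : ∀ z ∈ _root_.Subgroup.closure ({q G 4, q G 5} : Set (J3 F ω)), (q G 3 * z = z * q G 3) := fun z hz =>
    (hcen z hz).1 _ hcP
  refine ⟨P, q G 2, hidx, ?_, ?_⟩
  · -- elements of order 3
    have hmem : ∀ x ∈ P, x ^ 3 = 1 → x ∈ _root_.Subgroup.closure ({q G 3, q G 4, q G 5} : Set (J3 F ω)) := fun x hx hx3 =>
      mem_of_cube hab hca hcb hda hdb hea heb c3 (by rw [a3]; exact _root_.Subgroup.subset_closure (by simp))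
        (by rw [b3]; exact mul_mem (_root_.Subgroup.subset_closure (by simp)) (_root_.Subgroup.subset_closure (by simp)))
        (fun i j hi hj h => Cfsg.Agent.H102.AAJthree.cube_ne H hi hj h) hx hx3
    have hcd : q G 3 * q G 4 = q G 4 * q G 3 := (hcen _ (_root_.Subgroup.subset_closure (by simp))).1 _ hcP
    have hce : q G 3 * q G 5 = q G 5 * q G 3 := (hcen _ (_root_.Subgroup.subset_closure (by simp))).1 _ hcP
    have hdP : q G 4 ∈ P := by
      rw [← hca, commutatorElement_def]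
      have h0 : q G 0 ∈ P := _root_.Subgroup.subset_closure (by simp)
      exact mul_mem (mul_mem (mul_mem hcP h0) (inv_mem hcP)) (inv_mem h0)
    have hde : q G 4 * q G 5 = q G 5 * q G 4 := (hcen _ (_root_.Subgroup.subset_closure (by simp))).1 _ hdP
    have hcl : _root_.Subgroup.closure ({q G 3, q G 4, q G 5} : Set (J3 F ω)) ≤
        centralizer ((_root_.Subgroup.closure ({q G 3, q G 4, q G 5} : Set (J3 F ω)) : Subgroup (J3 F ω)) : Set (J3 F ω)) := by
      rw [centralizer_closure, closure_le]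
      rintro x hx
      rw [SetLike.mem_coe, mem_centralizer_iff]
      rintro y hy
      rcases hx with rfl | rfl | rfl <;> rcases hy with rfl | rfl | rfl
      · rfl
      · exact hcd.symm
      · exact hce.symm
      · exact hcd
      · rfl
      · exact hde.symm
      · exact hce
      · exact hde
      · rfl
    intro x hx y hy hx3 hy3
    exact (mem_centralizer_iff.1 (hcl (hmem x hx hx3)) y (hmem y hy hy3)).symm
  · intro x hx hx3
    obtain ⟨i, j, k, hi, hj, hk, z, hz, hxe⟩ := hnf x hx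
    have h0 : q G 0 ∈ P := _root_.Subgroup.subset_closure (by simp)
    have h1 : q G 1 ∈ P := _root_.Subgroup.subset_closure (by simp)
    -- `h` normalizes `P` and `Z`
    have hhP : ∀ y ∈ P, q G 2 * y * (q G 2)⁻¹ ∈ P := by
      intro y hy
      have h2 : P.map (MulAut.conj (q G 2)).toMonoidHom ≤ P := by
        rw [hP, MonoidHom.map_closure, closure_le]
        rintro _ ⟨w, (rfl | rfl), rfl⟩
        · show q G 2 * q G 0 * (q G 2)⁻¹ ∈ P
          rw [hha]; exact h1
        · show q G 2 * q G 1 * (q G 2)⁻¹ ∈ P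
          rw [hhb]; exact inv_mem h0
      exact h2 ⟨y, hy, rfl⟩
    have hhZ : q G 2 * z * (q G 2)⁻¹ ∈ _root_.Subgroup.closure ({q G 4, q G 5} : Set (J3 F ω)) := by
      have h2 : (_root_.Subgroup.closure ({q G 4, q G 5} : Set (J3 F ω))).map (MulAut.conj (q G 2)).toMonoidHom ≤
          _root_.Subgroup.closure ({q G 4, q G 5} : Set (J3 F ω)) := by
        rw [MonoidHom.map_closure, closure_le]
        rintro _ ⟨w, (rfl | rfl), rfl⟩
        · show q G 2 * q G 4 * (q G 2)⁻¹ ∈ _root_.Subgroup.closure ({q G 4, q G 5} : Set (J3 F ω))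
          rw [hhd]; exact _root_.Subgroup.subset_closure (by simp)
        · show q G 2 * q G 5 * (q G 2)⁻¹ ∈ _root_.Subgroup.closure ({q G 4, q G 5} : Set (J3 F ω))
          rw [hhe]; exact inv_mem (_root_.Subgroup.subset_closure (by simp))
      exact h2 ⟨z, hz, rfl⟩
    obtain ⟨x0, hx0⟩ : ∃ x0, x0 = q G 0 ^ i * (q G 1 ^ j * q G 3 ^ k) := ⟨_, rfl⟩
    rw [← hx0] at hxe
    have hx0P : x0 ∈ P := by
      rw [hx0]; exact mul_mem (pow_mem h0 _) (mul_mem (pow_mem h1 _) (pow_mem hcP _))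
    have hij : ¬ (i = 0 ∧ j = 0) := by
      rintro ⟨rfl, rfl⟩
      apply hx3
      rw [pow_zero, pow_zero, one_mul, one_mul] at hx0
      have h2 : Commute (q G 3 ^ k) z := (show Commute (q G 3) z from hcj z hz).pow_left k
      rw [hxe, hx0, h2.mul_pow, (hcen z hz).2, mul_one, ← pow_mul, mul_comm, pow_mul, c3, one_pow]
    obtain ⟨c1, c2⟩ := comm_word H hi hj hk hij hx0 (y := q G 2 * x0 * (q G 2)⁻¹) rfl
    have hy0P := hhP x0 hx0P
    have e1 : q G 2 * x * (q G 2)⁻¹ = (q G 2 * x0 * (q G 2)⁻¹) * (q G 2 * z * (q G 2)⁻¹) := by rw [hxe]; group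
    have hzP : z ∈ P := by
      have h2 : _root_.Subgroup.closure ({q G 4, q G 5} : Set (J3 F ω)) ≤ P := by
        rw [closure_le]
        have hdP : q G 4 ∈ P := by
          rw [← hca, commutatorElement_def]
          exact mul_mem (mul_mem (mul_mem hcP h0) (inv_mem hcP)) (inv_mem h0)
        have heP : q G 5 ∈ P := by rw [← a3]; exact pow_mem h0 3
        rintro w (rfl | rfl)
        · exact hdP
        · exact heP
      exact h2 hz
    have e2 := comm_central (x := x0) (y := q G 2 * x0 * (q G 2)⁻¹) (z := z) (w := q G 2 * z * (q G 2)⁻¹)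
      ((hcen z hz).1 x0 hx0P).symm ((hcen z hz).1 _ hy0P).symm ((hcen _ hhZ).1 z hzP)
      ((hcen _ hhZ).1 x0 hx0P).symm ((hcen _ hhZ).1 _ hy0P).symm
    rw [e1, hxe, e2]
    exact ⟨c1, c2⟩

end model

end Cfsg.Agent.H442.CRowJThreeB
end

-- part: H442/CRowJThree
section
/-!
# The row `CRow p G` of the third Janko group (helper442, S3828)
-/

set_option autoImplicit false

namespace Cfsg.Agent.H442.CRowJThree

open Subgroup Cfsg Cfsg.Agent.Lib.Cores Cfsg.Agent.H162.CCR
open Cfsg.Agent.J2Type.Model Cfsg.Agent.J2Type.CStruct Cfsg.Agent.J3Type.OneClass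
open Cfsg.Agent.H102.AAJtwo Cfsg.Agent.H442.CRowTools Cfsg.Agent.H442.CRowJThreeA

section cyc

variable {G : Type*} [Group G] [Finite G] {p : ℕ} [hp : Fact p.Prime]

omit [Finite G] hp in
/-- an element of order dividing `p` in a group of order not divisible by `p²` -/
theorem pow_eq_one_of {x : G} (h2 : ¬ p ^ 2 ∣ Nat.card G) (hx : ∃ k : ℕ, orderOf x = p ^ k) : x ^ p = 1 := by
  obtain ⟨k, hk⟩ := hx
  have h1 : k ≤ 1 := by
    by_contra h3
    exact h2 ((pow_dvd_pow p (by omega)).trans (hk ▸ _root_.orderOf_dvd_natCard x))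
  rw [← orderOf_dvd_iff_pow_eq_one, hk]
  calc p ^ k ∣ p ^ 1 := pow_dvd_pow p h1
    _ = p := pow_one p

/-- **Sylow subgroups of order `p`: explicit commutators.** -/
theorem crow_of_words (h2 : ¬ p ^ 2 ∣ Nat.card G) (h : ∃ y g : G, y ^ p = 1 ∧
    ∀ k : ℕ, 0 < k → k < p → ((y ^ k)⁻¹ * (g⁻¹ * y ^ k * g)⁻¹ * y ^ k * (g⁻¹ * y ^ k * g)) ^ p ≠ 1) : CRow p G := by
  obtain ⟨y, g, hy, hw⟩ := h
  have hpp := hp.out
  intro C hC c hc
  by_contra hc1
  have hy1 : y ≠ 1 := by
    rintro rfl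
    exact hw 1 one_pos hpp.one_lt (by simp)
  have hyo : orderOf y = p := orderOf_eq_prime hy hy1
  have hi : ¬ p ∣ (zpowers y).index := by
    intro h3
    apply h2
    have h4 := (zpowers y).card_mul_index
    rw [Nat.card_zpowers, hyo] at h4
    rw [← h4, pow_two]
    exact Nat.mul_dvd_mul_left p h3
  obtain ⟨a, ha⟩ := hC.exists_conj_mem hi hc
  obtain ⟨k, hkp, hk⟩ : ∃ k : ℕ, k < p ∧ y ^ k = a * c * a⁻¹ := by
    obtain ⟨n, hn⟩ := (isOfFinOrder_of_finite y).mem_powers_iff_mem_zpowers.2 ha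
    refine ⟨n % p, Nat.mod_lt _ hpp.pos, ?_⟩
    rw [← hn]
    show y ^ (n % p) = y ^ n
    rw [← hyo, pow_mod_orderOf]
  have hk0 : 0 < k := by
    rcases Nat.eq_zero_or_pos k with h3 | h3
    · exfalso
      rw [h3, pow_zero] at hk
      apply hc1
      have : c = a⁻¹ * (a * c * a⁻¹) * a := by group
      rw [this, ← hk]; group
    · exact h3
  have hkC : y ^ k ∈ C := by rw [hk]; exact hC.conj a c hc
  exact hw k hk0 hkp (pow_eq_one_of h2 (hC.pel _ (hC.comm_conj g hkC)))

end cyc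

/-- `O₃(C(x)) ≤ ⟨x⟩` for an element `x` of order 3 commuting with an involution -/
theorem mem_zpowers_of_three {K : Type*} [Group K] [Finite K] (h : Spor.IsoJ3 K) {x : K} (hx : orderOf x = 3)
    {t : K} (ht : orderOf t = 2) (htx : t * x = x * t) [Fact (Nat.Prime 3)] {a : centralizer ({x} : Set K)}
    (ha : a ∈ pCore 3 (centralizer ({x} : Set K))) : (a : K) ∈ zpowers x := by
  obtain ⟨hcard, hM, hone, -⟩ := Cfsg.Agent.CpAutJThree.base h
  have hp2 : Fact (Nat.Prime 2) := ⟨Nat.prime_two⟩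
  have memC : ∀ a : K, a ∈ centralizer ({x} : Set K) ↔ a * x = x * a := fun a => mem_centralizer_singleton_iff
  obtain ⟨c0, hc0, ⟨s, hs, hsc⟩, hc0c⟩ := Cfsg.Agent.CpAutJThree.exc h
  obtain ⟨g, hg⟩ := Cfsg.Agent.CpAutJThree.conj_three hM hone hc0 hx hs ht hsc htx
  have hC : Nat.card ↥(centralizer ({x} : Set K)) = 1080 := by
    rw [← Cfsg.Agent.J2Type.Cent5.card_centralizer_of_isConj (isConj_iff.2 ⟨g, hg⟩)]; exact hc0c
  let c : centralizer ({x} : Set K) := ⟨x, (memC x).2 rfl⟩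
  have hc3 : orderOf c = 3 := by rw [← hx]; exact orderOf_mk _ _
  have hcc : ∀ a : centralizer ({x} : Set K), a * c = c * a := fun a => Subtype.ext ((memC a).1 a.2)
  have hZn : (zpowers c).Normal := by
    constructor
    rintro n ⟨k, rfl⟩ g
    refine ⟨k, ?_⟩
    have h1 : Commute g c := hcc g
    have := h1.zpow_right k
    show c ^ k = g * c ^ k * g⁻¹
    rw [this.eq]; group
  have hHD8 := J3Type.Extra.hd8_quotient c hc3 hcc (Cfsg.Agent.CpAutJThree.hD_of_model hM hx)
  have hq : Nat.card (↥(centralizer ({x} : Set K)) ⧸ zpowers c) = 360 := by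
    have := card_eq_card_quotient_mul_card_subgroup (zpowers c)
    rw [hC, Nat.card_zpowers, hc3] at this
    omega
  obtain ⟨s', hs'⟩ := exists_prime_orderOf_dvd_card' (G := ↥(centralizer ({x} : Set K)) ⧸ zpowers c) 2
    (by rw [hq]; norm_num)
  have hsim := J3Type.Extra.isSimple hHD8 hs'
  have h1 : (pCore 3 (centralizer ({x} : Set K))).map (QuotientGroup.mk' (zpowers c)) ≤
      pCore 3 (↥(centralizer ({x} : Set K)) ⧸ zpowers c) :=
    le_pCore (Subgroup.Normal.map inferInstance _ (QuotientGroup.mk'_surjective _)) ((pCore_isPGroup 3).map _)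
  have h0 : ¬ IsMulCommutative (↥(centralizer ({x} : Set K)) ⧸ zpowers c) := not_comm_of_card (by rw [hq]; norm_num)
  rw [pCore_eq_bot_of_simple h0 3] at h1
  have h2 : QuotientGroup.mk' (zpowers c) a = 1 := mem_bot.1 (h1 ⟨a, ha, rfl⟩)
  have h3 : a ∈ zpowers c := (QuotientGroup.eq_one_iff a).1 h2
  obtain ⟨k, hk⟩ := mem_zpowers_iff.1 h3
  exact mem_zpowers_iff.2 ⟨k, congrArg Subtype.val hk⟩

/-- **The row of `J₃`.** -/
theorem crow_j3 {G : Type*} [Group G] [Finite G] [IsSimpleGroup G] (h : Spor.IsoJ3 G) (p : ℕ) [hp : Fact p.Prime] :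
    CRow p G := by
  obtain ⟨hcard, hM, hone, -⟩ := Cfsg.Agent.CpAutJThree.base h
  have hna : ¬ IsMulCommutative G := not_comm_of_card (by rw [hcard]; norm_num)
  have h2' : Fact (Nat.Prime 2) := ⟨Nat.prime_two⟩
  by_cases hd : p ∣ Nat.card G
  swap
  · exact crow_of_card hd
  have hd' : p ∣ 2 ^ 7 * (3 ^ 5 * (5 * (17 * 19))) := by
    rw [hcard] at hd
    norm_num
    exact hd
  have hpp := hp.out
  have htop : ∀ t : G, orderOf t = 2 → centralizer ({t} : Set G) ≠ ⊤ := by
    intro t ht h5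
    have h6 := (hM t ht).2.1
    rw [h5, Nat.card_congr topEquiv.toEquiv, hcard] at h6
    norm_num at h6
  obtain ⟨t0, ht0⟩ := exists_prime_orderOf_dvd_card' (G := G) 2 (by rw [hcard]; norm_num)
  have hidx : (centralizer ({t0} : Set G)).index = 26163 := by
    have h1 := (centralizer ({t0} : Set G)).card_mul_index
    rw [(hM t0 ht0).2.1, hcard] at h1
    omega
  by_cases hp2 : p = 2
  · subst hp2
    obtain ⟨-, -, Q, v, ρ, M⟩ := hM t0 ht0
    exact crow_two hna M (htop t0 ht0) (by rw [hidx]; norm_num)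
  have hcore : ∀ t : G, orderOf t = 2 → pCore p (centralizer ({t} : Set G)) = ⊥ := by
    intro t ht
    obtain ⟨-, hct, Q, v, ρ, M⟩ := hM t ht
    exact pCore_model M hct hp2
  have ht : ∀ t : G, t ≠ 1 → t * t = 1 → ∃ H : Subgroup G, H ≠ ⊤ ∧ centralizer {t} ≤ H ∧ pCore p H = ⊥ := by
    intro t ht1 ht2
    have ht : orderOf t = 2 := orderOf_eq_prime (by rw [pow_two, ht2]) ht1
    exact ⟨centralizer {t}, htop t ht, le_rfl, hcore t ht⟩
  rcases (Nat.Prime.dvd_mul hpp).1 hd' with h1 | h1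
  · exact absurd ((Nat.prime_dvd_prime_iff_eq hpp Nat.prime_two).1 (hpp.dvd_of_dvd_pow h1)) hp2
  rcases (Nat.Prime.dvd_mul hpp).1 h1 with h1 | h1
  · obtain rfl := (Nat.prime_dvd_prime_iff_eq hpp (by norm_num)).1 (hpp.dvd_of_dvd_pow h1)
    obtain ⟨P, k, hPi, hPc, hPk⟩ : ∃ (P : Subgroup G) (k : G), ¬ 3 ∣ P.index ∧
        (∀ x ∈ P, ∀ y ∈ P, x ^ 3 = 1 → y ^ 3 = 1 → x * y = y * x) ∧
        ∀ x ∈ P, x ^ 3 ≠ 1 → x⁻¹ * (k * x * k⁻¹)⁻¹ * x * (k * x * k⁻¹) ≠ 1 ∧
          (x⁻¹ * (k * x * k⁻¹)⁻¹ * x * (k * x * k⁻¹)) ^ 3 = 1 := by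
      obtain ⟨F', _, _, ω, hF, hω, ⟨e⟩⟩ := h
      have H := Cfsg.Agent.J3.Core.good_of_card hF hω
      obtain ⟨P, k, h1, h2, h3⟩ := Cfsg.Agent.H442.CRowJThreeB.exists_P hF H
      refine ⟨P.comap e.toMonoidHom, e.symm k, ?_, ?_, ?_⟩
      · rwa [index_comap_of_surjective P e.surjective]
      · intro x hx y hy hx3 hy3
        apply e.injective
        rw [map_mul, map_mul]
        exact h2 _ hx _ hy (by rw [← map_pow, hx3, map_one]) (by rw [← map_pow, hy3, map_one])
      · intro x hx hx3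
        obtain ⟨h4, h5⟩ := h3 (e x) hx (fun h6 => hx3 (e.injective (by rw [map_pow, h6, map_one])))
        have e1 : e (x⁻¹ * (e.symm k * x * (e.symm k)⁻¹)⁻¹ * x * (e.symm k * x * (e.symm k)⁻¹)) =
            (e x)⁻¹ * (k * e x * k⁻¹)⁻¹ * e x * (k * e x * k⁻¹) := by
          simp only [map_mul, map_inv, MulEquiv.apply_symm_apply]
        refine ⟨fun h6 => h4 ?_, ?_⟩
        · rw [← e1, h6, map_one]
        · apply e.injective
          rw [map_pow, e1, h5, map_one]
    intro C hC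
    -- no elements of order 3
    have step : ∀ x ∈ C, x ≠ 1 → x ^ 3 ≠ 1 := by
      intro x hx hx1 hx3
      obtain ⟨c0, hc0, ⟨s, hs, hsc⟩, -⟩ := Cfsg.Agent.CpAutJThree.exc h
      obtain ⟨g, hg⟩ := hC.exists_conj_mem hPi hx
      obtain ⟨m, hm⟩ := Cfsg.Agent.H102.AAJthree.exists_conj_mem hPi hc0
      have hgC := hC.conj g x hx
      have hg1 : g * x * g⁻¹ ≠ 1 := fun h => hx1 (by
        have : x = g⁻¹ * (g * x * g⁻¹) * g := by group
        rw [this, h]; group)
      have hc03 : c0 ^ 3 = 1 := by rw [← hc0, pow_orderOf_eq_one]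
      have hcm : orderOf (m * c0 * m⁻¹) = 3 := by rw [Cfsg.Agent.H102.AAJthree.orderOf_conj, hc0]
      have htm : orderOf (m * s * m⁻¹) = 2 := by rw [Cfsg.Agent.H102.AAJthree.orderOf_conj, hs]
      have hcomm := hPc _ hg _ hm (by rw [conj_pow, hx3]; group) (by rw [conj_pow, hc03]; group)
      have htc : m * s * m⁻¹ * (m * c0 * m⁻¹) = m * c0 * m⁻¹ * (m * s * m⁻¹) := by
        calc m * s * m⁻¹ * (m * c0 * m⁻¹) = m * (s * c0) * m⁻¹ := by group
          _ = m * (c0 * s) * m⁻¹ := by rw [hsc]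
          _ = m * c0 * m⁻¹ * (m * s * m⁻¹) := by group
      have hc1 : m * c0 * m⁻¹ ≠ 1 := fun h => by rw [h, orderOf_one] at hcm; norm_num at hcm
      obtain ⟨S, hS⟩ := (hC.isPGroup_zpowers hgC).exists_le_sylow
      have hcen : center G = ⊥ := by
        rcases (inferInstance : (center G).Normal).eq_bot_or_eq_top with h | h
        · exact h
        · exfalso
          apply hna
          exact ⟨⟨fun x y => (mem_center_iff.1 (h ▸ mem_top x : x ∈ center G) y).symm⟩⟩
      obtain ⟨-, -, ⟨a, ha, hax⟩⟩ := hC.centralizer_of_comm (pCore_eq_bot_of_simple hna 3) hcen hgC hg1 hc1 hcomm (P := S)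
        (hS (mem_zpowers _))
      have h4 := mem_zpowers_of_three h hcm htm htc ha
      have h5 : (a : G) = g * x * g⁻¹ := hax
      rw [h5] at h4
      obtain ⟨n, hn⟩ := mem_zpowers_iff.1 h4
      have h6 := hC.odd_centralizer ht hgC hg1
      have h7 : m * s * m⁻¹ ∈ centralizer ({g * x * g⁻¹} : Set G) := by
        rw [mem_centralizer_singleton_iff, ← hn]
        exact ((show Commute (m * s * m⁻¹) (m * c0 * m⁻¹) from htc).zpow_right n).eq
      have h8 : 2 ∣ Nat.card (centralizer ({g * x * g⁻¹} : Set G)) := by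
        have h9 : orderOf (⟨m * s * m⁻¹, h7⟩ : centralizer ({g * x * g⁻¹} : Set G)) = 2 := by
          rw [Subgroup.orderOf_mk, htm]
        rw [← h9]; exact _root_.orderOf_dvd_natCard _
      exact (Nat.not_even_iff_odd.2 h6) (even_iff_two_dvd.2 h8)
    intro c hc
    by_contra hc1
    obtain ⟨g, hg⟩ := hC.exists_conj_mem hPi hc
    have hgC := hC.conj g c hc
    have hg1 : g * c * g⁻¹ ≠ 1 := fun h => hc1 (by
      have : c = g⁻¹ * (g * c * g⁻¹) * g := by group
      rw [this, h]; group)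
    obtain ⟨h3, h4⟩ := hPk _ hg (step _ hgC hg1)
    exact step _ (hC.comm _ hgC _ (hC.conj k _ hgC)) h3 h4
  rcases (Nat.Prime.dvd_mul hpp).1 h1 with h1 | h1
  · obtain rfl := (Nat.prime_dvd_prime_iff_eq hpp (by norm_num)).1 h1
    intro C hC
    exact hC.eq_one_of_index (htop t0 ht0) (by rw [hidx]; norm_num) (hcore t0 ht0)
  obtain ⟨F', _, _, ω, hF, hω, ⟨e⟩⟩ := h
  have H := Cfsg.Agent.J3.Core.good_of_card hF hω
  have hcardJ := Cfsg.Agent.J3.Simple.card_J3 hF H
  have hfin : Finite (Spor.J3 F' ω) := Nat.finite_of_card_ne_zero (by rw [hcardJ]; norm_num)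
  rcases (Nat.Prime.dvd_mul hpp).1 h1 with h1 | h1
  · obtain rfl := (Nat.prime_dvd_prime_iff_eq hpp (by norm_num)).1 h1
    exact CRow.of_equiv e (crow_of_words (by rw [hcardJ]; norm_num) (exists_seventeen hF H))
  · obtain rfl := (Nat.prime_dvd_prime_iff_eq hpp (by norm_num)).1 h1
    exact CRow.of_equiv e (crow_of_words (by rw [hcardJ]; norm_num) (exists_nineteen hF H))

end Cfsg.Agent.H442.CRowJThree
end

-- part: H417/CC/CharTwo
section
/-!
# S3828: groups of characteristic two type (helper417)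

* `map_mem_pCore` : surjections map `O_p` into `O_p`
* `cover` : in a group of characteristic 2 type every involution centralizer lies in a proper subgroup with `O_p = 1`, `p` odd
* `row_of_not_sq` : characteristic 2 type, two classes of involutions, `p² ∤ |G|`
-/

set_option autoImplicit false
set_option linter.unusedSectionVars false

namespace Cfsg.Agent.H417.CC

open Subgroup Cfsg Cfsg.Agent.H162.CCR Cfsg.Agent.Lib.Cores

theorem map_mem_pCore {G H : Type*} [Group G] [Group H] {p : ℕ} (f : G →* H) (hf : Function.Surjective f) {x : G}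
    (hx : x ∈ pCore p G) : f x ∈ pCore p H := by
  have h1 : (pCore p G).map f ≤ pCore p H :=
    le_pCore ((pCore_normal p G).map f hf) ((pCore_isPGroup p).map f)
  exact h1 ⟨x, hx, rfl⟩

/-- an element of `O_p` with trivial `m`-th power, `m` prime to `p` -/
theorem eq_one_of_pow {G : Type*} [Group G] {p : ℕ} [hp : Fact p.Prime] {x : G} (hx : x ∈ pCore p G) {m : ℕ}
    (hm : ¬ p ∣ m) (h : x ^ m = 1) : x = 1 := by
  obtain ⟨k, hk⟩ := (pCore_isPGroup p) ⟨x, hx⟩
  have h1 : x ^ p ^ k = 1 := congrArg Subtype.val hk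
  have h2 : Nat.Coprime (p ^ k) m := Nat.Coprime.pow_left k ((Nat.Prime.coprime_iff_not_dvd hp.out).2 hm)
  have h3 : orderOf x ∣ Nat.gcd (p ^ k) m := Nat.dvd_gcd (orderOf_dvd_of_pow_eq_one h1) (orderOf_dvd_of_pow_eq_one h)
  rw [h2] at h3
  exact orderOf_eq_one_iff.1 (Nat.dvd_one.1 h3)

section

variable {G : Type*} [Group G] [Finite G] {p : ℕ} [hp : Fact p.Prime]

theorem pCore_normalizer (h : IsCharacteristicTwoType G) (hp2 : p ≠ 2) {T : Subgroup G} (hT : IsPGroup 2 T)
    (hT1 : T ≠ ⊥) : pCore p ↥(normalizer (T : Set G)) = ⊥ := by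
  have h2 : Fact (Nat.Prime 2) := ⟨Nat.prime_two⟩
  have h1 := h.2 T hT hT1
  have hdis : Disjoint (pCore p ↥(normalizer (T : Set G))) (pCore 2 ↥(normalizer (T : Set G))) :=
    IsPGroup.disjoint_of_ne p 2 hp2 _ _ (pCore_isPGroup p) (pCore_isPGroup 2)
  rw [eq_bot_iff]
  intro x hx
  have h3 : x ∈ pCore 2 ↥(normalizer (T : Set G)) := by
    apply h1
    rw [mem_centralizer_iff]
    intro y hy
    exact (Subgroup.commute_of_normal_of_disjoint _ _ (pCore_normal p _) (pCore_normal 2 _) hdis x y hx hy).symm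
  have h4 : x ∈ pCore p ↥(normalizer (T : Set G)) ⊓ pCore 2 ↥(normalizer (T : Set G)) := ⟨hx, h3⟩
  rwa [hdis.eq_bot] at h4

theorem cover [hs : IsSimpleGroup G] (hab : ¬ IsMulCommutative G) (h : IsCharacteristicTwoType G) (hp2 : p ≠ 2) (t : G)
    (ht1 : t ≠ 1) (ht : t * t = 1) : ∃ H : Subgroup G, H ≠ ⊤ ∧ Subgroup.centralizer {t} ≤ H ∧ pCore p H = ⊥ := by
  have h2 : Fact (Nat.Prime 2) := ⟨Nat.prime_two⟩
  have ho : orderOf t = 2 := orderOf_eq_prime (by rw [pow_two, ht]) ht1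
  have hT : IsPGroup 2 (zpowers t) := IsPGroup.of_card (n := 1) (by rw [Nat.card_zpowers, ho, pow_one])
  have hT1 : zpowers t ≠ ⊥ := by rwa [Ne, zpowers_eq_bot]
  refine ⟨normalizer (zpowers t : Set G), ?_, ?_, pCore_normalizer h hp2 hT hT1⟩
  · exact normalizer_ne_top (p := 2) (pCore_eq_bot_of_simple hab 2) hT hT1
  · intro x hx
    rw [mem_centralizer_singleton_iff] at hx
    rw [mem_normalizer_iff]
    have key : ∀ x : G, x * t = t * x → ∀ y ∈ zpowers t, x * y * x⁻¹ ∈ zpowers t := by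
      rintro x hx _ ⟨n, rfl⟩
      have h3 : x * t ^ n * x⁻¹ = t ^ n := by
        have h4 : Commute x t := hx
        rw [(h4.zpow_right n).eq, mul_inv_cancel_right]
      show x * t ^ n * x⁻¹ ∈ _
      rw [h3]
      exact ⟨n, rfl⟩
    intro y
    constructor
    · exact key x hx y
    · intro hy
      have h3 := key x⁻¹ (by
        have h4 : Commute x t := hx
        exact h4.inv_left.eq) _ hy
      have h5 : x⁻¹ * (x * y * x⁻¹) * x⁻¹⁻¹ = y := by group
      rwa [h5] at h3

/-- the row for `p² ∤ |G|` -/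
theorem row_of_not_sq [hs : IsSimpleGroup G] (hab : ¬ IsMulCommutative G) (h : IsCharacteristicTwoType G) (hp2 : p ≠ 2)
    (hcard : ¬ p ^ 2 ∣ Nat.card G) {s t : G} (hs2 : s * s = 1) (hs1 : s ≠ 1) (ht2 : t * t = 1) (ht1 : t ≠ 1)
    (hst : ¬ IsConj s t) : CRow p G := by
  intro C hC c hc
  by_contra hc1
  exact hst (hC.isConj_of_cyclic hs (pCore_eq_bot_of_simple hab p) hcard hc hc1
    (fun d hd hd1 => hC.odd_centralizer (cover hab h hp2) hd hd1) hs2 hs1 ht2 ht1)

end

end Cfsg.Agent.H417.CC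
end

-- part: H417/CC/JFour
section
/-!
# S3828: the fourth Janko group (helper417)
-/

set_option autoImplicit false

namespace Cfsg.Agent.H417.CC.JFour

open Subgroup Cfsg Cfsg.Agent.H162.CCR Cfsg.Agent.Lib.Cores Cfsg.Agent.J4Type Cfsg.Agent.H859

theorem card : Nat.card Spor.J4 = 86775571046077562880 := Cfsg.Agent.S1703.result.2

theorem simple : IsSimpleGroup Spor.J4 := Cfsg.Agent.S1703.result.1

theorem fin : Finite Spor.J4 := Nat.finite_of_card_ne_zero (by rw [card]; norm_num)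

theorem hab : ¬ IsMulCommutative Spor.J4 := by
  intro hm
  have := simple
  let _ : CommGroup Spor.J4 := { (inferInstance : Group Spor.J4) with mul_comm := hm.1.1 }
  have h1 : (Nat.card Spor.J4).Prime := IsSimpleGroup.prime_card
  rw [card] at h1
  norm_num at h1

/-- the primes dividing the order -/
theorem primes {p : ℕ} (hp : p.Prime) (h : p ∣ 86775571046077562880) : p = 2 ∨ p = 3 ∨ p = 5 ∨ p = 7 ∨ p = 11 ∨ p = 23 ∨
    p = 29 ∨ p = 31 ∨ p = 37 ∨ p = 43 := by
  have h1 : 86775571046077562880 = 2 ^ 21 * 3 ^ 3 * 5 * 7 * 11 ^ 3 * 23 * 29 * 31 * 37 * 43 := by norm_num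
  rw [h1] at h
  have key : ∀ {q k : ℕ}, q.Prime → p ∣ q ^ k → p = q := fun hq hd =>
    (Nat.prime_dvd_prime_iff_eq hp hq).1 (hp.dvd_of_dvd_pow hd)
  have key' : ∀ {q : ℕ}, q.Prime → p ∣ q → p = q := fun hq hd => (Nat.prime_dvd_prime_iff_eq hp hq).1 hd
  rcases (Nat.Prime.dvd_mul hp).1 h with h | h
  · rcases (Nat.Prime.dvd_mul hp).1 h with h | h
    · rcases (Nat.Prime.dvd_mul hp).1 h with h | h
      · rcases (Nat.Prime.dvd_mul hp).1 h with h | h
        · rcases (Nat.Prime.dvd_mul hp).1 h with h | h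
          · rcases (Nat.Prime.dvd_mul hp).1 h with h | h
            · rcases (Nat.Prime.dvd_mul hp).1 h with h | h
              · rcases (Nat.Prime.dvd_mul hp).1 h with h | h
                · rcases (Nat.Prime.dvd_mul hp).1 h with h | h
                  · have := key (by norm_num) h; omega
                  · have := key (by norm_num) h; omega
                · have := key' (by norm_num) h; omega
              · have := key' (by norm_num) h; omega
            · have := key (by norm_num) h; omega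
          · have := key' (by norm_num) h; omega
        · have := key' (by norm_num) h; omega
      · have := key' (by norm_num) h; omega
    · have := key' (by norm_num) h; omega
  · have := key' (by norm_num) h; omega

theorem not_sq {p : ℕ} (hp : p.Prime) (h2 : p ≠ 2) (h3 : p ≠ 3) (h11 : p ≠ 11) : ¬ p ^ 2 ∣ Nat.card Spor.J4 := by
  rw [card]
  intro h
  rcases primes hp ((Dvd.intro_left (p ^ 1) rfl : p ∣ p ^ 1 * p).trans (by rw [← pow_succ]; exact h)) with
    h1 | h1 | h1 | h1 | h1 | h1 | h1 | h1 | h1 | h1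
  · exact h2 h1
  · exact h3 h1
  · subst h1; norm_num at h
  · subst h1; norm_num at h
  · exact h11 h1
  · subst h1; norm_num at h
  · subst h1; norm_num at h
  · subst h1; norm_num at h
  · subst h1; norm_num at h
  · subst h1; norm_num at h

/-- the row -/
theorem row (p : ℕ) [hp : Fact p.Prime] : CRow p Spor.J4 := by
  have hfin := fin
  have hs := simple
  have hct : IsCharacteristicTwoType Spor.J4 := Cfsg.Agent.SevenCases.SporJ4.charTwo ⟨MulEquiv.refl _⟩
  obtain ⟨-, -, ⟨F'⟩⟩ := KFacts.J4.Base.exists_full (K := Cfsg.Spor.J4) ⟨MulEquiv.refl _⟩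
  let F := F'.C
  have hM : IsSimpleGroup Cfsg.M24 := Cfsg.Agent.S0365.result
  have hcM := Cfsg.Agent.SporadicA.M24Trans.card_M24
  have hMf : Finite Cfsg.M24 := Nat.finite_of_card_ne_zero (by rw [hcM]; norm_num)
  have hMab : ¬ IsMulCommutative Cfsg.M24 := by
    intro hm
    let _ : CommGroup Cfsg.M24 := { (inferInstance : Group Cfsg.M24) with mul_comm := hm.1.1 }
    have h1 : (Nat.card Cfsg.M24).Prime := IsSimpleGroup.prime_card
    rw [hcM] at h1
    norm_num at h1
  have hNE := Cfsg.Agent.H859.CentC.card_NE F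
  have hidx := (normalizer (F.E hex0 : Set Spor.J4)).card_mul_index
  rw [hNE, card] at hidx
  have hidx' : (normalizer (F.E hex0 : Set Spor.J4)).index = 173067389 := by omega
  have hNt : normalizer (F.E hex0 : Set Spor.J4) ≠ ⊤ := by
    intro h
    rw [h, index_top] at hidx'
    omega
  have hcore : ∀ x ∈ pCore p ↥(normalizer (F.E hex0 : Set Spor.J4)), x * x = 1 := by
    intro x hx
    have h1 := map_mem_pCore F.π F.π_surj hx
    rw [pCore_eq_bot_of_simple hMab p, mem_bot] at h1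
    have h2 := (F.E_elem hex0 FusionConj.isHex_hex0).1 _ ((F.π_ker x).1 h1)
    exact Subtype.ext h2
  by_cases h2 : p = 2
  · subst h2
    intro C hC
    exact hC.eq_one_of_two_exp (pCore_eq_bot_of_simple hab 2) hNt (by rw [hidx']; norm_num) hcore
  by_cases h3 : p = 3
  · subst h3
    intro C hC
    refine hC.eq_one_of_index hNt (by rw [hidx']; norm_num) ?_
    rw [eq_bot_iff]
    intro x hx
    exact eq_one_of_pow hx (m := 2) (by norm_num) (by rw [pow_two]; exact hcore x hx)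
  by_cases h11 : p = 11
  · subst h11
    intro C hC c hc
    by_contra hc1
    have hodd := hC.odd_centralizer (cover hab hct (by norm_num)) hc hc1
    obtain ⟨k, hk⟩ := hC.pel c hc
    obtain ⟨g, hg⟩ := SylEleven.exists_conj_mem SylEleven.isPGroup_U SylEleven.not_dvd_U (g := c)
      ⟨k, by rw [← hk]; exact pow_orderOf_eq_one c⟩
    have h4 := Heis.pow_p NU.rel (by norm_num) hg
    have h5 : c ^ 11 = 1 := by
      have h6 : (g * c * g⁻¹) ^ 11 = g * c ^ 11 * g⁻¹ := conj_pow
      rw [h6] at h4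
      simpa only [_root_.conj_eq_one_iff] using h4
    have h6 : orderOf c = 11 := orderOf_eq_prime h5 hc1
    obtain ⟨t, ht, hct'⟩ := Cfsg.Agent.H478.RadJ4.exists_invol h6
    have h7 : t ∈ centralizer ({c} : Set Spor.J4) := mem_centralizer_singleton_iff.2 hct'.symm
    have h8 : orderOf (⟨t, h7⟩ : centralizer ({c} : Set Spor.J4)) = 2 := by rw [← Subgroup.orderOf_coe]; exact ht
    have h9 : 2 ∣ Nat.card (centralizer ({c} : Set Spor.J4)) := h8 ▸ _root_.orderOf_dvd_natCard _
    rw [← Nat.not_even_iff_odd, even_iff_two_dvd] at hodd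
    exact hodd h9
  · obtain ⟨a, b, hab'⟩ : ∃ a b : GolayPt, a ≠ b := ⟨none, some 0, by simp⟩
    have hnc := F.duad_not_conj a b hab'
    have hcardab : Even ({a, b} : Finset GolayPt).card := by
      rw [Finset.card_pair hab']; exact ⟨1, rfl⟩
    have he2 := (F.E_elem hex0 FusionConj.isHex_hex0).1 _ (F.ε_mem {a, b} hcardab)
    have hz2 : F.z * F.z = 1 := by
      rw [← pow_two, ← F.z_order]; exact pow_orderOf_eq_one _
    have hz1 : F.z ≠ 1 := by
      intro h
      have h4 := F.z_order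
      rw [h, orderOf_one] at h4
      omega
    exact row_of_not_sq hab hct h2 (not_sq hp.out h2 h3 h11) hz2 hz1 he2
      (Cfsg.Agent.J4Type.DuadUniq.duad_ne_one F.toFrame hab') hnc

/-- **The fourth Janko group.** -/
theorem crow_j4 {G : Type*} [Group G] [Finite G] [IsSimpleGroup G] (h : Spor.IsoJ4 G) (p : ℕ) [Fact p.Prime] :
    CRow p G := by
  obtain ⟨e⟩ := h
  exact CRow.of_equiv e (row p)

end Cfsg.Agent.H417.CC.JFour
end

-- part: H341/CC/CoInv
section
/-!
# S3828, row of `Co1`, part 1 (helper341)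

`eq_one_of_inv` : a radical `p`-element (`p` odd) of `Co1` commuting with an involution is trivial (as helper813's
`false_of_inv`, but for elements of any order `p ^ k`).
-/

set_option autoImplicit false
set_option maxRecDepth 20000

namespace Cfsg.Agent.H341.CC.CoInv

open Subgroup Cfsg Cfsg.Agent.H459.Rad Cfsg.Agent.H459.Iface Cfsg.Agent.H839.Rad
open Cfsg.Agent.H813.RadCo1
open Cfsg.Agent.SporadicA.Co0Mono
open Cfsg.Agent.SporadicA.Co1Simple (allOne exists_sign_perm mem_N_iff)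
open Cfsg.Agent.SporadicA.GolayBase Cfsg.Agent.SporadicA.GolayPerm
open Cfsg.Agent.CoOneType.SignFacts (wt wt_add_allOne sign_allOne_comm)
open Cfsg.Agent.CoOneType.ClosingFacts (mk mk_mul mk_inv exists_mk mk_eq_one mk_eq)
open Cfsg.Agent.KFacts.Co1D4
open Cfsg.Agent.CTwoTab.Co1 (E Rep exists_rep conj_sign sign_mem)

/-- a 2-element and a `p`-element -/
theorem four {G : Type*} [Group G] {p : ℕ} {x : G} (hp : p.Prime) (hp2 : p ≠ 2) (hx : ∃ k, orderOf x = p ^ k)
    (h : (x * x) * (x * x) = 1) : x = 1 := by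
  have h1 : x ^ 4 = 1 := by
    rw [show (4 : ℕ) = 2 + 2 from rfl, pow_add, pow_two]; exact h
  obtain ⟨k, hk⟩ := hx
  have h2 : p ^ k ∣ 2 ^ 2 := hk ▸ orderOf_dvd_of_pow_eq_one h1
  rcases Nat.eq_zero_or_pos k with rfl | hk0
  · rwa [pow_zero, orderOf_eq_one_iff] at hk
  · exfalso
    have h3 : p ∣ 2 ^ 2 := (dvd_pow_self p hk0.ne').trans h2
    exact hp2 ((Nat.prime_dvd_prime_iff_eq hp Nat.prime_two).1 (hp.dvd_of_dvd_pow h3))

variable {p : ℕ} {x : Spor.Co1}

theorem octad (hp : p.Prime) (hp2 : p ≠ 2) (hx : ∃ k, orderOf x = p ^ k) (h : RC (MulAut.conj x)) {o : golayCode}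
    (ho : wt o = 8) (hxs : x * _root_.Cfsg.Agent.CoOneType.ClosingFacts.mk (signCo0 o) = _root_.Cfsg.Agent.CoOneType.ClosingFacts.mk (signCo0 o) * x) : x = 1 := by
  have hL := KFacts.Co1.InCo1.large ho
  obtain ⟨M, hM⟩ : ∃ M, M = centralizer ({_root_.Cfsg.Agent.CoOneType.ClosingFacts.mk (signCo0 o)} : Set Spor.Co1) := ⟨_, rfl⟩
  have hMt : M ≠ ⊤ := hM ▸ ne_top_of_mem hL.z_ne
  have hxM : x ∈ M := hM ▸ mem_centralizer_singleton_iff.2 hxs
  have hxr : x ∈ radIn M := by
    have h1 := mem_rad h hMt hxM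
    exact mem_radIn_coe.2 h1
  have hRM : KFacts.Co1.InCo1.RCo1 o ≤ M := fun r hr => hM ▸ mem_centralizer_singleton_iff.2 (hL.comm_z r hr)
  have hRc : ∀ g ∈ M, ∀ n ∈ KFacts.Co1.InCo1.RCo1 o, g * n * g⁻¹ ∈ KFacts.Co1.InCo1.RCo1 o := by
    intro g hg n hn
    rw [hM] at hg
    exact hL.conj_mem g (mem_centralizer_singleton_iff.1 hg) n hn
  have hsol : Group.IsSolvable ↥(KFacts.Co1.InCo1.RCo1 o) := by
    have : Fact (Nat.Prime 2) := ⟨Nat.prime_two⟩
    have h2 := CTwoTab.Co1.isPGroup_large hL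
    have := h2.isNilpotent
    infer_instance
  have hle : KFacts.Co1.InCo1.RCo1 o ≤ radIn M := le_radIn hRM hRc hsol
  rcases KFacts.Co1.CaseM.normal ho (radIn M) (hM ▸ radIn_le M) hle (by
    intro g hg n hn
    exact radIn_conj_mem (hM ▸ hg) hn) with h1 | h1
  · rw [h1] at hxr
    rcases hL.sq x hxr with h2 | h2
    · exact four hp hp2 hx (by rw [h2, one_mul])
    · exact four hp hp2 hx (by rw [h2]; exact hL.z_sq)
  · have hs : Group.IsSolvable M := by
      rw [hM, ← h1]
      exact radIn_solvable M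
    have hc : _root_.commutator ↥M = ⊤ := by rw [hM]; exact KFacts.Co1.InCo1.commutator_eq_top ho
    have h3 : Subsingleton ↥M := by
      by_contra hns
      rw [not_subsingleton_iff_nontrivial] at hns
      exact (Group.IsSolvable.commutator_lt_top_of_nontrivial ↥M).ne hc
    have h4 : (⟨x, hxM⟩ : M) = 1 := Subsingleton.elim _ _
    exact congrArg Subtype.val h4

theorem E_ne_bot_of {d : golayCode} (hd : wt d = 12) : E ≠ ⊥ := by
  intro hE
  have h1 : _root_.Cfsg.Agent.CoOneType.ClosingFacts.mk (signCo0 d) ∈ E := sign_mem d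
  rw [hE, mem_bot] at h1
  have h2 : _root_.Cfsg.Agent.CoOneType.ClosingFacts.mk (signCo0 d) = _root_.Cfsg.Agent.CoOneType.ClosingFacts.mk (signCo0 0) := by rw [h1, signCo0_zero]; rfl
  have h4 : wt 0 = 0 := by unfold wt; rw [Cfsg.Agent.CoOneType.CoOneE.sup_zero, Finset.card_empty]
  rcases DodBal.mk_sign_eq h2 with h3 | h3
  · rw [h3, h4] at hd
    omega
  · have h5 := wt_add_allOne 0
    rw [← h3, h4] at h5
    omega

/-- `Rad(2^11:M24) = 2^11` -/
theorem radIn_EN : radIn EN ≤ E := by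
  intro x hxr
  obtain ⟨a, σ, rfl⟩ := mem_EN.1 (radIn_le EN hxr)
  have hsol : Group.IsSolvable ↥E := by
    have : Fact (Nat.Prime 2) := ⟨Nat.prime_two⟩
    have := isPGroup_E.isNilpotent
    infer_instance
  have hle : E ≤ radIn EN := le_radIn E_le (fun g hg n hn => E_conj hg hn) hsol
  have hσ : pm σ ∈ radIn EN := by
    have h1 : _root_.Cfsg.Agent.CoOneType.ClosingFacts.mk (signCo0 a) * pm σ ∈ radIn EN := by rw [pm_apply, ← mk_mul]; exact hxr
    exact (mul_mem_cancel_left (hle (sign_mem a))).1 h1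
  have hs : IsSimpleGroup M24 := Cfsg.Agent.S0365.result
  have hn : ((radIn EN).comap pm).Normal := ⟨fun τ hτ ρ => by
    show pm (ρ * τ * ρ⁻¹) ∈ radIn EN
    rw [map_mul, map_mul, map_inv]
    exact radIn_conj_mem (mem_EN.2 ⟨0, ρ, by rw [signCo0_zero, one_mul]; rfl⟩) hτ⟩
  rcases hn.eq_bot_or_eq_top with h1 | h1
  · have h2 : σ ∈ (radIn EN).comap pm := hσ
    rw [h1, mem_bot] at h2
    subst h2
    rw [map_one, mul_one]
    exact sign_mem a
  · exfalso
    apply not_solvable_M24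
    have hr := radIn_solvable EN
    refine Group.isSolvable_of_isSolvable_injective (f := pm.codRestrict (radIn EN) fun τ => ?_) ?_
    · have : τ ∈ (radIn EN).comap pm := by rw [h1]; exact mem_top τ
      exact this
    · intro a b hab
      exact pm_inj (congrArg Subtype.val hab)

theorem dodecad (hp : p.Prime) (hp2 : p ≠ 2) (hx : ∃ k, orderOf x = p ^ k) (h : RC (MulAut.conj x)) {d : golayCode}
    (hd : wt d = 12) (hxs : x * _root_.Cfsg.Agent.CoOneType.ClosingFacts.mk (signCo0 d) = _root_.Cfsg.Agent.CoOneType.ClosingFacts.mk (signCo0 d) * x) : x = 1 := by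
  have hM := EN_ne (E_ne_bot_of hd)
  have hxM : x ∈ EN := by
    obtain ⟨g, rfl⟩ := exists_mk x
    obtain ⟨a, σ, rfl⟩ := exists_sign_perm (DodBal.mem_N hd hxs)
    exact mem_EN.2 ⟨a, σ, rfl⟩
  have hxr : x ∈ radIn EN := mem_radIn_coe.2 (mem_rad h hM hxM)
  exact four hp hp2 hx (by rw [E_sq (radIn_EN hxr), one_mul])

theorem twoB (hp : p.Prime) (hp2 : p ≠ 2) (hx : ∃ k, orderOf x = p ^ k) (h : RC (MulAut.conj x))
    (hxs : x * TwoB.w = TwoB.w * x) : x = 1 := by
  have S := Main.setup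
  have hLt : GTwo.L ≠ ⊤ := by
    intro h1
    have h2 := GTwo.card_L
    rw [h1, Subgroup.card_top, Cfsg.Agent.S0399.result.2] at h2
    norm_num at h2
  have h1 : ∀ l ∈ GTwo.L, x * l = l * x := by
    intro l hl
    have h2 := h.eq_of_quasisimple hLt (fun m hm => S.conj_L hxs hm) CTwoTab.Co1.quasisimple_L hl
    rw [MulAut.conj_apply, mul_inv_eq_iff_eq_mul] at h2
    exact h2
  have h2 : x * x = 1 := by
    rcases S.cent x hxs h1 with h3 | h3 | h3 | h3
    · rw [h3, one_mul]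
    · rw [h3]; exact S.ww
    · rw [h3]; exact S.vv
    · rw [h3, mul_assoc, ← mul_assoc TwoB.v, ← S.comm, mul_assoc, S.vv, mul_one, S.ww]
  exact four hp hp2 hx (by rw [h2, one_mul])

/-- **A radical `p`-element, `p` odd, commuting with an involution is trivial.** -/
theorem eq_one_of_inv (hp : p.Prime) (hp2 : p ≠ 2) (hx : ∃ k, orderOf x = p ^ k) (h : RC (MulAut.conj x)) {t : Spor.Co1}
    (ht : orderOf t = 2) (hxt : x * t = t * x) : x = 1 := by
  obtain ⟨g, s, hs, rfl⟩ := exists_rep t ht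
  have h1 : ∃ k, orderOf (g⁻¹ * x * g⁻¹⁻¹) = p ^ k := by
    obtain ⟨k, hk⟩ := hx
    exact ⟨k, by rw [← MulAut.conj_apply, MulEquiv.orderOf_eq, hk]⟩
  have h2 := rc_conj h g⁻¹
  have h3 : (g⁻¹ * x * g⁻¹⁻¹) * s = s * (g⁻¹ * x * g⁻¹⁻¹) := by
    calc (g⁻¹ * x * g⁻¹⁻¹) * s = g⁻¹ * (x * (g * s * g⁻¹)) * g := by group
      _ = g⁻¹ * ((g * s * g⁻¹) * x) * g := by rw [hxt]
      _ = s * (g⁻¹ * x * g⁻¹⁻¹) := by group
  have h4 : g⁻¹ * x * g⁻¹⁻¹ = 1 := by
    rcases hs with ⟨o, ho, rfl⟩ | ⟨d, hd, rfl⟩ | rfl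
    · exact octad hp hp2 h1 h2 ho h3
    · exact dodecad hp hp2 h1 h2 hd h3
    · exact twoB hp hp2 h1 h2 h3
  have h5 : x = g * (g⁻¹ * x * g⁻¹⁻¹) * g⁻¹ := by group
  rw [h5, h4]
  group

end Cfsg.Agent.H341.CC.CoInv
end

-- part: H341/CC/Co1
section
/-!
# S3828, row of `Co1` (helper341)
-/

set_option autoImplicit false
set_option maxRecDepth 20000

namespace Cfsg.Agent.H341.CC.Co1Row

open Subgroup Cfsg Cfsg.Agent.H162.CCR Cfsg.Agent.Lib.Cores Cfsg.Agent.H459.Rad Cfsg.Agent.H865.CC Cfsg.Agent.H341.CC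
open Cfsg.Agent.H341.CC.CoInv
open Cfsg.Agent.H813.RadCo1 (EN mem_EN E_le E_conj E_sq EN_ne)
open Cfsg.Agent.CTwoTab.Co1 (E)
open Cfsg.Agent.H235.AA.Tools (not_comm_of_card)
open Cfsg.Agent.SporadicA.Co0Mono
open Cfsg.Agent.KFacts.Co1D4

instance fin : Finite Spor.Co1 := Cfsg.Agent.H813.RadCo1.finite_co1

theorem card_co1 : Nat.card Spor.Co1 = 4157776806543360000 := Cfsg.Agent.S0399.result.2

theorem simple : IsSimpleGroup Spor.Co1 := Cfsg.Agent.S0399.result.1

theorem not_comm : ¬ IsMulCommutative Spor.Co1 := by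
  have := simple
  exact not_comm_of_card (by rw [card_co1]; norm_num)

theorem pcore (p : ℕ) [Fact p.Prime] : pCore p Spor.Co1 = ⊥ := by
  have := simple
  exact pCore_eq_bot_of_simple not_comm p

/-- elements of `C` commute with no involution -/
theorem eq_one {p : ℕ} [hp : Fact p.Prime] (hp2 : p ≠ 2) {C : Set Spor.Co1} (h : _root_.Cfsg.Agent.H162.CCR.Min p C) {c t : Spor.Co1} (hc : c ∈ C)
    (ht : orderOf t = 2) (hct : c * t = t * c) : c = 1 := by
  have := simple
  exact eq_one_of_inv hp.out hp2 (h.pel c hc) (rc_of_min h hc) ht hct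

/-! ### the monomial subgroup -/

theorem index_EN : EN.index ∣ 8292375 := by
  have h1 := Subgroup.index_map_dvd (H := Cfsg.Agent.SporadicA.Co1Simple.N) (f := QuotientGroup.mk' (center Co0))
    (QuotientGroup.mk'_surjective _)
  have h2 := (Cfsg.Agent.SporadicA.Co1Simple.N).card_mul_index
  rw [Cfsg.Agent.S0399.card_N, Cfsg.Agent.S0397.result] at h2
  have h3 : (Cfsg.Agent.SporadicA.Co1Simple.N).index = 8292375 := by omega
  rw [h3] at h1
  exact h1

/-- the order of an image -/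
theorem card_map_dvd' {G H : Type*} [Group G] [Group H] (f : G →* H) (K : Subgroup G) :
    Nat.card ↥(K.map f) ∣ Nat.card K := by
  have h := Subgroup.card_dvd_of_surjective (f.subgroupMap K) (f.subgroupMap_surjective K)
  exact h

theorem EN_ne_top : EN ≠ ⊤ := by
  intro h
  have h1 := card_map_dvd' (QuotientGroup.mk' (center Co0)) Cfsg.Agent.SporadicA.Co1Simple.N
  have h2 : (Cfsg.Agent.SporadicA.Co1Simple.N).map (QuotientGroup.mk' (center Co0)) = ⊤ := h
  rw [h2, Subgroup.card_top, Cfsg.Agent.S0399.card_N] at h1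
  have h3 : Nat.card Spor.Co1 ∣ 4096 * 244823040 := h1
  rw [card_co1] at h3
  exact absurd (Nat.le_of_dvd (by norm_num) h3) (by norm_num)

theorem pCore_EN {p : ℕ} [hp : Fact p.Prime] {x : EN} (hx : x ∈ pCore p EN) : (x : Spor.Co1) ∈ E := by
  have h1 : Group.IsNilpotent (pCore p EN) := (pCore_isPGroup p).isNilpotent
  have h2 : Group.IsSolvable (pCore p EN) := inferInstance
  exact radIn_EN (mem_radIn_coe.2 (le_rad inferInstance h2 hx))

theorem row_two : CRow 2 Spor.Co1 := by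
  have hF : Fact (Nat.Prime 2) := ⟨Nat.prime_two⟩
  intro C hC
  refine hC.eq_one_of_two_exp (pcore 2) EN_ne_top ?_ ?_
  · intro h
    have := h.trans index_EN
    norm_num at this
  · intro x hx
    exact Subtype.ext (E_sq (pCore_EN hx))

theorem row_EN {p : ℕ} [hp : Fact p.Prime] (hp2 : p ≠ 2) (hi : ¬ p ∣ 8292375) : CRow p Spor.Co1 := by
  intro C hC
  refine hC.eq_one_of_index EN_ne_top (fun h => hi (h.trans index_EN)) ?_
  rw [eq_bot_iff]
  intro x hx
  have h1 := E_sq (pCore_EN hx)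
  have h2 : x * x = 1 := Subtype.ext h1
  obtain ⟨k, hk⟩ := (pCore_isPGroup p (G := EN)) ⟨x, hx⟩
  have h3 : x ^ p ^ k = 1 := congrArg Subtype.val hk
  have h4 : orderOf x ∣ p ^ k := orderOf_dvd_of_pow_eq_one h3
  obtain ⟨j, -, hj⟩ := (Nat.dvd_prime_pow hp.out).1 h4
  exact four hp.out hp2 ⟨j, hj⟩ (by rw [h2, one_mul])

/-! ### order three -/

section Three

open Cfsg.Agent.LThreeCo1.Ev Cfsg.Agent.LThreeCo1.Class Cfsg.Agent.LThreeCo1.Rel Cfsg.Agent.LThreeCo1.AGrp
open Cfsg.Agent.LThreeCo1.Heis Cfsg.Agent.LThreeCo1.SylCls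
open Cfsg.Agent.CoOneType.ClosingFacts (mk_mul mk_inv exists_mk mk_eq_one mk_eq)

/-- the image in `Co1` -/
local notation "mc" => Cfsg.Agent.CoOneType.ClosingFacts.mk

/-- class two -/
theorem cube_of_comm {G : Type*} [Group G] {α n b : G} (hb : n * α * n⁻¹ = b * α) (hbα : b * α = α * b)
    (hbn : b * n = n * b) (hα : α ^ 3 = 1) (hn : n ^ 3 = 1) (hb3 : b ^ 3 = 1) : (α * n) ^ 3 = 1 := by
  have h1 : n * α = b * α * n := by rw [← hb]; group
  have h2 : (α * n) ^ 3 = b ^ 3 * (α ^ 3 * n ^ 3) := by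
    calc (α * n) ^ 3 = α * (n * α) * (n * α) * n := by
          rw [pow_succ, pow_two]; group
      _ = α * (b * α * n) * (b * α * n) * n := by rw [h1]
      _ = (α * b) * α * (n * b) * α * n * n := by group
      _ = (b * α) * α * (b * n) * α * n * n := by rw [hbα, hbn]
      _ = b * α * (α * b) * (n * α) * n * n := by group
      _ = b * α * (b * α) * (b * α * n) * n * n := by rw [← hbα, h1]
      _ = b * (α * b) * (α * b) * α * n * n * n := by group
      _ = b * (b * α) * (b * α) * α * n * n * n := by rw [hbα]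
      _ = b * b * (α * b) * α * α * n * n * n := by group
      _ = b * b * (b * α) * α * α * n * n * n := by rw [hbα]
      _ = b ^ 3 * (α ^ 3 * n ^ 3) := by rw [pow_succ, pow_two, pow_succ α, pow_two, pow_succ n, pow_two]; group
  rw [h2, hα, hn, hb3, one_mul, one_mul]

theorem pm3 : ∀ x : T3, Cfsg.Agent.LThreeCo1.Heis.pm (Cfsg.Agent.LThreeCo1.Heis.pm x x) x = (0, 0, 0) := by
  decide +kernel

theorem nn_cube (x : T3) : NN (e 7) (e 8) (e 9) x ^ 3 = 1 := by
  rw [pow_succ, pow_two, hR.NN_mul, hR.NN_mul, pm3, NN, N_zero]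

/-- the Sylow 3-subgroup of `Co1` -/
noncomputable def SS : Subgroup Spor.Co1 := (PP dat).map (QuotientGroup.mk' (center Co0))

theorem index_SS : ¬ 3 ∣ SS.index := by
  intro h
  have h1 := Subgroup.index_map_dvd (H := PP dat) (f := QuotientGroup.mk' (center Co0)) (QuotientGroup.mk'_surjective _)
  have h2 := (PP dat).card_mul_index
  rw [card_PP dat injI, Cfsg.Agent.S0397.result] at h2
  have h3 : (PP dat).index = 422473891840000 := by omega
  rw [h3] at h1
  have h4 := h.trans h1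
  norm_num at h4

theorem SS_ne_top : SS ≠ ⊤ := by
  intro h
  have h1 := card_map_dvd' (QuotientGroup.mk' (center Co0)) (PP dat)
  have h2 : (PP dat).map (QuotientGroup.mk' (center Co0)) = ⊤ := h
  rw [h2, Subgroup.card_top, card_PP dat injI] at h1
  have h3 : Nat.card Spor.Co1 ∣ 3 ^ 9 := h1
  rw [card_co1] at h3
  exact absurd (Nat.le_of_dvd (by norm_num) h3) (by norm_num)

/-- elements of abelian normal subgroups of the Sylow 3-subgroup have order three -/
theorem cube_of_abelian {A : Subgroup Spor.Co1} (hAS : A ≤ SS) (hn : SS ≤ normalizer (A : Set Spor.Co1))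
    (hc : ∀ x ∈ A, ∀ y ∈ A, x * y = y * x) {x : Spor.Co1} (hx : x ∈ A) : x ^ 3 = 1 := by
  obtain ⟨_, ⟨v, y, rfl⟩, hg⟩ := hAS hx
  obtain ⟨α, hα⟩ : ∃ α : Spor.Co1, α = mc (Ph a v) := ⟨_, rfl⟩
  obtain ⟨n, hn'⟩ : ∃ n : Spor.Co1, n = mc (NN (e 7) (e 8) (e 9) y) := ⟨_, rfl⟩
  have hxe : x = α * n := by
    rw [hα, hn', ← mk_mul]
    exact hg.symm
  have hnS : n ∈ SS := by
    rw [hn']
    exact ⟨_, ⟨0, y, by rw [Ph_zero, one_mul]⟩, rfl⟩
  obtain ⟨w, hw⟩ := dat.norm y v
  obtain ⟨b, hb⟩ : ∃ b : Spor.Co1, b = mc (Ph a (w - v)) := ⟨_, rfl⟩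
  have hbv : b * α = n * α * n⁻¹ := by
    rw [hb, hα, hn', ← mk_inv, ← mk_mul, ← mk_mul, ← mk_mul, hw, ← hA.add, sub_add_cancel]
  have hbα : b * α = α * b := by
    rw [hb, hα, ← mk_mul, ← mk_mul, hA.ph_comm]
  -- `b = [n, x] ∈ A`
  have hbA : b ∈ A := by
    have h1 : n * x * n⁻¹ ∈ A := (mem_normalizer_iff.1 (hn hnS) x).1 hx
    have h2 : b = n * x * n⁻¹ * x⁻¹ := by
      have h3 : b = n * α * n⁻¹ * α⁻¹ := by rw [← hbv]; group
      rw [h3, hxe]
      group
    rw [h2]
    exact A.mul_mem h1 (A.inv_mem hx)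
  have hbx := hc b hbA x hx
  have hbn : b * n = n * b := by
    have h1 : n = α⁻¹ * x := by rw [hxe]; group
    have h2 : b * α⁻¹ = α⁻¹ * b := by
      have h3 : Commute b α := hbα
      exact h3.inv_right.eq
    calc b * n = b * α⁻¹ * x := by rw [h1]; group
      _ = α⁻¹ * (b * x) := by rw [h2]; group
      _ = α⁻¹ * (x * b) := by rw [hbx]
      _ = n * b := by rw [h1]; group
  rw [hxe]
  have hcube : ∀ u : Cfsg.Agent.LThreeCo1.AGrp.V, (mc (Ph a u) : Spor.Co1) ^ 3 = 1 := by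
    intro u
    have h1 : mc (Ph a u ^ 3) = (1 : Spor.Co1) := by rw [hA.ph_cube]; rfl
    have h2 : (mc (Ph a u) : Spor.Co1) ^ 3 = mc (Ph a u ^ 3) := rfl
    rw [h2, h1]
  refine cube_of_comm hbv.symm hbα hbn (by rw [hα]; exact hcube v) ?_ (by rw [hb]; exact hcube _)
  rw [hn']
  have h1 : mc (NN (e 7) (e 8) (e 9) y ^ 3) = (1 : Spor.Co1) := by rw [nn_cube]; rfl
  have h2 : (mc (NN (e 7) (e 8) (e 9) y) : Spor.Co1) ^ 3 = mc (NN (e 7) (e 8) (e 9) y ^ 3) := rfl
  rw [h2, h1]

theorem row_three : CRow 3 Spor.Co1 := by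
  have hF : Fact (Nat.Prime 3) := ⟨Nat.prime_three⟩
  intro C hC c hc
  by_contra hc1
  obtain ⟨A, h1, h2, -, h3, x, hx, hx1, hxA⟩ := hC.exists_abelian (pcore 3) hc hc1 SS_ne_top index_SS
  have hx3 : orderOf x = 3 := orderOf_eq_prime (cube_of_abelian h1 h2 h3 hxA) hx1
  obtain ⟨t, ht, hxt⟩ := Cfsg.Agent.H177.AACo1.exists_inv_three hx3
  exact hx1 (eq_one (by norm_num) hC hx ht hxt)

end Three

/-! ### order five -/

theorem row_five : CRow 5 Spor.Co1 := by
  have hF : Fact (Nat.Prime 5) := ⟨Nat.prime_five⟩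
  intro C hC c hc
  by_contra hc1
  obtain ⟨k, hk⟩ := hC.pel c hc
  rcases k with _ | _ | k
  · rw [pow_zero, orderOf_eq_one_iff] at hk
    exact hc1 hk
  · obtain ⟨t, ht, hct⟩ := Cfsg.Agent.H813.RadCo1.exists_inv_five (x := c) (by rw [hk]; norm_num)
    exact hc1 (eq_one (by norm_num) hC hc ht hct)
  · refine Cfsg.Agent.H525.RO.CoTf.co1_no (s := c ^ 5 ^ k) ?_
    rw [orderOf_pow' _ (by positivity), hk]
    have : Nat.gcd (5 ^ (k + 1 + 1)) (5 ^ k) = 5 ^ k := Nat.gcd_eq_right (pow_dvd_pow 5 (by omega))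
    rw [this, show 5 ^ (k + 1 + 1) = 25 * 5 ^ k by ring]
    exact Nat.mul_div_cancel _ (by positivity)

/-! ### order seven -/

section Seven

open Cfsg.Agent.H813.CoSevenMain Cfsg.Agent.H839.Rad

theorem row_seven : CRow 7 Spor.Co1 := by
  have hp : Nat.Prime 7 := by norm_num
  have : Fact (Nat.Prime 7) := ⟨hp⟩
  have hsim := simple
  intro C hC x hx
  -- a conjugate commutes with `pp`
  obtain ⟨x', hx', hgx, hc⟩ : ∃ x' : Spor.Co1, x' ∈ C ∧ (x' = 1 → x = 1) ∧ x' * pp = pp * x' := by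
    have h1 : IsPGroup 7 ↥(zpowers x) := hC.isPGroup_zpowers hx
    have h2 : IsPGroup 7 ↥(zpowers pp) := IsPGroup.of_card (n := 1) (by rw [Nat.card_zpowers, order_pp, pow_one])
    obtain ⟨P, hP⟩ := h1.exists_le_sylow
    obtain ⟨P', hP'⟩ := h2.exists_le_sylow
    obtain ⟨g, hg⟩ := MulAction.exists_smul_eq Spor.Co1 P P'
    have h3 : g * x * g⁻¹ ∈ (P' : Subgroup Spor.Co1) := by
      rw [← hg, Sylow.coe_subgroup_smul]
      exact smul_mem_pointwise_smul x (MulAut.conj g) _ (hP (mem_zpowers x))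
    refine ⟨g * x * g⁻¹, hC.conj g x hx, fun h => by simpa only [_root_.conj_eq_one_iff] using h, ?_⟩
    have h4 : Nat.card ↥(P' : Subgroup Spor.Co1) ∣ 7 ^ 2 := by
      obtain ⟨n, hn⟩ := IsPGroup.iff_card.1 P'.isPGroup'
      have h5 : 7 ^ n ∣ Nat.card Spor.Co1 := hn ▸ card_subgroup_dvd_card _
      rw [Cfsg.Agent.S0399.result.2] at h5
      have h6 : n ≤ 2 := by
        by_contra h7
        have h8 : 7 ^ 3 ∣ 4157776806543360000 := (pow_dvd_pow 7 (by omega : 3 ≤ n)).trans h5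
        revert h8
        norm_num
      rw [hn]
      exact pow_dvd_pow 7 h6
    have h5 := Cfsg.Agent.H813.CoSevenCard.comm_of_le hp h4 ⟨_, h3⟩ ⟨pp, hP' (mem_zpowers pp)⟩
    exact congrArg Subtype.val h5
  -- it centralizes `BB`
  apply hgx
  have hBt : BB ≠ ⊤ := by
    intro h1
    have h2 := card_BB
    rw [h1, Subgroup.card_top, Cfsg.Agent.S0399.result.2] at h2
    norm_num at h2
  have hcm : ∀ m ∈ BB, MulAut.conj x' m ∈ BB := fun m hm =>
    Cfsg.Agent.H813.RadCo1.conj_mem_of_card BB_le BB_center (by rw [order_pp, card_BB]; exact card_cent_pp) hc hm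
  have hrad : solvableRadical ↥BB = ⊥ := by
    refine rad_eq_bot_of_simple fun h1 => BB_not_comm ⟨⟨IsSimpleGroup.comm_iff_isSolvable.2 h1⟩⟩
  obtain ⟨t, ht⟩ := exists_prime_orderOf_dvd_card' 2 (show 2 ∣ Nat.card ↥BB by rw [card_BB]; norm_num)
  have h2 := (rc_of_min hC hx').eq_of_rad_eq_bot hBt hcm hrad t.2
  rw [MulAut.conj_apply, mul_inv_eq_iff_eq_mul] at h2
  exact eq_one (by norm_num) hC hx' (t := t) (by rw [Subgroup.orderOf_coe, ht]) h2

end Seven

/-! ### order 13 -/

theorem row_thirteen : CRow 13 Spor.Co1 := by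
  have hp : Nat.Prime 13 := by norm_num
  have : Fact (Nat.Prime 13) := ⟨hp⟩
  intro C hC c hc
  have S := Main.setup
  have hi : ¬ 13 ∣ GTwo.L.index := by
    have h := GTwo.L.card_mul_index
    rw [GTwo.card_L, card_co1] at h
    intro h13
    omega
  obtain ⟨g, hg⟩ := hC.exists_conj_mem hi hc
  have h1 := eq_one (by norm_num) hC (hC.conj g c hc) (t := TwoB.w)
    (orderOf_eq_prime (by rw [pow_two]; exact S.ww) S.w1) (S.Lw _ hg)
  simpa only [_root_.conj_eq_one_iff] using h1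

/-- **All rows of `Co1`.** -/
theorem row (p : ℕ) [hp : Fact p.Prime] : CRow p Spor.Co1 := by
  by_cases hd : p ∣ Nat.card Spor.Co1
  · have h1 : p ∣ 2 ^ 21 * (3 ^ 9 * (5 ^ 4 * (7 ^ 2 * (11 * (13 * 23))))) := by
      rw [card_co1] at hd
      exact hd
    have key : ∀ {q : ℕ}, q.Prime → p ∣ q → p = q := fun hq h => (Nat.prime_dvd_prime_iff_eq hp.out hq).1 h
    rcases (Nat.Prime.dvd_mul hp.out).1 h1 with h2 | h2
    · obtain rfl := key Nat.prime_two (hp.out.dvd_of_dvd_pow h2)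
      exact row_two
    rcases (Nat.Prime.dvd_mul hp.out).1 h2 with h3 | h3
    · obtain rfl := key Nat.prime_three (hp.out.dvd_of_dvd_pow h3)
      exact row_three
    rcases (Nat.Prime.dvd_mul hp.out).1 h3 with h4 | h4
    · obtain rfl := key (by norm_num) (hp.out.dvd_of_dvd_pow h4)
      exact row_five
    rcases (Nat.Prime.dvd_mul hp.out).1 h4 with h5 | h5
    · obtain rfl := key (by norm_num) (hp.out.dvd_of_dvd_pow h5)
      exact row_seven
    rcases (Nat.Prime.dvd_mul hp.out).1 h5 with h6 | h6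
    · obtain rfl := key (by norm_num) h6
      exact row_EN (by norm_num) (by norm_num)
    rcases (Nat.Prime.dvd_mul hp.out).1 h6 with h7 | h7
    · obtain rfl := key (by norm_num) h7
      exact row_thirteen
    · obtain rfl := key (by norm_num) h7
      exact row_EN (by norm_num) (by norm_num)
  · exact crow_of_not_dvd hd

end Cfsg.Agent.H341.CC.Co1Row

namespace Cfsg.Agent.H341.CC

open Cfsg Cfsg.Agent.H162.CCR

/-- **The row of `Co1`.** -/
theorem crow_co1 {G : Type*} [Group G] (h : Spor.IsoCo1 G) (p : ℕ) [Fact p.Prime] : CRow p G := by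
  have e : G ≃* Spor.Co1 := h.some
  exact CRow.of_equiv e (Co1Row.row p)

end Cfsg.Agent.H341.CC
end

-- part: H341/CC/ON
section
/-!
# S3828, row of the O'Nan group (helper341)
-/

set_option autoImplicit false
set_option maxRecDepth 100000

namespace Cfsg.Agent.H341.CC.ONRow

open Subgroup Cfsg Cfsg.Agent.H162.CCR Cfsg.Agent.Lib.Cores Cfsg.Agent.H459.Rad Cfsg.Agent.H865.CC Cfsg.Agent.H341.CC
open Cfsg.Agent.H839.Rad (RadFree false_of_comm)
open Cfsg.Spor (ON)
open Cfsg.Spor.ON (Gen)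
open Cfsg.Agent.SporadicB.ON45Word (on)
open Cfsg.Agent.KFacts.MulSpor.ON (w)
open Cfsg.Agent.KFacts.ON.Words Cfsg.Agent.KFacts.ON.Struct Cfsg.Agent.KFacts.ON.Qs Cfsg.Agent.KFacts.ON.Estar
open Cfsg.Agent.ONType
open Cfsg.Agent.ONType.TupK (K0)
open Cfsg.Agent.ONType.TupT0 (T0)
open Cfsg.Agent.H235.AA.ON (card_ON simple not_comm)
open Cfsg.Agent.H460.AA Cfsg.Agent.H235.AA.Tools

instance fin : Finite ON := Cfsg.Agent.KFacts.ON.Cent.finite_ON

theorem pcore (p : ℕ) [Fact p.Prime] : pCore p ON = ⊥ := by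
  have := simple
  exact pCore_eq_bot_of_simple not_comm p

/-- a subgroup normalised by `g` one-sidedly -/
theorem mem_normalizer_of_conj {G : Type*} [Group G] [Finite G] {E : Subgroup G} {g : G}
    (h : ∀ e ∈ E, g * e * g⁻¹ ∈ E) : g ∈ normalizer (E : Set G) := by
  have h1 : E.map (MulAut.conj g).toMonoidHom ≤ E := by
    rintro _ ⟨x, hx, rfl⟩
    exact h x hx
  have h2 : E.map (MulAut.conj g).toMonoidHom = E := by
    apply Subgroup.eq_of_le_of_card_ge h1
    rw [Subgroup.card_map_of_injective (MulAut.conj g).injective]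
  rw [mem_normalizer_iff]
  intro x
  refine ⟨h x, fun hx => ?_⟩
  have h3 : g * x * g⁻¹ ∈ E.map (MulAut.conj g).toMonoidHom := by
    rw [h2]
    exact hx
  obtain ⟨y, hy, hyx⟩ := h3
  have h4 : g * y * g⁻¹ = g * x * g⁻¹ := hyx
  have h5 : y = x := by simpa only [_root_.mul_left_inj, _root_.mul_right_inj] using h4
  exact h5 ▸ hy

theorem cent_ne_top : centralizer ({on .f} : Set ON) ≠ ⊤ := by
  intro h
  have h1 : Nat.card ↥(centralizer ({on .f} : Set ON)) = 161280 := Cfsg.Agent.KFacts.ON.Cent.card_cent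
  rw [h, card_top, card_ON] at h1
  norm_num at h1

theorem row_two : CRow 2 ON := by
  have hF : Fact (Nat.Prime 2) := ⟨Nat.prime_two⟩
  have hsim := simple
  intro C hC
  obtain ⟨P, hP⟩ := Cfsg.Agent.KFacts.ON.OneClass.exists_sylow
  refine hC.eq_one_of_two (pcore 2) P (H := centralizer {on .f}) (K := normalizer (E : Set ON)) cent_ne_top ?_ ?_ ?_ ?_
  · intro h
    have h1 : E.Normal := normalizer_eq_top_iff.1 h
    rcases hsim.eq_bot_or_eq_top_of_normal E h1 with h2 | h2
    · have h3 : on .f ∈ E := fE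
      rw [h2, mem_bot] at h3
      exact f_ne_one h3
    · have h3 : Nat.card (TupS.S hs) = 512 := by
        rw [Cfsg.Agent.ONType.TupS.card_S hs Cfsg.Agent.KFacts.ON.Cent.card_K0]
      have h4 : E ≤ TupS.S hs := ESJ.trans inf_le_left
      rw [h2, top_le_iff] at h4
      rw [h4, card_top, card_ON] at h3
      norm_num at h3
  · intro t ht
    rw [hP] at ht
    exact mem_centralizer_singleton_iff.2 (mem_K0.1 (TupS.S_le hs ht))
  · intro t ht
    have h1 : (TupS.S hs).map (MulAut.conj t).toMonoidHom = TupS.S hs := by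
      rw [← hP]
      ext x
      constructor
      · rintro ⟨y, hy, rfl⟩
        exact P.mul_mem (P.mul_mem ht hy) (P.inv_mem ht)
      · intro hx
        exact ⟨t⁻¹ * x * t, P.mul_mem (P.mul_mem (P.inv_mem ht) hx) ht, by simp only [mul_assoc, _root_.MulEquiv.toMonoidHom_eq_coe, _root_.MonoidHom.coe_coe, _root_.MulAut.conj_apply, _root_.mul_inv_cancel_left, _root_.mul_inv_cancel, _root_.mul_one]⟩
    have h2 := Cfsg.Agent.H341.NxcON.inv_E (MulAut.conj t) h1
    apply mem_normalizer_of_conj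
    intro e he
    have h3 : MulAut.conj t e ∈ E.map (MulAut.conj t).toMonoidHom := ⟨e, he, rfl⟩
    rw [h2] at h3
    exact h3
  · rw [eq_top_iff, ← Cfsg.Agent.H341.NxcON.gen, closure_le]
    rintro x (hx | hx)
    · exact le_sup_left (a := centralizer ({on .f} : Set ON)) (mem_centralizer_singleton_iff.2 hx)
    · refine le_sup_right (a := centralizer ({on .f} : Set ON)) ?_
      rw [Set.mem_singleton_iff.1 hx]
      exact mem_normalizer_of_conj WaE

/-- the centralizer of the involution `f` -/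
theorem radFree_f {p : ℕ} (hp : p.Prime) (hp2 : p ≠ 2) : RadFree p ↥(centralizer ({on .f} : Set ON)) := by
  have hJle : J ≤ centralizer ({on .f} : Set ON) := by
    intro x hx
    exact mem_centralizer_singleton_iff.2 (mem_K0.1 (J_le hx))
  have hcC : Nat.card ↥(centralizer ({on .f} : Set ON)) = 161280 := Cfsg.Agent.KFacts.ON.Cent.card_cent
  have hn : (J.subgroupOf (centralizer ({on .f} : Set ON))).Normal := by
    constructor
    intro x hx g
    exact mem_subgroupOf.2 (J_normal (mem_K0.2 (mem_centralizer_singleton_iff.1 g.2)) (mem_subgroupOf.1 hx))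
  have hi : (J.subgroupOf (centralizer ({on .f} : Set ON))).index = 2 := by
    have h := (J.subgroupOf (centralizer ({on .f} : Set ON))).card_mul_index
    rw [Nat.card_congr (subgroupOfEquivOfLe hJle).toEquiv, card_J, hcC] at h
    omega
  refine RadFree.of_index hp (J.subgroupOf (centralizer ({on .f} : Set ON))) ?_
    (RadFree.congr hp (subgroupOfEquivOfLe hJle) ?_)
  · rw [hi]
    intro h
    exact hp2 ((Nat.prime_dvd_prime_iff_eq hp Nat.prime_two).1 h)
  -- `J` is quasisimple with centre in `⟨v⟩`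
  have hq : IsQuasisimple J := Cfsg.Agent.KFacts.ON.Qs.qs
  have h2 : IsSimpleGroup (J ⧸ center J) := hq.2
  have hns : ¬ Group.IsSolvable (J ⧸ center J) := by
    intro hs
    have h1 := IsSimpleGroup.comm_iff_isSolvable.2 hs
    have h3 : _root_.commutator J = ⊤ := hq.1.commutator_eq_top
    have h4 : _root_.commutator J ≤ center J := by
      rw [_root_.commutator_def, commutator_le]
      intro a _ b _
      rw [← QuotientGroup.eq_one_iff]
      have h5 := h1 (a : J ⧸ center J) (b : J ⧸ center J)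
      rw [← QuotientGroup.mk'_apply, map_commutatorElement, commutatorElement_eq_one_iff_mul_comm]
      exact h5
    rw [h3, top_le_iff] at h4
    have h6 : Subsingleton (J ⧸ center J) := by rw [h4]; exact QuotientGroup.subsingleton_quotient_top
    exact not_subsingleton (J ⧸ center J) h6
  refine RadFree.of_surj hp (QuotientGroup.mk' (center J)) (QuotientGroup.mk'_surjective _) ?_
    (.of_simple hp.one_lt.ne' hns)
  intro x hx ho
  have h3 : x ∈ center J := (QuotientGroup.eq_one_iff x).1 hx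
  have h4 : (x : ON) ∈ zpowers v := cent_J fun y hy => by
    have h5 := mem_center_iff.1 h3 ⟨y, hy⟩
    exact (congrArg Subtype.val h5).symm
  obtain ⟨k, hk⟩ := h4
  have hk' : v ^ k = (x : ON) := hk
  have hv4 : v ^ 4 = 1 := by
    have h5 : v ^ 2 = on .f := by rw [pow_two]; exact vv
    rw [show 4 = 2 * 2 by norm_num, pow_mul, h5, pow_two, ff]
  have h6 : (x : ON) ^ 4 = 1 := by
    rw [← hk', ← zpow_natCast, ← zpow_mul, mul_comm, zpow_mul, zpow_natCast, hv4, one_zpow]
  have h7 : orderOf (x : ON) ∣ 2 ^ 2 := orderOf_dvd_of_pow_eq_one h6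
  rw [Subgroup.orderOf_coe, ho] at h7
  exact hp2 ((Nat.prime_dvd_prime_iff_eq hp Nat.prime_two).1 (hp.dvd_of_dvd_pow h7))

/-- elements of `C` commute with no involution (`p` odd) -/
theorem eq_one_of_comm {p : ℕ} [hp : Fact p.Prime] (hp2 : p ≠ 2) {C : Set ON} (h : _root_.Cfsg.Agent.H162.CCR.Min p C) {c t : ON} (hc : c ∈ C)
    (ht1 : t ≠ 1) (ht2 : t * t = 1) (hct : c * t = t * c) : c = 1 := by
  have hfin := fin
  have h1 : IsConj t (on .f) := Cfsg.Agent.KFacts.ON.OneClass.one_class ht2 ht1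
  obtain ⟨g, hg⟩ := isConj_iff.1 h1
  have h2 : g * c * g⁻¹ ∈ centralizer ({on .f} : Set ON) := by
    rw [mem_centralizer_singleton_iff, ← hg]
    calc g * c * g⁻¹ * (g * t * g⁻¹) = g * (c * t) * g⁻¹ := by group
      _ = g * (t * c) * g⁻¹ := by rw [hct]
      _ = _ := by group
  have h3 := h.eq_one_of_mem cent_ne_top (pCore_eq_bot_of_radFree (radFree_f hp.out hp2)) (h.conj g c hc) h2
  simpa only [_root_.conj_eq_one_iff] using h3

theorem row_three : CRow 3 ON := by
  have hF : Fact (Nat.Prime 3) := ⟨Nat.prime_three⟩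
  have hfin := fin
  intro C hC c hc
  by_contra hc1
  -- exponent three
  have h3 : c ^ 3 = 1 := by
    obtain ⟨E, hE, -, hE3⟩ := Cfsg.Agent.CpAut.SporThree.ON.exists_E
    have hi : ¬ 3 ∣ E.index := by
      have h := E.card_mul_index
      rw [hE, card_ON] at h
      intro h3
      omega
    obtain ⟨g, hg⟩ := hC.exists_conj_mem hi hc
    have h4 := hE3 _ hg
    have h5 : (g * c * g⁻¹) ^ 3 = g * c ^ 3 * g⁻¹ := by rw [conj_pow]
    rw [h5] at h4
    simpa only [_root_.conj_eq_one_iff] using h4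
  have ho : orderOf c = 3 := orderOf_eq_prime h3 hc1
  obtain ⟨s, hs2, hsx⟩ := Cfsg.Agent.R04.ONThree.exists_inv Cfsg.Agent.KFacts.ON.Cent.hON c ho
  refine hc1 (eq_one_of_comm (by norm_num) hC hc (t := s) ?_ ?_ hsx.symm)
  · rintro rfl
    rw [orderOf_one] at hs2
    omega
  · rw [← pow_two, ← hs2, pow_orderOf_eq_one]

theorem row_five : CRow 5 ON := by
  have hF : Fact (Nat.Prime 5) := ⟨by norm_num⟩
  intro C hC
  refine hC.eq_one_of_index cent_ne_top ?_ (pCore_eq_bot_of_radFree (radFree_f hF.out (by norm_num)))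
  have h := (centralizer ({on .f} : Set ON)).card_mul_index
  have h1 : Nat.card ↥(centralizer ({on .f} : Set ON)) = 161280 := Cfsg.Agent.KFacts.ON.Cent.card_cent
  rw [h1, card_ON] at h
  omega

/-- the subgroup `L3(7)` -/
theorem exists_l37 : ∃ M : Subgroup ON, IsSimpleGroup M ∧ Nat.card M = 1876896 := by
  obtain ⟨N, -, hN, ⟨e⟩⟩ := Cfsg.Agent.S1693.result
  have hps : IsSimpleGroup (Matrix.ProjectiveSpecialLinearGroup (Fin 3) (ZMod 7)) := by
    have : Fact (Nat.Prime 7) := ⟨by norm_num⟩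
    exact Cfsg.Agent.S0249.result 3 le_rfl
  have hNs : IsSimpleGroup N := e.isSimpleGroup
  have hcH : Nat.card Cfsg.Agent.SporRec.ONAssembly.H = 3753792 :=
    Cfsg.Agent.SporRec.ONAssembly.card_H SporRec.ONLower.ab_ne_one
  have hcN : Nat.card N = 1876896 := by
    have h := N.card_mul_index
    rw [hN] at h
    have h' : Nat.card N * 2 = 3753792 := h.trans hcH
    omega
  let M : Subgroup ON := N.map (Cfsg.Agent.SporRec.ONAssembly.H).subtype
  let f : N ≃* M := N.equivMapOfInjective _ (Subgroup.subtype_injective _)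
  exact ⟨M, f.symm.isSimpleGroup, by rw [← Nat.card_congr f.toEquiv, hcN]⟩

theorem row_l37 {p : ℕ} [hp : Fact p.Prime] (h7 : ¬ p ∣ 245520) : CRow p ON := by
  obtain ⟨M, hMs, hcM⟩ := exists_l37
  have hidx : M.index = 245520 := by
    have h := M.card_mul_index
    rw [hcM, card_ON] at h
    omega
  intro C hC
  refine hC.eq_one_of_index (H := M) ?_ (by rwa [hidx]) ?_
  · intro h
    rw [h, index_top] at hidx
    omega
  · exact pCore_eq_bot_of_simple (not_comm_of_card (K := M) (by rw [hcM]; norm_num)) p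

theorem row_seven : CRow 7 ON := by
  have hF : Fact (Nat.Prime 7) := ⟨by norm_num⟩
  exact row_l37 (by norm_num)

theorem row_nineteen : CRow 19 ON := by
  have hF : Fact (Nat.Prime 19) := ⟨by norm_num⟩
  exact row_l37 (by norm_num)

theorem row_eleven : CRow 11 ON := by
  have hF : Fact (Nat.Prime 11) := ⟨by norm_num⟩
  obtain ⟨ι, hι⟩ := Cfsg.Agent.H474.ONC.exists_emb
  have hcJ : Nat.card Spor.J1 = 175560 := Cfsg.Agent.SporadicB.J1.Main.isJ1.2
  have hsJ : IsSimpleGroup Spor.J1 := Cfsg.Agent.SporadicB.J1.Main.isJ1.1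
  let f : Spor.J1 ≃* ι.range := ι.ofInjective hι
  have hMs : IsSimpleGroup ι.range := f.symm.isSimpleGroup
  have hcM : Nat.card ι.range = 175560 := by rw [← Nat.card_congr f.toEquiv, hcJ]
  have hidx : ι.range.index = 2624832 := by
    have h := ι.range.card_mul_index
    rw [hcM, card_ON] at h
    omega
  intro C hC
  refine hC.eq_one_of_index (H := ι.range) ?_ (by rw [hidx]; norm_num) ?_
  · intro h
    rw [h, index_top] at hidx
    omega
  · exact pCore_eq_bot_of_simple (not_comm_of_card (K := ι.range) (by rw [hcM]; norm_num)) 11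

theorem row_thirtyone : CRow 31 ON := by
  have hF : Fact (Nat.Prime 31) := ⟨by norm_num⟩
  have hfin := fin
  have hsim := simple
  intro C hC c hc
  by_contra hc1
  obtain ⟨e, he, he1, hte⟩ := hC.exists_inverted (pcore 31) hc hc1 (t := on .f) ff f_ne_one hsim
  obtain ⟨k, hk⟩ := hC.pel e he
  have hk1 : orderOf e = 31 := by
    have h1 : orderOf e ∣ 460815505920 := card_ON ▸ _root_.orderOf_dvd_natCard e
    rw [hk] at h1
    rcases k with _ | _ | k
    · rw [pow_zero, orderOf_eq_one_iff] at hk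
      exact absurd hk he1
    · rw [hk]
      norm_num
    · exfalso
      have h2 : 31 ^ 2 ∣ 460815505920 := (Nat.pow_dvd_pow 31 (by omega : 2 ≤ k + 2)).trans h1
      norm_num at h2
  obtain ⟨n, hn, hN⟩ := CpAutON.Gen.card_eq (G := ON) (p := 31) (by rw [card_ON]; norm_num) hk1
  have hr := Cfsg.Agent.H474.ONC.range_dvd hk1
  have hNc := CpAutON.Gen.card_normalizer e
  rw [Cfsg.Agent.H680.ONThirtyOne.card_cent hk1] at hNc
  rw [Cfsg.Agent.H680.ONThirtyOne.card_cent hk1, card_ON] at hN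
  have h2 : 2 ∣ Nat.card ↥(normalizer ((zpowers e : Subgroup ON) : Set ON)) := by
    have h3 : on .f ∈ normalizer ((zpowers e : Subgroup ON) : Set ON) := by
      apply mem_normalizer_of_conj
      rintro _ ⟨j, rfl⟩
      refine ⟨-j, ?_⟩
      show e ^ (-j) = on .f * e ^ j * (on .f)⁻¹
      rw [← conj_zpow, hte, inv_zpow, zpow_neg]
    have h4 : orderOf (on .f) = 2 := orderOf_eq_prime (by rw [pow_two]; exact ff) f_ne_one
    rw [← h4, ← Subgroup.orderOf_mk _ h3]
    exact _root_.orderOf_dvd_natCard _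
  rw [hNc] at h2
  generalize Nat.card ↥((zpowers e).normalizerMonoidHom).range = m at hr hN h2
  have hm : m ≤ 30 := Nat.le_of_dvd (by norm_num) hr
  interval_cases m <;> first | (revert hr; norm_num; done) | (revert h2; norm_num; done) | (clear * - hn hN; omega)

/-- **All rows of `ON`.** -/
theorem row (p : ℕ) [hp : Fact p.Prime] : CRow p ON := by
  by_cases hd : p ∣ Nat.card ON
  · have h1 : p ∣ 2 ^ 9 * (3 ^ 4 * (5 * (7 ^ 3 * (11 * (19 * 31))))) := by
      rw [card_ON] at hd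
      exact hd
    have key : ∀ {q : ℕ}, q.Prime → p ∣ q → p = q := fun hq h => (Nat.prime_dvd_prime_iff_eq hp.out hq).1 h
    rcases (Nat.Prime.dvd_mul hp.out).1 h1 with h2 | h2
    · obtain rfl := key Nat.prime_two (hp.out.dvd_of_dvd_pow h2)
      exact row_two
    rcases (Nat.Prime.dvd_mul hp.out).1 h2 with h3 | h3
    · obtain rfl := key Nat.prime_three (hp.out.dvd_of_dvd_pow h3)
      exact row_three
    rcases (Nat.Prime.dvd_mul hp.out).1 h3 with h4 | h4
    · obtain rfl := key (by norm_num) h4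
      exact row_five
    rcases (Nat.Prime.dvd_mul hp.out).1 h4 with h5 | h5
    · obtain rfl := key (by norm_num) (hp.out.dvd_of_dvd_pow h5)
      exact row_seven
    rcases (Nat.Prime.dvd_mul hp.out).1 h5 with h6 | h6
    · obtain rfl := key (by norm_num) h6
      exact row_eleven
    rcases (Nat.Prime.dvd_mul hp.out).1 h6 with h7 | h7
    · obtain rfl := key (by norm_num) h7
      exact row_nineteen
    · obtain rfl := key (by norm_num) h7
      exact row_thirtyone
  · exact crow_of_not_dvd hd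

end Cfsg.Agent.H341.CC.ONRow

namespace Cfsg.Agent.H341.CC

open Cfsg Cfsg.Agent.H162.CCR

/-- **The row of the O'Nan group.** -/
theorem crow_on {G : Type*} [Group G] [Finite G] (h : Spor.IsoON G) (p : ℕ) [Fact p.Prime] : CRow p G := by
  obtain ⟨e⟩ := h
  exact CRow.of_equiv e (ONRow.row p)

end Cfsg.Agent.H341.CC
end

private theorem dce_02eded923607 : _root_.True := by
  try have : _root_.True := by simp only [_root_.Cfsg.Agent.H829.S3828.BB.eq_1]
  try have : _root_.True := by simp only [_root_.Cfsg.Agent.H48.J3Three.q.eq_1]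
  exact _root_.True.intro
end

-- part: H201/CommAltB_mg
section
prune_inst 0x842026244a00000000000504400000144c0005900000080188000844000826420d00010000801108080a220800000028114400d0400000c004000400000005010088100420400008400006000104400000000000000000000000000000000004200000000
set_option linter.all false
open scoped Cfsg.Agent.FastGrp

-- part: H533/Comm/Red
section
/-!
# The reduction of S3828 to the rows `CRow p K`
-/

set_option autoImplicit false
set_option linter.unusedSectionVars false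
set_option linter.unusedVariables false

namespace Cfsg.Agent.H533.Comm

universe u

open Subgroup Cfsg

variable {G : Type u} [Group G] {p : ℕ} {C : Set G}

theorem CSet.image [Finite G] [hp : Fact p.Prime] (h : CSet p C) {H : Type u} [Group H]
    (φ : G →* H) (hφ : Function.Surjective φ) : CSet p (φ '' C) where
  conj := by
    rintro g _ ⟨c, hc, rfl⟩
    obtain ⟨x, rfl⟩ := hφ g
    exact ⟨x * c * x⁻¹, h.conj x c hc, by simp only [_root_.map_mul, _root_.map_inv]⟩
  pel := by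
    rintro _ ⟨c, hc, rfl⟩
    obtain ⟨k, hk⟩ := h.pel c hc
    have h1 : orderOf (φ c) ∣ p ^ k := by rw [← hk]; exact orderOf_map_dvd φ c
    obtain ⟨j, -, hj⟩ := (Nat.dvd_prime_pow hp.out).mp h1
    exact ⟨j, hj⟩
  comm := by
    rintro _ ⟨c, hc, rfl⟩ _ ⟨d, hd, rfl⟩
    exact ⟨c⁻¹ * d⁻¹ * c * d, h.comm c hc d hd, by simp only [_root_.map_mul, _root_.map_inv]⟩
  sq := by
    rintro h5 _ ⟨c, hc, rfl⟩
    exact ⟨c ^ 2, h.sq h5 c hc, by simp⟩

section finite

variable [Finite G] [hp : Fact p.Prime]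

end finite

end Cfsg.Agent.H533.Comm
end

-- part: H201/CommAlt
section
/-!
# Commutator closed normal sets of `p`-elements: the alternating groups (S3828)

`crow_alt` : for `n ≥ 5` the alternating group of degree `n` has no minimal configuration.
-/

set_option autoImplicit false

namespace Cfsg.Agent.H201.CommAlt

open Equiv Equiv.Perm Cfsg.Agent.H533.Comm MulAction

section perm

variable {α : Type*} [Fintype α] [DecidableEq α]

/-- For four points in a row of `C`, some conjugate of `C` by an even permutation differs from `C`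
by a three-cycle moving `a`, `C a`, `C³ a`. -/
theorem exists_even_sigma (C : Perm α) (a : α) (h1 : C a ≠ a) (h2 : C (C a) ≠ a) :
    ∃ σ ∈ alternatingGroup α,
      C⁻¹ * (σ * C * σ⁻¹) = swap (C a) a * swap (C a) (C (C (C a))) := by
  have e12 : C a ≠ C (C a) := fun h => h1 (C.injective h).symm
  have e13 : C a ≠ C (C (C a)) := fun h => h2 (C.injective h).symm
  have e23 : C (C a) ≠ C (C (C a)) := fun h => e12 (C.injective h)
  have key : ∀ x y : α, C⁻¹ * swap (C x) (C y) * C = swap x y := by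
    intro x y
    rw [mul_assoc, inv_mul_eq_iff_eq_mul, mul_swap_eq_swap_mul]
  have key' : ∀ σ : Perm α, C⁻¹ * (σ * C * σ⁻¹) = (C⁻¹ * σ * C) * σ⁻¹ := by
    intro σ; group
  refine ⟨swap (C a) (C (C a)) * swap (C (C a)) (C (C (C a))), ?_, ?_⟩
  · rw [mem_alternatingGroup, Perm.sign_mul, sign_swap e12, sign_swap e23]; rfl
  · rw [key', mul_inv_rev, swap_inv, swap_inv]
    have h4 : C⁻¹ * (swap (C a) (C (C a)) * swap (C (C a)) (C (C (C a)))) * C
        = swap a (C a) * swap (C a) (C (C a)) := by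
      rw [← key a (C a), ← key (C a) (C (C a))]; group
    rw [h4, swap_comm a (C a), mul_assoc]
    congr 1
    rw [← mul_assoc, swap_comm (C (C a)) (C (C (C a))), swap_comm (C a) (C (C a)),
      swap_comm (C a) (C (C (C a)))]
    rw [swap_comm (C (C a)) (C a)]
    have := swap_mul_swap_mul_swap (x := C (C (C a))) (y := C (C a)) (z := C a) e23.symm
      e13.symm
    rw [swap_comm (C (C a)) (C a)] at this
    rw [this, swap_comm]

/-- The commutator of `C` and a conjugate, for four points in a row. -/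
theorem exists_commutator (C : Perm α) (a : α) (h1 : C a ≠ a) (h2 : C (C a) ≠ a)
    (h3 : C (C (C a)) ≠ a) :
    ∃ σ ∈ alternatingGroup α,
      C⁻¹ * (σ * C * σ⁻¹)⁻¹ * C * (σ * C * σ⁻¹) ≠ 1 ∧
      ∀ x, x ≠ C⁻¹ a → x ≠ a → x ≠ C a → x ≠ C (C a) → x ≠ C (C (C a)) →
        (C⁻¹ * (σ * C * σ⁻¹)⁻¹ * C * (σ * C * σ⁻¹)) x = x := by
  have e12 : C a ≠ C (C a) := fun h => h1 (C.injective h).symm
  have e13 : C a ≠ C (C (C a)) := fun h => h2 (C.injective h).symm
  have e23 : C (C a) ≠ C (C (C a)) := fun h => e12 (C.injective h)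
  obtain ⟨σ, hσ, ht⟩ := exists_even_sigma C a h1 h2
  refine ⟨σ, hσ, ?_⟩
  set t := swap (C a) a * swap (C a) (C (C (C a))) with htdef
  have hd : σ * C * σ⁻¹ = C * t := by rw [← ht]; group
  have he : C⁻¹ * (σ * C * σ⁻¹)⁻¹ * C * (σ * C * σ⁻¹) = C⁻¹ * t⁻¹ * C * t := by
    rw [hd]; group
  rw [he]
  constructor
  · intro h
    -- `C t = t C` : compare at `C a`
    have h4 : C * t = t * C := by
      have : t * C = t * C * (C⁻¹ * t⁻¹ * C * t) := by rw [h, mul_one]
      rw [this]; group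
    have h5 := congrArg (fun f : Perm α => f (C a)) h4
    simp only [Perm.mul_apply] at h5
    have h6 : t (C a) = C (C (C a)) := by
      rw [htdef, Perm.mul_apply, swap_apply_left, swap_apply_of_ne_of_ne e13.symm h3]
    have h7 : t (C (C a)) = C (C a) := by
      rw [htdef, Perm.mul_apply, swap_apply_of_ne_of_ne e12.symm e23,
        swap_apply_of_ne_of_ne e12.symm h2]
    rw [h6, h7] at h5
    have h8 := C.injective (C.injective h5)
    exact h2 h8
  · intro x hx1 hx2 hx3 hx4 hx5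
    have h4 : t x = x := by
      rw [htdef, Perm.mul_apply, swap_apply_of_ne_of_ne hx3 hx5, swap_apply_of_ne_of_ne hx3 hx2]
    have q1 : C x ≠ C a := fun h => hx2 (C.injective h)
    have q2 : C x ≠ C (C (C a)) := fun h => hx4 (C.injective h)
    have q3 : C x ≠ a := by
      intro h; apply hx1; rw [← h]; simp
    have h5 : t⁻¹ (C x) = C x := by
      rw [Perm.inv_eq_iff_eq, htdef, Perm.mul_apply, swap_apply_of_ne_of_ne q1 q2,
        swap_apply_of_ne_of_ne q1 q3]
    simp only [Perm.mul_apply]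
    rw [h4, h5]
    simp

end perm

section stab

variable {n : ℕ}

/-- Point stabilisers of the alternating group. -/
theorem exists_stab_equiv (a : Fin n) :
    Nonempty (stabilizer (alternatingGroup (Fin n)) a ≃* alternatingGroup {x : Fin n // x ≠ a}) := by
  have hmem : ∀ (t : stabilizer (alternatingGroup (Fin n)) a) (x : Fin n),
      ((t : alternatingGroup (Fin n)) : Perm (Fin n)) x ≠ a ↔ x ≠ a := by
    intro t x
    rw [not_iff_not]
    have h1 : ((t : alternatingGroup (Fin n)) : Perm (Fin n)) a = a := t.2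
    constructor
    · intro h
      exact ((t : alternatingGroup (Fin n)) : Perm (Fin n)).injective (h.trans h1.symm)
    · rintro rfl
      exact h1
  have hsign : ∀ t : stabilizer (alternatingGroup (Fin n)) a,
      Perm.sign (Perm.subtypePerm (p := fun x : Fin n => x ≠ a)
        ((t : alternatingGroup (Fin n)) : Perm (Fin n)) (hmem t)) = 1 := by
    intro t
    have h0 : ∀ x, ((t : alternatingGroup (Fin n)) : Perm (Fin n)) x ≠ x → x ≠ a := by
      rintro x hx rfl
      exact hx t.2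
    rw [Perm.sign_subtypePerm _ (hmem t) h0]
    exact Perm.mem_alternatingGroup.1 (t : alternatingGroup (Fin n)).2
  let f : stabilizer (alternatingGroup (Fin n)) a →* alternatingGroup {x : Fin n // x ≠ a} :=
    { toFun := fun t => ⟨Perm.subtypePerm (p := fun x : Fin n => x ≠ a)
        ((t : alternatingGroup (Fin n)) : Perm (Fin n)) (hmem t),
        Perm.mem_alternatingGroup.2 (hsign t)⟩
      map_one' := by
        apply Subtype.ext
        ext x
        rfl
      map_mul' := fun s t => by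
        apply Subtype.ext
        ext x
        rfl }
  have hf : ∀ (t : stabilizer (alternatingGroup (Fin n)) a) (x : {x : Fin n // x ≠ a}),
      (((f t : alternatingGroup {x : Fin n // x ≠ a}) : Perm {x : Fin n // x ≠ a}) x : Fin n)
        = ((t : alternatingGroup (Fin n)) : Perm (Fin n)) (x : Fin n) :=
    fun _ _ => rfl
  have hbij : Function.Bijective f := by
    constructor
    · intro s t hst
      apply Subtype.ext
      apply Subtype.ext
      ext x
      by_cases hx : x = a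
      · rw [hx]
        exact congrArg _ (s.2.trans t.2.symm)
      · have h1 := hf s ⟨x, hx⟩
        rw [hst, hf t ⟨x, hx⟩] at h1
        exact congrArg _ h1.symm
    · intro σ
      have h1 : Perm.ofSubtype (σ : Perm {x : Fin n // x ≠ a}) ∈ alternatingGroup (Fin n) := by
        rw [Perm.mem_alternatingGroup, Perm.sign_ofSubtype]
        exact Perm.mem_alternatingGroup.1 σ.2
      refine ⟨⟨⟨_, h1⟩, ?_⟩, ?_⟩
      · exact Perm.ofSubtype_apply_of_not_mem _ (fun h => h rfl)
      · apply Subtype.ext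
        ext x
        rw [hf]
        exact congrArg _ (Perm.ofSubtype_apply_coe _ x)
  exact ⟨MulEquiv.ofBijective f hbij⟩

theorem pCore_stab (hn : 6 ≤ n) (a : Fin n) {p : ℕ} [Fact p.Prime] :
    Cfsg.pCore p (stabilizer (alternatingGroup (Fin n)) a) = ⊥ := by
  obtain ⟨e⟩ := exists_stab_equiv a
  have hcard : Nat.card {x : Fin n // x ≠ a} = n - 1 := by
    rw [Nat.card_eq_fintype_card, Fintype.card_subtype_compl, Fintype.card_subtype_eq,
      Fintype.card_fin]
  have hs : IsSimpleGroup (alternatingGroup {x : Fin n // x ≠ a}) :=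
    alternatingGroup.isSimpleGroup (by omega)
  have hs' : IsSimpleGroup (stabilizer (alternatingGroup (Fin n)) a) := by
    have : Nontrivial (stabilizer (alternatingGroup (Fin n)) a) := e.symm.injective.nontrivial
    exact IsSimpleGroup.isSimpleGroup_of_surjective e.symm.toMonoidHom e.symm.surjective
  have hp := Cfsg.Agent.Lib.Cores.pCore_isPGroup (G := stabilizer (alternatingGroup (Fin n)) a) p
  have hnm := Cfsg.Agent.Lib.Cores.pCore_normal (G := stabilizer (alternatingGroup (Fin n)) a) p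
  rcases hnm.eq_bot_or_eq_top with h | h
  · exact h
  · exfalso
    rw [h] at hp
    have h1 : IsPGroup p (stabilizer (alternatingGroup (Fin n)) a) :=
      hp.of_equiv Subgroup.topEquiv
    have h2 : IsPGroup p (alternatingGroup {x : Fin n // x ≠ a}) := h1.of_equiv e
    have h3 : Nontrivial (Subgroup.center (alternatingGroup {x : Fin n // x ≠ a})) :=
      h2.center_nontrivial
    rw [alternatingGroup.center_eq_bot (by omega)] at h3
    exact (not_subsingleton_iff_nontrivial.mpr h3) inferInstance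

theorem stab_ne_top (hn : 3 ≤ n) (a : Fin n) :
    stabilizer (alternatingGroup (Fin n)) a ≠ ⊤ := by
  intro h
  -- a three-cycle moving `a`
  obtain ⟨b, hb⟩ : ∃ b : Fin n, b ≠ a := by
    have : Nontrivial (Fin n) := Fin.nontrivial_iff_two_le.2 (by omega)
    exact exists_ne a
  obtain ⟨c, hca, hcb⟩ : ∃ c : Fin n, c ≠ a ∧ c ≠ b := by
    by_contra hcon
    push Not at hcon
    have h1 : (Finset.univ : Finset (Fin n)) ⊆ {a, b} := by
      intro x _
      by_cases hx : x = a
      · simp [hx]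
      · simp [hcon x hx]
    have h2 := Finset.card_le_card h1
    rw [Finset.card_univ, Fintype.card_fin] at h2
    have h3 := Finset.card_le_two (a := a) (b := b)
    omega
  have h1 : swap a b * swap a c ∈ alternatingGroup (Fin n) := by
    rw [mem_alternatingGroup, Perm.sign_mul, sign_swap hb.symm, sign_swap hca.symm]; rfl
  have h2 : (⟨_, h1⟩ : alternatingGroup (Fin n)) ∈ stabilizer (alternatingGroup (Fin n)) a := by
    rw [h]; exact Subgroup.mem_top _
  have h3 : (swap a b * swap a c) a = a := h2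
  rw [Perm.mul_apply, swap_apply_left, swap_apply_of_ne_of_ne hca hcb] at h3
  exact hca h3

/-- Nontrivial elements of `C` have no fixed points. -/
theorem nofix (hn : 6 ≤ n) {p : ℕ} [Fact p.Prime] {C : Set (alternatingGroup (Fin n))}
    (h : Iso p (alternatingGroup (Fin n)) C) {c : alternatingGroup (Fin n)} (hc : c ∈ C)
    {a : Fin n} (ha : (c : Perm (Fin n)) a = a) : c = 1 :=
  have : IsSimpleGroup (alternatingGroup (Fin n)) :=
    alternatingGroup.isSimpleGroup (by simpa only [_root_.Nat.card_eq_fintype_card, _root_.Fintype.card_fin] using (by omega : 5 ≤ n))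
  h.core_kill (stab_ne_top (by omega) a) (pCore_stab hn a) hc ha

end stab

section embed

variable {n : ℕ}

/-- `x` acts on the points `ι i` as `x₀` on the `i`. -/
def Ext {m : ℕ} (ι : Fin m ↪ Fin n) (x : Perm (Fin n)) (x₀ : Perm (Fin m)) : Prop :=
  ∀ i, x (ι i) = ι (x₀ i)

theorem Ext.mul {m : ℕ} {ι : Fin m ↪ Fin n} {x y : Perm (Fin n)} {x₀ y₀ : Perm (Fin m)}
    (hx : Ext ι x x₀) (hy : Ext ι y y₀) : Ext ι (x * y) (x₀ * y₀) := by
  intro i
  rw [Perm.mul_apply, Perm.mul_apply, hy, hx]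

theorem Ext.inv {m : ℕ} {ι : Fin m ↪ Fin n} {x : Perm (Fin n)} {x₀ : Perm (Fin m)}
    (hx : Ext ι x x₀) : Ext ι x⁻¹ x₀⁻¹ := by
  intro i
  rw [Perm.inv_eq_iff_eq, hx]
  simp

theorem Ext.pow {m : ℕ} {ι : Fin m ↪ Fin n} {x : Perm (Fin n)} {x₀ : Perm (Fin m)}
    (hx : Ext ι x x₀) (k : ℕ) : Ext ι (x ^ k) (x₀ ^ k) := by
  induction k with
  | zero => intro i; simp only [_root_.pow_zero, _root_.Equiv.Perm.coe_one, _root_.id_eq]
  | succ k ih => rw [pow_succ, pow_succ]; exact ih.mul hx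

/-- Words in `c` and a conjugate computed on a few points. -/
theorem word_embed {m : ℕ} {C : Set (alternatingGroup (Fin n))} {p : ℕ} [Fact p.Prime]
    (h : CSet p C) {c c' : alternatingGroup (Fin n)} (hc : c ∈ C) (hc' : c' ∈ C)
    (ι : Fin m ↪ Fin n) (c₀ c₀' g₀ : Perm (Fin m)) (hg₀ : sign g₀ = 1)
    (h1 : Ext ι c c₀) (h2 : Ext ι c' c₀') :
    ∃ e ∈ C, Ext ι e (c₀⁻¹ * (g₀ * c₀' * g₀⁻¹)⁻¹ * c₀ * (g₀ * c₀' * g₀⁻¹)) ∧
      ∃ k : ℕ, (c₀⁻¹ * (g₀ * c₀' * g₀⁻¹)⁻¹ * c₀ * (g₀ * c₀' * g₀⁻¹)) ^ p ^ k = 1 := by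
  set g : Perm (Fin n) := g₀.viaFintypeEmbedding ι with hg
  have hgs : g ∈ alternatingGroup (Fin n) := by
    rw [mem_alternatingGroup, hg, Perm.viaFintypeEmbedding_sign, hg₀]
  have hge : Ext ι g g₀ := fun i => Perm.viaFintypeEmbedding_apply_image g₀ ι i
  set G : alternatingGroup (Fin n) := ⟨g, hgs⟩ with hG
  have he := h.comm c hc _ (h.conj G c' hc')
  have hext : Ext ι ((c⁻¹ * (G * c' * G⁻¹)⁻¹ * c * (G * c' * G⁻¹) : alternatingGroup (Fin n)) :
      Perm (Fin n)) (c₀⁻¹ * (g₀ * c₀' * g₀⁻¹)⁻¹ * c₀ * (g₀ * c₀' * g₀⁻¹)) :=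
    ((h1.inv.mul ((hge.mul h2).mul hge.inv).inv).mul h1).mul ((hge.mul h2).mul hge.inv)
  refine ⟨_, he, hext, ?_⟩
  obtain ⟨k, hk⟩ := h.pel _ he
  refine ⟨k, ?_⟩
  have h3 := hext.pow (p ^ k)
  have h4 : ((c⁻¹ * (G * c' * G⁻¹)⁻¹ * c * (G * c' * G⁻¹) : alternatingGroup (Fin n)) :
      Perm (Fin n)) ^ p ^ k = 1 := by
    rw [← SubmonoidClass.coe_pow, ← hk, pow_orderOf_eq_one]
    rfl
  rw [h4] at h3
  ext i
  exact congrArg _ (ι.injective (h3 i)).symm

theorem pow_ne_one_aux {G : Type*} [Group G] {x : G} {p q k : ℕ} (hp : p.Prime) (hq : q.Prime)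
    (hpq : q ≠ p) (hx : x ≠ 1) (hxq : x ^ q = 1) : x ^ p ^ k ≠ 1 := by
  intro h
  apply hx
  have h1 : orderOf x ∣ q := orderOf_dvd_of_pow_eq_one hxq
  have h2 : orderOf x ∣ p ^ k := orderOf_dvd_of_pow_eq_one h
  have h3 : (p ^ k).Coprime q := Nat.Coprime.pow_left k ((Nat.coprime_primes hp hq).mpr hpq.symm)
  have h4 := Nat.eq_one_of_dvd_coprimes h3 h2 h1
  exact orderOf_eq_one_iff.mp h4

set_option maxRecDepth 20000 in
/-- Two cycles of length three. -/
theorem no_two_three {C : Set (alternatingGroup (Fin n))} (h : CSet 3 C)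
    {c : alternatingGroup (Fin n)} (hc : c ∈ C) (hc3 : c ^ 3 = 1)
    {a b : Fin n} (ha : (c : Perm (Fin n)) a ≠ a) (hb : (c : Perm (Fin n)) b ≠ b)
    (hab : b ≠ a) (hab1 : b ≠ (c : Perm (Fin n)) a)
    (hab2 : b ≠ (c : Perm (Fin n)) ((c : Perm (Fin n)) a)) : False := by
  have : Fact (Nat.Prime 3) := ⟨Nat.prime_three⟩
  obtain ⟨c, hcs⟩ := c
  change c a ≠ a at ha
  change c b ≠ b at hb
  change b ≠ c a at hab1
  change b ≠ c (c a) at hab2
  have hccc : ∀ x, c (c (c x)) = x := by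
    intro x
    have h1 := congrArg (fun f : alternatingGroup (Fin n) => (f : Perm (Fin n)) x) hc3
    simpa only [pow_succ, _root_.pow_zero, _root_.one_mul, _root_.MulMemClass.mk_mul_mk, _root_.Equiv.Perm.coe_mul, _root_.Function.comp_apply, _root_.OneMemClass.coe_one, _root_.Equiv.Perm.coe_one, _root_.id_eq] using h1
  have ha2 : c (c a) ≠ a := by
    intro h1
    apply ha
    have h2 := hccc a
    rw [h1] at h2
    exact h2
  have hb2 : c (c b) ≠ b := by
    intro h1
    apply hb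
    have h2 := hccc b
    rw [h1] at h2
    exact h2
  have ha3 : c a ≠ c (c a) := fun h1 => ha (c.injective h1).symm
  have hb3 : c b ≠ c (c b) := fun h1 => hb (c.injective h1).symm
  have e1 : a ≠ c b := fun h1 => hab2 (by rw [h1, hccc])
  have e2 : a ≠ c (c b) := fun h1 => hab1 (by rw [h1, hccc])
  have e3 : c a ≠ c b := fun h1 => hab (c.injective h1).symm
  have e4 : c a ≠ c (c b) := fun h1 => e1 (c.injective h1)
  have e5 : c (c a) ≠ c b := fun h1 => hab1 (c.injective h1).symm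
  have e6 : c (c a) ≠ c (c b) := fun h1 => e3 (c.injective h1)
  let ι : Fin 6 ↪ Fin n := ⟨![a, c a, c (c a), b, c b, c (c b)], by
    intro i j hij
    fin_cases i <;> fin_cases j <;> [(rfl); (exact absurd hij.symm ha); (exact absurd hij.symm ha2); (exact absurd hij.symm hab); (exact absurd hij e1); (exact absurd hij e2);
                                     (exact absurd hij ha); (rfl); (exact absurd hij ha3); (exact absurd hij.symm hab1); (exact absurd hij e3); (exact absurd hij e4);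
                                     (exact absurd hij ha2); (exact absurd hij.symm ha3); (rfl); (exact absurd hij.symm hab2); (exact absurd hij e5); (exact absurd hij e6);
                                     (exact absurd hij hab); (exact absurd hij hab1); (exact absurd hij hab2); (rfl); (exact absurd hij.symm hb); (exact absurd hij.symm hb2);
                                     (exact absurd hij.symm e1); (exact absurd hij.symm e3); (exact absurd hij.symm e5); (exact absurd hij hb); (rfl); (exact absurd hij hb3);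
                                     (exact absurd hij.symm e2); (exact absurd hij.symm e4); (exact absurd hij.symm e6); (exact absurd hij hb2); (exact absurd hij.symm hb3); (rfl)]⟩
  obtain ⟨e, -, -, k, hk⟩ := word_embed h hc hc ι
    (swap 0 1 * swap 1 2 * (swap 3 4 * swap 4 5)) (swap 0 1 * swap 1 2 * (swap 3 4 * swap 4 5))
    (swap 1 3 * swap 2 4) (by decide) (by
      intro i
      change c (ι i) = _
      fin_cases i
      · rfl
      · rfl
      · exact hccc a
      · rfl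
      · rfl
      · exact hccc b) (by
      intro i
      change c (ι i) = _
      fin_cases i
      · rfl
      · rfl
      · exact hccc a
      · rfl
      · rfl
      · exact hccc b)
  exact pow_ne_one_aux (q := 2) Nat.prime_three Nat.prime_two (by norm_num)
    (by decide) (by decide +kernel) hk

set_option maxRecDepth 20000 in
/-- A cycle of length three and a fixed point. -/
theorem no_three_fix {C : Set (alternatingGroup (Fin n))} (h : CSet 3 C)
    {c : alternatingGroup (Fin n)} (hc : c ∈ C) (hc3 : c ^ 3 = 1)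
    {a b : Fin n} (ha : (c : Perm (Fin n)) a ≠ a) (hb : (c : Perm (Fin n)) b = b) : False := by
  have : Fact (Nat.Prime 3) := ⟨Nat.prime_three⟩
  obtain ⟨c, hcs⟩ := c
  change c a ≠ a at ha
  change c b = b at hb
  have hccc : ∀ x, c (c (c x)) = x := by
    intro x
    have h1 := congrArg (fun f : alternatingGroup (Fin n) => (f : Perm (Fin n)) x) hc3
    simpa only [pow_succ, _root_.pow_zero, _root_.one_mul, _root_.MulMemClass.mk_mul_mk, _root_.Equiv.Perm.coe_mul, _root_.Function.comp_apply, _root_.OneMemClass.coe_one, _root_.Equiv.Perm.coe_one, _root_.id_eq] using h1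
  have ha2 : c (c a) ≠ a := by
    intro h1
    apply ha
    have h2 := hccc a
    rw [h1] at h2
    exact h2
  have ha3 : c a ≠ c (c a) := fun h1 => ha (c.injective h1).symm
  have e1 : a ≠ b := fun h1 => ha (by rw [h1]; exact hb)
  have e2 : c a ≠ b := fun h1 => e1 (c.injective (h1.trans hb.symm))
  have e3 : c (c a) ≠ b := fun h1 => e2 (c.injective (h1.trans hb.symm))
  let ι : Fin 4 ↪ Fin n := ⟨![a, c a, c (c a), b], by
    intro i j hij
    fin_cases i <;> fin_cases j <;> [(rfl); (exact absurd hij.symm ha); (exact absurd hij.symm ha2); (exact absurd hij e1); (exact absurd hij ha); (rfl); (exact absurd hij ha3);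
                                     (exact absurd hij e2); (exact absurd hij ha2); (exact absurd hij.symm ha3); (rfl); (exact absurd hij e3); (exact absurd hij.symm e1);
                                     (exact absurd hij.symm e2); (exact absurd hij.symm e3); (rfl)]⟩
  obtain ⟨e, -, -, k, hk⟩ := word_embed h hc hc ι
    (swap 0 1 * swap 1 2) (swap 0 1 * swap 1 2)
    (swap 0 1 * swap 2 3) (by decide) (by
      intro i
      change c (ι i) = _
      fin_cases i
      · rfl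
      · rfl
      · exact hccc a
      · exact hb) (by
      intro i
      change c (ι i) = _
      fin_cases i
      · rfl
      · rfl
      · exact hccc a
      · exact hb)
  exact pow_ne_one_aux (q := 2) Nat.prime_three Nat.prime_two (by norm_num)
    (by decide) (by decide) hk

set_option maxRecDepth 20000 in
/-- A cycle of length five. -/
theorem no_five {C : Set (alternatingGroup (Fin n))} (h : CSet 5 C)
    {c : alternatingGroup (Fin n)} (hc : c ∈ C) (hc5 : c ^ 5 = 1)
    {a : Fin n} (ha : (c : Perm (Fin n)) a ≠ a) : False := by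
  have : Fact (Nat.Prime 5) := ⟨Nat.prime_five⟩
  have hc2 := h.sq rfl c hc
  obtain ⟨c, hcs⟩ := c
  change c a ≠ a at ha
  have hccc : ∀ x, c (c (c (c (c x)))) = x := by
    intro x
    have h1 := congrArg (fun f : alternatingGroup (Fin n) => (f : Perm (Fin n)) x) hc5
    simpa only [pow_succ, _root_.pow_zero, _root_.one_mul, _root_.MulMemClass.mk_mul_mk, _root_.Equiv.Perm.coe_mul, _root_.Function.comp_apply, _root_.OneMemClass.coe_one, _root_.Equiv.Perm.coe_one, _root_.id_eq] using h1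
  have ha2 : c (c a) ≠ a := by
    intro h1
    apply ha
    have h2 := hccc a
    rw [h1, h1] at h2
    exact h2
  have ha3 : c (c (c a)) ≠ a := by
    intro h1
    apply ha2
    have h2 := hccc a
    rw [h1] at h2
    exact h2
  have ha4 : c (c (c (c a))) ≠ a := by
    intro h1
    apply ha
    have h2 := hccc a
    rw [h1] at h2
    exact h2
  have e12 : c a ≠ c (c a) := fun h1 => ha (c.injective h1).symm
  have e13 : c a ≠ c (c (c a)) := fun h1 => ha2 (c.injective h1).symm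
  have e14 : c a ≠ c (c (c (c a))) := fun h1 => ha3 (c.injective h1).symm
  have e23 : c (c a) ≠ c (c (c a)) := fun h1 => e12 (c.injective h1)
  have e24 : c (c a) ≠ c (c (c (c a))) := fun h1 => e13 (c.injective h1)
  have e34 : c (c (c a)) ≠ c (c (c (c a))) := fun h1 => e23 (c.injective h1)
  let ι : Fin 5 ↪ Fin n := ⟨![a, c a, c (c a), c (c (c a)), c (c (c (c a)))], by
    intro i j hij
    fin_cases i <;> fin_cases j <;> [(rfl); (exact absurd hij.symm ha); (exact absurd hij.symm ha2); (exact absurd hij.symm ha3); (exact absurd hij.symm ha4); (exact absurd hij ha); (rfl);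
                                     (exact absurd hij e12); (exact absurd hij e13); (exact absurd hij e14); (exact absurd hij ha2); (exact absurd hij.symm e12); (rfl);
                                     (exact absurd hij e23); (exact absurd hij e24); (exact absurd hij ha3); (exact absurd hij.symm e13); (exact absurd hij.symm e23); (rfl);
                                     (exact absurd hij e34); (exact absurd hij ha4); (exact absurd hij.symm e14); (exact absurd hij.symm e24); (exact absurd hij.symm e34); (rfl)]⟩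
  have h1 : Ext ι c (swap (0 : Fin 5) 1 * swap (1 : Fin 5) 2 * swap (2 : Fin 5) 3 * swap (3 : Fin 5) 4) := by
    intro i
    fin_cases i
    · rfl
    · rfl
    · rfl
    · rfl
    · exact hccc a
  obtain ⟨e, -, -, k, hk⟩ := word_embed h hc hc2 ι _ _
    (swap (2 : Fin 5) 3 * swap (3 : Fin 5) 4) (by decide) h1 (h1.pow 2)
  exact pow_ne_one_aux (q := 3) Nat.prime_five Nat.prime_three (by norm_num)
    (by decide) (by (set_option synthInstance.maxSize 9000 in open scoped Cfsg.Agent.Lib.FastPerm in decide +kernel)) hk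

end embed

section row

theorem five_dec : ∀ x : Perm (Fin 5), sign x = 1 →
    x * x = 1 ∨ x ^ 3 = 1 ∧ (∃ b, x b = b) ∨ x ^ 5 = 1 := by
  (set_option synthInstance.maxSize 9000 in open scoped Cfsg.Agent.Lib.FastPerm in decide +kernel)

/-- **The row of the alternating groups.** -/
theorem crow_alt {n : ℕ} (hn : 5 ≤ n) {p : ℕ} [hp : Fact p.Prime] :
    CRow p (alternatingGroup (Fin n)) := by
  intro C h
  have hs : IsSimpleGroup (alternatingGroup (Fin n)) :=
    alternatingGroup.isSimpleGroup (by simpa only [_root_.Nat.card_eq_fintype_card, _root_.Fintype.card_fin] using hn)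
  have hna : ¬ IsMulCommutative (alternatingGroup (Fin n)) := by
    intro hcm
    have h1 : Subgroup.center (alternatingGroup (Fin n)) = ⊤ := by
      rw [eq_top_iff]
      intro z _
      rw [Subgroup.mem_center_iff]
      intro g
      exact hcm.is_comm.comm g z
    rw [alternatingGroup.center_eq_bot (by simp only [_root_.Nat.card_eq_fintype_card, _root_.Fintype.card_fin]; omega)] at h1
    exact bot_ne_top h1
  obtain ⟨c, hc, hc1⟩ := h.ne
  have hmv : ∃ a : Fin n, (c : Perm (Fin n)) a ≠ a := by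
    by_contra hcon
    push Not at hcon
    exact hc1 (Subtype.ext (Equiv.ext hcon))
  obtain ⟨k, hk⟩ := h.pel c hc
  have hinv := h.no_involution hna hc hc1
  rcases Nat.lt_or_ge n 6 with h6 | h6
  · -- degree five
    have h5 : n = 5 := by omega
    subst h5
    obtain ⟨a, ha⟩ := hmv
    rcases five_dec c (mem_alternatingGroup.mp c.2) with h1 | ⟨h1, b, hb⟩ | h1
    · exact hinv (Subtype.ext h1)
    · have h2 : c ^ 3 = 1 := Subtype.ext h1
      have h3 : p = 3 := by
        by_contra hne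
        exact pow_ne_one_aux (k := k) hp.out Nat.prime_three (Ne.symm hne) hc1 h2
          (hk ▸ pow_orderOf_eq_one c)
      subst h3
      exact no_three_fix h.toCSet hc h2 ha hb
    · have h2 : c ^ 5 = 1 := Subtype.ext h1
      have h3 : p = 5 := by
        by_contra hne
        exact pow_ne_one_aux (k := k) hp.out Nat.prime_five (Ne.symm hne) hc1 h2
          (hk ▸ pow_orderOf_eq_one c)
      subst h3
      exact no_five h.toCSet hc h2 ha
  · have hnf : ∀ e ∈ C, e ≠ 1 → ∀ a, (e : Perm (Fin n)) a ≠ a :=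
      fun e he he1 a ha => he1 (nofix h6 h he ha)
    by_cases hex : ∃ a, (c : Perm (Fin n)) a ≠ a ∧
        (c : Perm (Fin n)) ((c : Perm (Fin n)) a) ≠ a ∧
        (c : Perm (Fin n)) ((c : Perm (Fin n)) ((c : Perm (Fin n)) a)) ≠ a
    · obtain ⟨a, h1, h2, h3⟩ := hex
      obtain ⟨σ, hσ, hne, hfix⟩ := exists_commutator (c : Perm (Fin n)) a h1 h2 h3
      have he := h.comm c hc _ (h.conj ⟨σ, hσ⟩ c hc)
      obtain ⟨x, hx⟩ : ∃ x : Fin n, x ∉ ({(c : Perm (Fin n))⁻¹ a, a, (c : Perm (Fin n)) a,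
          (c : Perm (Fin n)) ((c : Perm (Fin n)) a),
          (c : Perm (Fin n)) ((c : Perm (Fin n)) ((c : Perm (Fin n)) a))} : Finset (Fin n)) := by
        by_contra hcon
        push Not at hcon
        have h4 := Finset.card_le_card (s := Finset.univ) (fun x _ => hcon x)
        rw [Finset.card_univ, Fintype.card_fin] at h4
        have h5 := Finset.card_le_five (a := (c : Perm (Fin n))⁻¹ a) (b := a)
          (c := (c : Perm (Fin n)) a) (d := (c : Perm (Fin n)) ((c : Perm (Fin n)) a))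
          (e := (c : Perm (Fin n)) ((c : Perm (Fin n)) ((c : Perm (Fin n)) a)))
        omega
      simp only [Finset.mem_insert, Finset.mem_singleton, not_or] at hx
      refine hnf _ he ?_ x (hfix x hx.1 hx.2.1 hx.2.2.1 hx.2.2.2.1 hx.2.2.2.2)
      intro hcon
      exact hne (congrArg (fun f : alternatingGroup (Fin n) => (f : Perm (Fin n))) hcon)
    · push Not at hex
      have hsix : c ^ 6 = 1 := by
        apply Subtype.ext
        ext x
        have h1 := hnf c hc hc1 x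
        have h2 := hex x h1
        by_cases h3 : (c : Perm (Fin n)) ((c : Perm (Fin n)) x) = x
        · simp only [pow_succ, h3, _root_.pow_zero, _root_.one_mul, _root_.Subgroup.coe_mul, _root_.Equiv.Perm.coe_mul, _root_.Function.comp_apply, _root_.OneMemClass.coe_one, _root_.Equiv.Perm.coe_one, _root_.id_eq]
        · have h4 := h2 h3
          simp only [pow_succ, h4, _root_.pow_zero, _root_.one_mul, _root_.Subgroup.coe_mul, _root_.Equiv.Perm.coe_mul, _root_.Function.comp_apply, _root_.OneMemClass.coe_one, _root_.Equiv.Perm.coe_one, _root_.id_eq]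
      have hdvd : p ^ k ∣ 6 := hk ▸ orderOf_dvd_of_pow_eq_one hsix
      have hk0 : k ≠ 0 := by
        rintro rfl
        rw [pow_zero, orderOf_eq_one_iff] at hk
        exact hc1 hk
      have hp6 : p ∣ 6 := (dvd_pow_self p hk0).trans hdvd
      have hle := Nat.le_of_dvd (by norm_num) hp6
      have hk2 : k < 2 := by
        by_contra hcon
        push Not at hcon
        have h1 : p ^ 2 ∣ 6 := (pow_dvd_pow p hcon).trans hdvd
        have h2 := hp.out.two_le
        interval_cases p <;> omega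
      have hk1 : k = 1 := by omega
      subst hk1
      rw [pow_one] at hk
      have hp23 : p = 2 ∨ p = 3 := by
        have h2 := hp.out.two_le
        have h3 := hp.out
        interval_cases p
        · left; rfl
        · right; rfl
        · omega
        · omega
        · norm_num at h3
      rcases hp23 with rfl | rfl
      · apply hinv
        have := pow_orderOf_eq_one c
        rwa [hk, pow_two] at this
      · have hc3 : c ^ 3 = 1 := by rw [← hk]; exact pow_orderOf_eq_one c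
        obtain ⟨a, ha⟩ := hmv
        obtain ⟨b, hb⟩ : ∃ b : Fin n, b ∉ ({a, (c : Perm (Fin n)) a,
            (c : Perm (Fin n)) ((c : Perm (Fin n)) a)} : Finset (Fin n)) := by
          by_contra hcon
          push Not at hcon
          have h4 := Finset.card_le_card (s := Finset.univ) (fun x _ => hcon x)
          rw [Finset.card_univ, Fintype.card_fin] at h4
          have h5 := Finset.card_le_three (a := a) (b := (c : Perm (Fin n)) a)
            (c := (c : Perm (Fin n)) ((c : Perm (Fin n)) a))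
          omega
        simp only [Finset.mem_insert, Finset.mem_singleton, not_or] at hb
        exact no_two_three h.toCSet hc hc3 ha (hnf c hc hc1 b) hb.1 hb.2.1 hb.2.2

end row

end Cfsg.Agent.H201.CommAlt
end

-- part: H201/CommAltB
section
/-!
# The alternating row of S3828 in the form of `H162/CC`
-/

set_option autoImplicit false

namespace Cfsg.Agent.H201.CommAlt

open Cfsg.Agent.H162

/-- The two forms of the row are equivalent. -/
theorem crow_of_comm {p : ℕ} {G : Type*} [Group G] (h : H533.Comm.CRow p G) : CCR.CRow p G := by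
  intro C hC c hc
  by_contra hc1
  exact h C ⟨⟨hC.conj, hC.pel, hC.comm, hC.sq⟩, ⟨c, hc, hc1⟩,
    fun H hH c hcH hcC => hC.loc H hH c hcC hcH⟩

/-- **The row of the alternating groups**, `H162/CC` form. -/
theorem crow_alt' {n : ℕ} (hn : 5 ≤ n) (p : ℕ) [Fact p.Prime] :
    CCR.CRow p ↥(alternatingGroup (Fin n)) :=
  crow_of_comm (crow_alt hn)

end Cfsg.Agent.H201.CommAlt
end

-- part: H793/CC/Sz
section
/-!
# S3828: the row of the Suzuki groups

`crow_sz`: in a Suzuki group there is no non-trivial `C` with `Min p C`.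
-/

set_option autoImplicit false

namespace Cfsg.Agent.H793.CC.Sz

open Cfsg.Agent.LieRecognition.SzMatrix Cfsg.Agent.H147.Sz Cfsg.Agent.H162.CCR
open Cfsg Cfsg.Agent.Lib.Cores

variable {F : Type*} [Field F] {θ : F →+* F} {e : ℕ}

theorem tr_one (H : Good F θ e) : tr (1 : ↥(Cfsg.Lie.Sz F e)) = 0 := by
  rw [← H.u_zero, tr_u]

/-- the trace of a 2-element is 0 -/
theorem tr_of_pow (H : Good F θ e) {g : ↥(Cfsg.Lie.Sz F e)} {n : ℕ} (h : g ^ 2 ^ n = 1) : tr g = 0 := by
  have h1 : ∀ n : ℕ, tr (g ^ 2 ^ n) = tr g ^ 2 ^ n := by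
    intro n
    induction n with
    | zero => simp
    | succ n ih => rw [pow_succ 2 n, pow_mul, pow_two (g ^ 2 ^ n), tr_sq H.two, ih, ← pow_mul]
  have h2 := h1 n
  rw [h, tr_one H] at h2
  exact pow_eq_zero_iff (pow_ne_zero n two_ne_zero) |>.1 h2.symm

theorem pow4 {M : Type*} [Monoid M] (x : M) : x ^ 4 = (x * x) * (x * x) := by
  simp only [pow_succ, pow_zero, one_mul, mul_assoc]

theorem u_pow_four (H : Good F θ e) (a b : F) : H.u a b ^ 4 = 1 := by
  rw [pow4, u_sq, u_sq, zero_mul, H.u_zero]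

/-- elements of trace 0 have order dividing 4 -/
theorem pow_four_of_tr [Finite F] (H : Good F θ e) (hR : Real H) {g : ↥(Cfsg.Lie.Sz F e)} (hg : tr g = 0) :
    g ^ 4 = 1 := by
  by_cases hg1 : g = 1
  · rw [hg1, one_pow]
  rcases normal_form H hR hg1 with ⟨k, hk, -⟩ | ⟨-, ⟨h, -⟩ | ⟨-, b, h⟩⟩
  · exact absurd (hk.trans hg) k.ne_zero
  · rw [pow4, h, one_mul]
  · obtain ⟨x, hx⟩ := isConj_iff.1 h
    have h1 := u_pow_four H 1 b
    rw [← hx, conj_pow] at h1
    exact conj_eq_one_iff.1 h1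

theorem eq_one_of_pow {G : Type*} [Group G] {x : G} {p k : ℕ} [hp : Fact p.Prime] (hp2 : p ≠ 2)
    (h : orderOf x = p ^ k) (h4 : x ^ 4 = 1) : x = 1 := by
  have h1 : orderOf x ∣ 4 := orderOf_dvd_of_pow_eq_one h4
  have h2 : Nat.Coprime (p ^ k) 4 := by
    have : Nat.Coprime p 2 := (Nat.coprime_primes hp.out Nat.prime_two).2 hp2
    exact Nat.Coprime.pow k 2 this
  rw [h] at h1
  have h3 : p ^ k = 1 := Nat.eq_one_of_dvd_coprimes h2 dvd_rfl h1
  rw [← orderOf_eq_one_iff, h, h3]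

/-! ### the torus -/

theorem torus_unip (H : Good F θ e) (k : Fˣ) {s : ↥(Cfsg.Lie.Sz F e)} (hs : s ∈ H.unip) :
    ∃ t ∈ H.unip, H.d k * s = t * H.d k := by
  obtain ⟨a, b, rfl⟩ := (H.mem_unip_iff s).1 hs
  exact ⟨_, H.u_mem_unip _ _, H.d_mul_u k a b⟩

theorem unip_mul_d_inj (H : Good F θ e) {s t : ↥(Cfsg.Lie.Sz F e)} (hs : s ∈ H.unip) (ht : t ∈ H.unip) {k l : Fˣ}
    (h : s * H.d k = t * H.d l) : k = l := by
  obtain ⟨a, b, rfl⟩ := (H.mem_unip_iff s).1 hs
  obtain ⟨c, d, rfl⟩ := (H.mem_unip_iff t).1 ht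
  exact (H.u_mul_d_inj h).2.2

/-- conjugates of torus elements under the Borel subgroup -/
theorem borel_conj_d (H : Good F θ e) {x : ↥(Cfsg.Lie.Sz F e)} (hx : x ∈ H.borel) (k : Fˣ) :
    ∃ t ∈ H.unip, x * H.d k * x⁻¹ = t * H.d k := by
  obtain ⟨a, b, j, rfl⟩ := (H.mem_borel_iff' x).1 hx
  have h1 : H.u a b * H.d j * H.d k * (H.u a b * H.d j)⁻¹ = H.u a b * H.d k * (H.u a b)⁻¹ := by
    have h2 : H.d j * H.d k = H.d k * H.d j := by rw [H.d_mul, H.d_mul, mul_comm]
    rw [_root_.mul_inv_rev, mul_assoc (H.u a b), h2]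
    group
  obtain ⟨t, ht, h3⟩ := torus_unip H k (inv_mem (H.u_mem_unip a b))
  refine ⟨H.u a b * t, mul_mem (H.u_mem_unip a b) ht, ?_⟩
  rw [h1, mul_assoc, h3, mul_assoc]

theorem d_conj (H : Good F θ e) {k l : Fˣ} (h : IsConj (H.d k) (H.d l)) : l = k ∨ l = k⁻¹ := by
  obtain ⟨x, hx⟩ := isConj_iff.1 h
  by_cases hb : x ∈ H.borel
  · left
    obtain ⟨t, ht, h1⟩ := borel_conj_d H hb k
    rw [h1] at hx
    have h2 : t * H.d k = 1 * H.d l := by rw [hx, one_mul]
    exact (unip_mul_d_inj H ht (one_mem _) h2).symm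
  · right
    obtain ⟨s, hs, hb⟩ := H.bruhat_sz x hb
    set b := (s * H.w)⁻¹ * x with hbdef
    have hxe : x = s * H.w * b := by rw [hbdef]; group
    obtain ⟨v, hv, h1⟩ := borel_conj_d H hb k
    have h2 : s * H.w * (v * H.d k) * (H.w)⁻¹ * s⁻¹ = H.d l := by
      rw [← h1, ← hx, hxe]
      group
    obtain ⟨t, ht, h3⟩ := torus_unip H l hs
    have hwd : H.w * H.d k * (H.w)⁻¹ = H.d k⁻¹ := by
      rw [H.w_mul_d, mul_inv_cancel_right]
    have h4 : H.w * v * (H.w)⁻¹ = s⁻¹ * H.d l * s * (H.d k⁻¹)⁻¹ := by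
      rw [← h2, ← hwd]
      group
    have h5 : v = 1 := by
      apply H.inter_trivial v hv
      have h6 : (H.w)⁻¹ * v * H.w = H.w * v * (H.w)⁻¹ := by rw [H.w_inv]
      rw [h6, h4]
      exact mul_mem (mul_mem (mul_mem (inv_mem (H.unip_le_borel hs)) (H.d_mem_borel l)) (H.unip_le_borel hs))
        (inv_mem (H.d_mem_borel _))
    rw [h5] at h4
    have h7 : t * H.d l = s * H.d k⁻¹ := by
      rw [← h3]
      have h8 : s⁻¹ * H.d l * s * (H.d k⁻¹)⁻¹ = 1 := by rw [← h4]; group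
      calc H.d l * s = s * (s⁻¹ * H.d l * s * (H.d k⁻¹)⁻¹) * H.d k⁻¹ := by group
        _ = s * H.d k⁻¹ := by rw [h8, mul_one]
    exact unip_mul_d_inj H ht hs h7

theorem d_tr_ne_zero [Finite F] (H : Good F θ e) (hR : Real H) {k : Fˣ} (hk : k ≠ 1) : tr (H.d k) ≠ 0 := by
  intro h
  have h1 := pow_four_of_tr H hR h
  have h2 : H.d k ^ 4 = H.d (k * k * (k * k)) := by
    rw [← H.d_mul, ← H.d_mul, pow4]
  rw [h2, ← H.d_one] at h1
  exact hk (unit_sq_eq_one H (unit_sq_eq_one H (H.d_inj h1)))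

theorem theta_eq_sq (H : Good F θ e) {k : Fˣ} (h : (k : F) ^ 2 * (θ k)⁻¹ = 1) : k = 1 := by
  have h0 := theta_ne_zero θ k
  have h1 : θ (k : F) = (k : F) ^ 2 := by
    field_simp at h
    exact h.symm
  have h2 := H.sq (k : F)
  rw [h1, map_pow, h1] at h2
  have hk := k.ne_zero
  have h3 : (k : F) * k = 1 := by
    have : (k : F) ^ 2 * ((k : F) * k) = (k : F) ^ 2 * 1 := by linear_combination h2
    exact mul_left_cancel₀ (pow_ne_zero 2 hk) this
  exact unit_sq_eq_one H (Units.ext h3)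

theorem borel_ne_top (H : Good F θ e) : H.borel ≠ ⊤ := fun h => H.w_not_mem_borel (h ▸ Subgroup.mem_top _)

/-- torus elements in `C` are trivial (`p` odd) -/
theorem d_eq_one (H : Good F θ e) [Finite F] {p : ℕ} [hp : Fact p.Prime] (hp2 : p ≠ 2)
    {C : Set ↥(Cfsg.Lie.Sz F e)} (hC : _root_.Cfsg.Agent.H162.CCR.Min p C) {k : Fˣ} (hk : H.d k ∈ C) : k = 1 := by
  have h1 := hC.loc H.borel (borel_ne_top H) _ hk (H.d_mem_borel k)
  set x : H.borel := ⟨H.d k, H.d_mem_borel k⟩ with hx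
  set y : H.borel := ⟨H.u 1 0, H.u_mem_borel 1 0⟩ with hy
  have hn : (pCore p H.borel).Normal := inferInstance
  have h2 : x * y * x⁻¹ * y⁻¹ ∈ pCore p H.borel := by
    have e1 : x * y * x⁻¹ * y⁻¹ = x * (y * x⁻¹ * y⁻¹) := by group
    rw [e1]
    exact mul_mem h1 (hn.conj_mem _ (inv_mem h1) _)
  obtain ⟨j, hj⟩ := pCore_isPGroup p (G := H.borel) ⟨_, h2⟩
  have hj' : (x * y * x⁻¹ * y⁻¹) ^ p ^ j = 1 := congrArg Subtype.val hj
  have h3 : ((x * y * x⁻¹ * y⁻¹ : H.borel) : ↥(Cfsg.Lie.Sz F e)) ∈ H.unip := by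
    have := H.borel_normalizes _ (H.d_mem_borel k) _ (H.u_mem_unip 1 0)
    exact mul_mem this (inv_mem (H.u_mem_unip 1 0))
  obtain ⟨a, b, hab⟩ := (H.mem_unip_iff _).1 h3
  have h4 : (x * y * x⁻¹ * y⁻¹) ^ 4 = 1 := by
    apply Subtype.ext
    show ((x * y * x⁻¹ * y⁻¹ : H.borel) : ↥(Cfsg.Lie.Sz F e)) ^ 4 = 1
    rw [hab, u_pow_four]
  have h5 : x * y * x⁻¹ * y⁻¹ = 1 := by
    obtain ⟨i, -, hi⟩ := (Nat.dvd_prime_pow hp.out).1 (orderOf_dvd_of_pow_eq_one hj')
    exact eq_one_of_pow hp2 hi h4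
  have h6 : H.d k * H.u 1 0 = H.u 1 0 * H.d k := by
    have h7 : x * y = y * x := by
      calc x * y = (x * y * x⁻¹ * y⁻¹) * (y * x) := by group
        _ = y * x := by rw [h5, one_mul]
    exact congrArg Subtype.val h7
  rw [H.d_mul_u] at h6
  obtain ⟨h7, -, -⟩ := H.u_mul_d_inj h6
  exact theta_eq_sq H (by rw [← h7]; ring)

/-! ### the field -/

theorem exists_of_mem_A [Finite F] (H : Good F θ e) {x : F} (hx : x ∈ A θ) : ∃ z : F, z ^ 4 + z ^ 2 = x := by
  obtain ⟨c, hc⟩ := hx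
  have hc : c + θ c = x := hc
  obtain ⟨v, hv⟩ : ∃ v : F, v + v ^ 2 = x := by
    by_cases h : c ∈ A θ
    · obtain ⟨v, hv⟩ := h
      have hv : v + θ v = c := hv
      refine ⟨v, ?_⟩
      rw [← hc, ← hv, map_add, H.sq]
      linear_combination (-θ v) * H.two
    · have h1 : c + 1 ∈ A θ := by
        rw [add_mem_iff H]
        exact ⟨fun h' => absurd h' h, fun h' => absurd h' (one_notMem H)⟩
      obtain ⟨v, hv⟩ := h1
      have hv : v + θ v = c + 1 := hv
      refine ⟨v, ?_⟩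
      have hv' : c = v + θ v - 1 := by rw [hv]; ring
      rw [← hc, hv', map_sub, map_add, H.sq, map_one]
      linear_combination (1 - θ v) * H.two
  obtain ⟨z, hz⟩ := exists_sq H v
  refine ⟨z, ?_⟩
  rw [← hv, ← hz]
  ring

theorem pow_four_inj (H : Good F θ e) {x y : F} (h : x ^ 4 = y ^ 4) : x = y := by
  have h1 : (x - y) ^ 4 = 0 := by
    linear_combination h + (2 * y ^ 4 - 2 * x ^ 3 * y + 3 * x ^ 2 * y ^ 2 - 2 * x * y ^ 3 - y ^ 4) * H.two
  have := pow_eq_zero_iff (n := 4) (by norm_num) |>.1 h1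
  linear_combination this

theorem card_A [Fintype F] (H : Good F θ e) [DecidablePred (fun x : F => x ∈ A θ)] :
    2 * (Finset.univ.filter (fun x : F => x ∈ A θ)).card = Fintype.card F := by
  have h1 := (A θ).card_mul_index
  rw [index_two H, Nat.card_eq_fintype_card, Nat.card_eq_fintype_card] at h1
  rw [← h1, mul_comm]
  congr 1
  rw [← Nat.card_eq_fintype_card, ← Fintype.card_subtype, ← Nat.card_eq_fintype_card]

open Classical in
theorem key_false [Fintype F] (H : Good F θ e) (hcard : 4 < Fintype.card F) (X : Finset F)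
    (hX : 2 * X.card ≤ Fintype.card F + 2) (h : ∀ κ ∈ X, κ ≠ 0 → ∀ z : F, κ ^ 4 * (z ^ 4 + z ^ 2) ∈ X)
    (hne : ∃ κ ∈ X, κ ≠ 0) : False := by
  set AF := Finset.univ.filter (fun x : F => x ∈ A θ) with hAF
  have hA : 2 * AF.card = Fintype.card F := card_A H
  have hA3 : 3 ≤ AF.card := by omega
  -- every `κ⁴A` is in `X`
  have h1 : ∀ κ ∈ X, κ ≠ 0 → ∀ x ∈ A θ, κ ^ 4 * x ∈ X := by
    intro κ hκ hκ0 x hx
    obtain ⟨z, hz⟩ := exists_of_mem_A H hx
    rw [← hz]
    exact h κ hκ hκ0 z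
  have big : ∀ y z : F, ∃ x ∈ A θ, x ≠ y ∧ x ≠ z := by
    intro y z
    by_contra hcon
    push Not at hcon
    have h2 : AF ⊆ {y, z} := by
      intro x hx
      rw [hAF, Finset.mem_filter] at hx
      by_cases hxy : x = y
      · simp [hxy]
      · simp [hcon x hx.2 hxy]
    have h3 := Finset.card_le_card h2
    have h4 : ({y, z} : Finset F).card ≤ 2 := Finset.card_le_two
    omega
  obtain ⟨κ, hκ, hκ0⟩ := hne
  have hκ4 : κ ^ 4 ≠ 0 := pow_ne_zero 4 hκ0
  -- at most one element of `X` outside `κ⁴A`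
  have h2 : ∀ y z : F, κ ^ 4 * y ∈ X → κ ^ 4 * z ∈ X → y ∉ A θ → z ∉ A θ → y = z := by
    intro y z hy hz hyA hzA
    by_contra hyz
    have h3 : insert (κ ^ 4 * y) (insert (κ ^ 4 * z) (AF.image (fun x => κ ^ 4 * x))) ⊆ X := by
      intro t ht
      rw [Finset.mem_insert, Finset.mem_insert, Finset.mem_image] at ht
      rcases ht with rfl | rfl | ⟨x, hx, rfl⟩
      · exact hy
      · exact hz
      · rw [hAF, Finset.mem_filter] at hx
        exact h1 κ hκ hκ0 x hx.2
    have hz' : κ ^ 4 * z ∉ AF.image (fun x => κ ^ 4 * x) := by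
      intro hh
      obtain ⟨x, hx, hxe⟩ := Finset.mem_image.1 hh
      rw [hAF, Finset.mem_filter] at hx
      exact hzA (mul_left_cancel₀ hκ4 hxe ▸ hx.2)
    have hy' : κ ^ 4 * y ∉ insert (κ ^ 4 * z) (AF.image (fun x => κ ^ 4 * x)) := by
      intro hh
      rcases Finset.mem_insert.1 hh with hh | hh
      · exact hyz (mul_left_cancel₀ hκ4 hh)
      · obtain ⟨x, hx, hxe⟩ := Finset.mem_image.1 hh
        rw [hAF, Finset.mem_filter] at hx
        exact hyA (mul_left_cancel₀ hκ4 hxe ▸ hx.2)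
    have h4 := Finset.card_le_card h3
    rw [Finset.card_insert_of_notMem hy', Finset.card_insert_of_notMem hz',
      Finset.card_image_of_injective _ (mul_right_injective₀ hκ4)] at h4
    omega
  -- a second `κ'`
  obtain ⟨x0, hx0, hx00, hx01⟩ := big 0 (κ * (κ ^ 4)⁻¹)
  set κ' := κ ^ 4 * x0 with hκ'
  have hκ'X : κ' ∈ X := h1 κ hκ hκ0 x0 hx0
  have hκ'0 : κ' ≠ 0 := mul_ne_zero hκ4 hx00
  have hκκ' : κ' ≠ κ := by
    intro hh
    apply hx01
    rw [eq_mul_inv_iff_mul_eq₀ hκ4, mul_comm]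
    exact hh
  set c := κ' ^ 4 / κ ^ 4 with hc
  have hc0 : c ≠ 0 := div_ne_zero (pow_ne_zero 4 hκ'0) hκ4
  have hc1 : c ≠ 1 := by
    intro hh
    rw [hc, div_eq_one_iff_eq hκ4] at hh
    exact hκκ' (pow_four_inj H hh)
  have h3 : ∀ x ∈ A θ, κ ^ 4 * (c * x) ∈ X := by
    intro x hx
    have : κ ^ 4 * (c * x) = κ' ^ 4 * x := by
      rw [hc]
      field_simp
    rw [this]
    exact h1 κ' hκ'X hκ'0 x hx
  obtain ⟨x, hx, hcx⟩ := exists_mul_notMem H hc0 hc1
  obtain ⟨z, hz, hz0, hzx⟩ := big 0 x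
  by_cases hcz : c * z ∈ A θ
  · have h4 : c * (x + z) ∉ A θ := by
      rw [mul_add, add_mem_iff H]
      exact fun h' => hcx (h'.2 hcz)
    have h5 := h2 _ _ (h3 x hx) (h3 (x + z) ((A θ).add_mem hx hz)) hcx h4
    have h6 := mul_left_cancel₀ hc0 h5
    exact hz0 (by linear_combination -h6)
  · have h5 := h2 _ _ (h3 x hx) (h3 z hz) hcx hcz
    exact hzx (mul_left_cancel₀ hc0 h5).symm

/-! ### the trace of `[e, e^g]` -/

theorem tr_comm (H : Good F θ e) (b s : F) :
    tr ((H.w * H.u 0 b)⁻¹ * ((H.u 0 s)⁻¹ * (H.w * H.u 0 b) * H.u 0 s)⁻¹ * (H.w * H.u 0 b) *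
      ((H.u 0 s)⁻¹ * (H.w * H.u 0 b) * H.u 0 s)) = (θ (b + s) * θ s) ^ 2 := by
  have hi : ∀ x : F, (H.u 0 x)⁻¹ = H.u 0 x := by
    intro x
    rw [H.u_inv, zero_mul, add_zero]
  have hm : ∀ x y : F, H.u 0 x * H.u 0 y = H.u 0 (x + y) := by
    intro x y
    rw [H.u_mul, zero_mul, add_zero, add_zero]
  have h1 : (H.w * H.u 0 b)⁻¹ * ((H.u 0 s)⁻¹ * (H.w * H.u 0 b) * H.u 0 s)⁻¹ * (H.w * H.u 0 b) *
      ((H.u 0 s)⁻¹ * (H.w * H.u 0 b) * H.u 0 s) =
      H.u 0 b * (H.w * (H.u 0 b * H.u 0 s)⁻¹⁻¹ * H.w * H.u 0 s * (H.w * (H.u 0 b * H.u 0 s) * H.w)) *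
        (H.u 0 b * H.u 0 s) := by
    have e1 : (H.w * H.u 0 b)⁻¹ = H.u 0 b * H.w := by rw [_root_.mul_inv_rev, hi, H.w_inv]
    have e2 : ((H.u 0 s)⁻¹ * (H.w * H.u 0 b) * H.u 0 s)⁻¹ = H.u 0 s * H.u 0 b * H.w * H.u 0 s := by
      rw [_root_.mul_inv_rev, _root_.mul_inv_rev, e1, hi, hi]
      group
    rw [e1, e2, hi]
    have e3 : H.u 0 s * H.u 0 b = H.u 0 b * H.u 0 s := by rw [hm, hm, add_comm]
    have e4 : (H.u 0 b * H.u 0 s)⁻¹⁻¹ = H.u 0 s * H.u 0 b := by rw [inv_inv, e3]
    rw [e4]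
    calc H.u 0 b * H.w * (H.u 0 s * H.u 0 b * H.w * H.u 0 s) * (H.w * H.u 0 b) * (H.u 0 s * (H.w * H.u 0 b) * H.u 0 s) =
        H.u 0 b * (H.w * (H.u 0 s * H.u 0 b) * H.w * H.u 0 s * (H.w * (H.u 0 b * H.u 0 s) * H.w)) *
          (H.u 0 b * H.u 0 s) := by group
      _ = _ := rfl
  rw [h1, inv_inv, tr_mul_comm, hm]
  have h2 : H.u 0 (b + s) * (H.u 0 b * (H.w * H.u 0 (b + s) * H.w * H.u 0 s * (H.w * H.u 0 (b + s) * H.w))) =
      (H.u 0 s * (H.w * H.u 0 (b + s) * H.w)) * (H.u 0 s * (H.w * H.u 0 (b + s) * H.w)) := by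
    have e5 : H.u 0 (b + s) * H.u 0 b = H.u 0 s := by
      rw [hm]
      congr 1
      linear_combination b * H.two
    rw [← mul_assoc, e5]
    group
  rw [h2, tr_sq H.two, tr_mul_comm, tr_wuwu]
  congr 1
  simp only [map_zero, zero_mul, mul_zero]
  ring

/-! ### the row -/

section Odd

variable [Fintype F] (H : Good F θ e) (hR : Real H) {p : ℕ} [hp : Fact p.Prime] {C : Set ↥(Cfsg.Lie.Sz F e)}

include hR in
theorem tr_ne_zero (hp2 : p ≠ 2) (hC : _root_.Cfsg.Agent.H162.CCR.Min p C) {c : ↥(Cfsg.Lie.Sz F e)} (hc : c ∈ C) (hc1 : c ≠ 1) : tr c ≠ 0 := by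
  intro h0
  obtain ⟨k, hk⟩ := hC.pel c hc
  exact hc1 (eq_one_of_pow hp2 hk (pow_four_of_tr H hR h0))

include hR in
theorem mem_of_tr (hC : _root_.Cfsg.Agent.H162.CCR.Min p C) {c g : ↥(Cfsg.Lie.Sz F e)} (hc : c ∈ C) (hc0 : tr c ≠ 0) (h : tr g = tr c) :
    g ∈ C := by
  obtain ⟨x, hx⟩ := isConj_iff.1 (isConj_of_tr H hR hc0 h.symm)
  rw [← hx]
  exact hC.conj_mem x hc

include hR in
theorem row_odd (hcard : 4 < Fintype.card F) (hp2 : p ≠ 2) (hC : _root_.Cfsg.Agent.H162.CCR.Min p C) {c : ↥(Cfsg.Lie.Sz F e)} (hc : c ∈ C) :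
    c = 1 := by
  classical
  by_contra hc1
  set X : Finset F := Finset.univ.filter (fun T => T = 0 ∨ ∃ c ∈ C, tr c = T) with hX
  have hXm : ∀ T : F, T ∈ X ↔ T = 0 ∨ ∃ c ∈ C, tr c = T := by
    intro T
    rw [hX, Finset.mem_filter]
    simp only [_root_.Finset.mem_univ, _root_.Subtype.exists, _root_.true_and]
  refine key_false H hcard X ?_ ?_ ⟨tr c, (hXm _).2 (Or.inr ⟨c, hc, rfl⟩), tr_ne_zero H hR hp2 hC hc hc1⟩
  · -- the torus traces
    set K : Finset Fˣ := Finset.univ.erase 1 with hK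
    have hKc : K.card = Fintype.card F - 2 := by
      rw [hK, Finset.card_erase_of_mem (Finset.mem_univ _), Finset.card_univ, Fintype.card_units]
      omega
    have h1 : K.card ≤ 2 * (K.image (fun k => tr (H.d k))).card := by
      apply Finset.card_le_mul_card_image
      intro a ha
      obtain ⟨k, hk, rfl⟩ := Finset.mem_image.1 ha
      have h2 : K.filter (fun x => tr (H.d x) = tr (H.d k)) ⊆ {k, k⁻¹} := by
        intro l hl
        rw [Finset.mem_filter] at hl
        have hk1 : k ≠ 1 := Finset.ne_of_mem_erase hk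
        have h3 := isConj_of_tr H hR (d_tr_ne_zero H hR hk1) hl.2.symm
        rcases d_conj H h3 with h4 | h4
        · simp [h4]
        · simp [h4]
      exact (Finset.card_le_card h2).trans Finset.card_le_two
    have h2 : Disjoint X (K.image (fun k => tr (H.d k))) := by
      rw [Finset.disjoint_left]
      intro T hT hT'
      obtain ⟨k, hk, rfl⟩ := Finset.mem_image.1 hT'
      have hk1 : k ≠ 1 := Finset.ne_of_mem_erase hk
      have h3 := d_tr_ne_zero H hR hk1
      rcases (hXm _).1 hT with h4 | ⟨c', hc', h4⟩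
      · exact h3 h4
      · have h5 := mem_of_tr H hR hC hc' (by rw [h4]; exact h3) h4.symm
        exact hk1 (d_eq_one H hp2 hC h5)
    have h3 := Finset.card_union_of_disjoint h2
    have h4 : (X ∪ K.image (fun k => tr (H.d k))).card ≤ Fintype.card F := Finset.card_le_univ _
    omega
  · intro κ hκ hκ0 z
    rcases (hXm _).1 hκ with h | ⟨c', hc', h⟩
    · exact absurd h hκ0
    obtain ⟨b, hb⟩ := theta_surj (θ := θ) κ
    obtain ⟨s, hs⟩ := theta_surj (θ := θ) (κ * z)
    have h1 : H.w * H.u 0 b ∈ C := by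
      apply mem_of_tr H hR hC hc' (by rw [h]; exact hκ0)
      rw [h, tr_wu, hb]
      simp
    rw [hXm]
    right
    refine ⟨_, hC.comm_conj (H.u 0 s) h1, ?_⟩
    rw [tr_comm, map_add, hb, hs]
    linear_combination (κ ^ 4 * z ^ 3) * H.two

end Odd

section Two

variable [Finite F] (H : Good F θ e) (hR : Real H) {C : Set ↥(Cfsg.Lie.Sz F e)}

theorem pow_of_mem (hC : Min 2 C) {c : ↥(Cfsg.Lie.Sz F e)} (hc : c ∈ C) : ∃ n : ℕ, c ^ 2 ^ n = 1 := by
  obtain ⟨k, hk⟩ := hC.pel c hc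
  exact ⟨k, hk ▸ pow_orderOf_eq_one c⟩

include H in
theorem no_inv (hC : Min 2 C) {c : ↥(Cfsg.Lie.Sz F e)} (hc : c ∈ C) (hcc : c * c = 1) : c = 1 := by
  by_contra hc1
  have h1 : IsConj c (H.u 0 1) := isConj_invol H hc1 hcc
  have hw1 : H.w ≠ 1 := fun h => H.w_not_mem_borel (h ▸ one_mem _)
  have h2 : IsConj c H.w := h1.trans (isConj_invol H hw1 H.w_mul_w).symm
  have hmem : ∀ {g : ↥(Cfsg.Lie.Sz F e)}, IsConj c g → g ∈ C := by
    intro g hg
    obtain ⟨x, hx⟩ := isConj_iff.1 hg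
    rw [← hx]
    exact hC.conj_mem x hc
  have h3 := hC.comm _ (hmem h1) _ (hmem h2)
  obtain ⟨n, hn⟩ := pow_of_mem hC h3
  have h4 := tr_of_pow H hn
  have h5 : (H.u 0 1)⁻¹ * (H.w)⁻¹ * H.u 0 1 * H.w = (H.u 0 1 * H.w) * (H.u 0 1 * H.w) := by
    rw [H.w_inv, H.u_inv, zero_mul, add_zero]
    group
  rw [h5, tr_sq H.two, tr_mul_comm, tr_wu] at h4
  simp at h4

include hR in
theorem row_two (hcard : 2 < Nat.card F) (hC : Min 2 C) {c : ↥(Cfsg.Lie.Sz F e)} (hc : c ∈ C) : c = 1 := by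
  by_contra hc1
  obtain ⟨n, hn⟩ := pow_of_mem hC hc
  have h0 := tr_of_pow H hn
  rcases normal_form H hR hc1 with ⟨k, hk, -⟩ | ⟨-, ⟨h, -⟩ | ⟨-, b, h⟩⟩
  · exact k.ne_zero (hk.trans h0)
  · exact hc1 (no_inv H hC hc h)
  obtain ⟨x, hx⟩ := isConj_iff.1 h
  have hg : H.u 1 b ∈ C := hx ▸ hC.conj_mem x hc
  obtain ⟨z, hz0, hz1⟩ := exists_ne (F := F) hcard
  set k : Fˣ := Units.mk0 z hz0 with hk
  have hg' := hC.conj_mem (H.d k) hg
  rw [d_conj_u, one_mul] at hg'
  set μ : F := (k : F) ^ 2 * (θ k)⁻¹ with hμ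
  have h1 := hC.comm _ hg _ hg'
  have h2 : (H.u 1 b)⁻¹ * (H.u μ (b * θ k))⁻¹ * H.u 1 b * H.u μ (b * θ k) = 1 := by
    apply no_inv H hC h1
    rw [H.u_inv, H.u_inv, H.u_mul, H.u_mul, H.u_mul]
    have e1 : (1 : F) + μ + 1 + μ = 0 := by linear_combination (1 + μ) * H.two
    rw [e1, u_sq, zero_mul, H.u_zero]
  have h3 : H.u 1 b * H.u μ (b * θ k) = H.u μ (b * θ k) * H.u 1 b := by
    calc H.u 1 b * H.u μ (b * θ k) = H.u μ (b * θ k) * H.u 1 b *
          ((H.u 1 b)⁻¹ * (H.u μ (b * θ k))⁻¹ * H.u 1 b * H.u μ (b * θ k)) := by group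
      _ = _ := by rw [h2, mul_one]
  rw [H.u_mul, H.u_mul] at h3
  obtain ⟨-, h4⟩ := H.u_inj h3
  have h5 : θ μ = μ := by
    rw [map_one] at h4
    linear_combination h4
  have hμ0 : μ ≠ 0 := by
    rw [hμ]
    exact mul_ne_zero (pow_ne_zero 2 k.ne_zero) (inv_ne_zero (theta_ne_zero θ k))
  rcases fix_theta H h5 with h6 | h6
  · exact hμ0 h6
  · have h7 := theta_eq_sq H h6
    apply hz1
    have := congrArg Units.val h7
    rwa [hk, Units.val_mk0, Units.val_one] at this

end Two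

/-- **The row of the Suzuki groups.** -/
theorem crow_sz {G : Type*} [Group G] (h : Cfsg.Lie.IsoSuzuki G) (p : ℕ) [hp : Fact p.Prime] : CRow p G := by
  obtain ⟨F, _, _, m, hm, hF, ⟨f⟩⟩ := h
  refine CRow.of_equiv f ?_
  intro C hC c hc
  have hq : 8 ≤ Fintype.card F := by
    rw [hF]
    calc 8 = 2 ^ 3 := by norm_num
      _ ≤ 2 ^ (2 * m + 1) := Nat.pow_le_pow_right (by norm_num) (by omega)
  by_cases hp2 : p = 2
  · subst hp2
    exact row_two (good hF) (real hm hF) (by rw [Nat.card_eq_fintype_card]; omega) hC hc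
  · exact row_odd (good hF) (real hm hF) (by omega) hp2 hC hc

end Cfsg.Agent.H793.CC.Sz
end

-- part: H659/GenReps
section
/-!
# Representatives of the nontrivial `p`-elements, for an arbitrary predicate (helper659, after helper235's `Reps`)

`Q` a predicate closed under conjugation and inversion:

* `heis_reps` : Sylow `p`-subgroup `⟨a, b⟩` extraspecial of order `p ^ 3`, exponent `p`, `p` odd;
* `abel_reps` : Sylow `p`-subgroup `⟨a, b⟩` elementary abelian of order `p ^ 2`, `p` odd;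
* `cyc_reps` : Sylow `p`-subgroup `⟨a⟩` of order `p`, `p` odd.
-/

set_option autoImplicit false

namespace Cfsg.Agent.H659.GenReps

open Subgroup Cfsg Cfsg.Agent.H859

variable {K : Type*} [Group K] {p : ℕ}

/-- `p`-elements are conjugate into a subgroup of index prime to `p` -/
theorem exists_conj_mem [Finite K] [Fact p.Prime] {P : Subgroup K} (hP : IsPGroup p P)
    (hi : ¬ p ∣ P.index) {g : K} {k : ℕ} (hg : orderOf g = p ^ k) : ∃ x : K, x * g * x⁻¹ ∈ P := by
  have h1 : IsPGroup p (zpowers g) := IsPGroup.of_card (n := k) (by rw [Nat.card_zpowers, hg])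
  obtain ⟨Q, hQ⟩ := h1.exists_le_sylow
  obtain ⟨x, hx⟩ := MulAction.exists_smul_eq K Q (hP.toSylow hi)
  refine ⟨x, ?_⟩
  have h2 : (Q : Subgroup K).map (MulAut.conj x).toMonoidHom = P := by
    have := congrArg (fun S : Sylow p K => (S : Subgroup K)) hx
    exact this
  rw [← h2]
  exact ⟨g, hQ (mem_zpowers g), rfl⟩

theorem exists_mul [hp : Fact p.Prime] {i : ℕ} (hi : ¬ p ∣ i) (k : ℕ) : ∃ m : ℕ, m * i ≡ k [MOD p] := by
  have h0 : (i : ZMod p) ≠ 0 := by rwa [Ne, ZMod.natCast_eq_zero_iff]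
  refine ⟨((k : ZMod p) * (i : ZMod p)⁻¹).val, ?_⟩
  rw [← ZMod.natCast_eq_natCast_iff]
  push_cast
  rw [ZMod.natCast_zmod_val, mul_assoc, inv_mul_cancel₀ h0, mul_one]

variable {Q : K → Prop} (hQc : ∀ c x, Q x → Q (c * x * c⁻¹)) (hQi : ∀ x, Q x → Q x⁻¹)

section
include hQc

theorem conj_iff {x : K} (c : K) : Q (c * x * c⁻¹) ↔ Q x := by
  refine ⟨fun h => ?_, hQc c x⟩
  have h1 := hQc c⁻¹ _ h
  have h2 : c⁻¹ * (c * x * c⁻¹) * c⁻¹⁻¹ = x := by group
  rwa [h2] at h1

end

section Heis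

variable [hp : Fact p.Prime] {a b w : K} (h : Heis.Rel p a b w)
include h

omit hp in
theorem conj_b (i j m : ℕ) : b ^ m * (a ^ i * b ^ j) * (b ^ m)⁻¹ = a ^ i * b ^ j * w ^ (m * i) := by
  have c1 : Commute (w ^ (m * i)) (b ^ j) := (show Commute w b from h.bw.symm).pow_pow _ _
  have c2 : Commute (b ^ m) (b ^ j) := Commute.pow_pow (Commute.refl b) m j
  have c3 : Commute (b ^ m) (w ^ (m * i)) := (show Commute b w from h.bw).pow_pow _ _
  rw [mul_inv_eq_iff_eq_mul]
  calc b ^ m * (a ^ i * b ^ j) = (b ^ m * a ^ i) * b ^ j := by group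
    _ = a ^ i * b ^ m * (w ^ (m * i) * b ^ j) := by rw [h.ba2]; group
    _ = a ^ i * (b ^ m * b ^ j) * w ^ (m * i) := by rw [c1.eq]; group
    _ = a ^ i * b ^ j * (b ^ m * w ^ (m * i)) := by rw [c2.eq]; group
    _ = _ := by rw [c3.eq]; group

omit hp in
theorem conj_a (j m : ℕ) : (a ^ m)⁻¹ * b ^ j * a ^ m = b ^ j * w ^ (j * m) := by
  have := h.ba2 j m
  rw [mul_assoc, this]
  group

include hQc in
theorem form {i j k : ℕ} (hij : ¬ (p ∣ i ∧ p ∣ j)) : Q (a ^ i * b ^ j * w ^ k) ↔ Q (a ^ i * b ^ j) := by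
  by_cases hi : p ∣ i
  · have hj : ¬ p ∣ j := fun hj => hij ⟨hi, hj⟩
    have ha : a ^ i = 1 := Heis.pow_eq_one_of h.ap hi
    rw [ha, one_mul]
    obtain ⟨m, hm⟩ := exists_mul hj k
    have h1 := conj_a h j m
    rw [pow_eq_pow_of_modEq (show j * m ≡ k [MOD p] by rw [mul_comm]; exact hm) h.wp] at h1
    rw [← h1]
    have h2 := conj_iff hQc (x := b ^ j) (a ^ m)⁻¹
    rwa [inv_inv] at h2
  · obtain ⟨m, hm⟩ := exists_mul hi k
    have h1 := conj_b h i j m
    rw [pow_eq_pow_of_modEq hm h.wp] at h1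
    rw [← h1]
    exact conj_iff hQc _

include hQc hQi in
theorem inv_form (i j : ℕ) (hi : i ≤ p) (hj : j ≤ p) (hij : ¬ (p ∣ i ∧ p ∣ j)) (h0 : Q (a ^ i * b ^ j)) :
    Q (a ^ (p - i) * b ^ (p - j)) := by
  have h1 : (a ^ i * b ^ j)⁻¹ = a ^ (p - i) * b ^ (p - j) * w ^ ((p - j) * (p - i)) := by
    have ea : (a ^ i)⁻¹ = a ^ (p - i) := by
      rw [inv_eq_iff_mul_eq_one, ← pow_add, Nat.add_sub_cancel' hi, h.ap]
    have eb : (b ^ j)⁻¹ = b ^ (p - j) := by
      rw [inv_eq_iff_mul_eq_one, ← pow_add, Nat.add_sub_cancel' hj, h.bp]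
    rw [mul_inv_rev, ea, eb, h.ba2]
  have h2 := hQi _ h0
  rw [h1] at h2
  refine (form hQc h fun ⟨h2, h3⟩ => hij ⟨?_, ?_⟩).1 h2
  · exact (Nat.dvd_sub_iff_right hi (dvd_refl p)).1 h2
  · exact (Nat.dvd_sub_iff_right hj (dvd_refl p)).1 h3

include hQc hQi in
/-- **Sylow subgroup extraspecial of order `p ^ 3`** -/
theorem heis_reps [Finite K] (hp2 : p ≠ 2) (hc : ¬ p ^ 4 ∣ Nat.card K)
    (hw : ∀ k, 1 ≤ k → 2 * k < p → ¬ Q (w ^ k))
    (hb : ∀ j, 1 ≤ j → 2 * j < p → ¬ Q (b ^ j))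
    (hab : ∀ i j, 1 ≤ i → 2 * i < p → j < p → ¬ Q (a ^ i * b ^ j))
    {x : K} {n : ℕ} (hx : orderOf x = p ^ n) (hx1 : x ≠ 1) : ¬ Q x := by
  intro hP
  have hpo : ∀ k, 2 * k ≠ p := fun k hk => by
    rcases hp.out.eq_two_or_odd with h2 | h2
    · exact hp2 h2
    · omega
  have hi : ¬ p ∣ (Heis.gp h).index := by
    intro h1
    apply hc
    rw [← (Heis.gp h).card_mul_index, Heis.card h, pow_succ]
    exact mul_dvd_mul_left _ h1
  obtain ⟨g, hg⟩ := exists_conj_mem (Heis.isPGroup h) hi hx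
  have hP' := hQc g _ hP
  have ho : g * x * g⁻¹ ≠ 1 := by
    intro h1
    apply hx1
    calc x = g⁻¹ * (g * x * g⁻¹) * g := by group
      _ = 1 := by rw [h1]; group
  obtain ⟨i, j, k, he⟩ := hg
  rw [Heis.pow_red h.ap, Heis.pow_red h.bp, Heis.pow_red h.wp] at he
  have hpos := hp.out.pos
  have hi' := Nat.mod_lt i hpos
  have hj' := Nat.mod_lt j hpos
  have hk' := Nat.mod_lt k hpos
  generalize i % p = i at he hi'
  generalize j % p = j at he hj'
  generalize k % p = k at he hk'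
  rw [he] at hP' ho
  have key : ∀ j, 1 ≤ j → j < p → ¬ Q (b ^ j) := by
    intro j h1 h2 h3
    rcases lt_or_ge (2 * j) p with h4 | h4
    · exact hb j h1 h4 h3
    · have h5 : (b ^ j)⁻¹ = b ^ (p - j) := by
        rw [inv_eq_iff_mul_eq_one, ← pow_add, Nat.add_sub_cancel' h2.le, h.bp]
      have h6 := hQi _ h3
      rw [h5] at h6
      have := hpo j
      exact hb (p - j) (by omega) (by omega) h6
  by_cases hi0 : i = 0
  · subst hi0
    rw [pow_zero, one_mul] at hP' ho
    by_cases hj0 : j = 0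
    · subst hj0
      rw [pow_zero, one_mul] at hP' ho
      have hk0 : k ≠ 0 := by
        rintro rfl
        rw [pow_zero] at ho
        exact ho rfl
      rcases lt_or_ge (2 * k) p with h4 | h4
      · exact hw k (by omega) h4 hP'
      · have h5 : (w ^ k)⁻¹ = w ^ (p - k) := by
          rw [inv_eq_iff_mul_eq_one, ← pow_add, Nat.add_sub_cancel' hk'.le, h.wp]
        have h6 := hQi _ hP'
        rw [h5] at h6
        have := hpo k
        exact hw (p - k) (by omega) (by omega) h6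
    · have h1 : Q (a ^ 0 * b ^ j * w ^ k) := by rw [pow_zero, one_mul]; exact hP'
      rw [form hQc h (fun ⟨_, h2⟩ => hj0 (Nat.eq_zero_of_dvd_of_lt h2 hj')), pow_zero, one_mul] at h1
      exact key j (by omega) hj' h1
  · have hin : ¬ (p ∣ i ∧ p ∣ j) := fun ⟨h2, _⟩ => hi0 (Nat.eq_zero_of_dvd_of_lt h2 hi')
    rw [form hQc h hin] at hP'
    rcases lt_or_ge (2 * i) p with h4 | h4
    · exact hab i j (by omega) h4 hj' hP'
    · have := hpo i
      have hP'' := inv_form hQc hQi h i j hi'.le hj'.le hin hP'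
      by_cases hj0 : j = 0
      · subst hj0
        rw [Nat.sub_zero, h.bp] at hP''
        have h5 := hab (p - i) 0 (by omega) (by omega) hpos
        rw [pow_zero] at h5
        exact h5 hP''
      · exact hab (p - i) (p - j) (by omega) (by omega) (by omega) hP''

end Heis

include hQc hQi

/-- **Sylow subgroup elementary abelian of order `p ^ 2`** -/
theorem abel_reps [Finite K] [hp : Fact p.Prime] {a b : K} (hba : b * a = a * b) (ha : a ^ p = 1) (hb : b ^ p = 1)
    (ha1 : a ≠ 1) (hne : b ∉ zpowers a) (hp2 : p ≠ 2) (hc : ¬ p ^ 3 ∣ Nat.card K)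
    (hbj : ∀ j, 1 ≤ j → 2 * j < p → ¬ Q (b ^ j))
    (hab : ∀ i j, 1 ≤ i → 2 * i < p → j < p → ¬ Q (a ^ i * b ^ j))
    {x : K} {n : ℕ} (hx : orderOf x = p ^ n) (hx1 : x ≠ 1) : ¬ Q x := by
  intro hP
  have cab : Commute a b := hba.symm
  have hpos := hp.out.pos
  have hpo : ∀ k, 2 * k ≠ p := fun k hk => by
    rcases hp.out.eq_two_or_odd with h2 | h2
    · exact hp2 h2
    · omega
  let R : Subgroup K :=
    { carrier := {g | ∃ i j : ℕ, g = a ^ i * b ^ j}
      one_mem' := ⟨0, 0, by simp⟩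
      mul_mem' := by
        rintro _ _ ⟨i, j, rfl⟩ ⟨i', j', rfl⟩
        refine ⟨i + i', j + j', ?_⟩
        have c : Commute (b ^ j) (a ^ i') := cab.symm.pow_pow _ _
        calc a ^ i * b ^ j * (a ^ i' * b ^ j') = a ^ i * (b ^ j * a ^ i') * b ^ j' := by group
          _ = a ^ i * a ^ i' * (b ^ j * b ^ j') := by rw [c.eq]; group
          _ = _ := by rw [← pow_add, ← pow_add]
      inv_mem' := by
        rintro _ ⟨i, j, rfl⟩
        obtain ⟨q, hq⟩ : ∃ q, p = q + 1 := ⟨p - 1, by omega⟩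
        refine ⟨q * i, q * j, ?_⟩
        rw [inv_eq_iff_mul_eq_one]
        have c : Commute (b ^ j) (a ^ (q * i)) := cab.symm.pow_pow _ _
        calc a ^ i * b ^ j * (a ^ (q * i) * b ^ (q * j)) = a ^ i * (b ^ j * a ^ (q * i)) * b ^ (q * j) := by group
          _ = a ^ i * a ^ (q * i) * (b ^ j * b ^ (q * j)) := by rw [c.eq]; group
          _ = 1 := by
            rw [← pow_add, ← pow_add, Heis.pow_eq_one_of ha ⟨i, by rw [hq]; ring⟩,
              Heis.pow_eq_one_of hb ⟨j, by rw [hq]; ring⟩, one_mul] }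
  have hR : IsPGroup p R := by
    rintro ⟨g, i, j, rfl⟩
    refine ⟨1, Subtype.ext ?_⟩
    change (a ^ i * b ^ j) ^ p ^ 1 = 1
    rw [pow_one, (cab.pow_pow i j).mul_pow, ← pow_mul, ← pow_mul, Heis.pow_eq_one_of ha ⟨i, by ring⟩,
      Heis.pow_eq_one_of hb ⟨j, by ring⟩, one_mul]
  have haQ : a ∈ R := ⟨1, 0, by simp⟩
  have hbQ : b ∈ R := ⟨0, 1, by simp⟩
  have hi : ¬ p ∣ R.index := by
    intro h1
    apply hc
    obtain ⟨n, hn⟩ := IsPGroup.iff_card.1 hR
    have hn2 : 2 ≤ n := by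
      by_contra h3
      have hoa : orderOf a = p := orderOf_eq_prime ha ha1
      have h4 : zpowers a = R := by
        refine Subgroup.eq_of_le_of_card_ge (by rwa [zpowers_le]) ?_
        rw [Nat.card_zpowers, hoa, hn]
        calc p ^ n ≤ p ^ 1 := Nat.pow_le_pow_right hpos (by omega)
          _ = p := pow_one p
      exact hne (h4 ▸ hbQ)
    rw [← R.card_mul_index, hn]
    calc p ^ 3 = p ^ 2 * p := by ring
      _ ∣ p ^ n * R.index := mul_dvd_mul (pow_dvd_pow p hn2) h1
  obtain ⟨g, hg⟩ := exists_conj_mem hR hi hx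
  have hP' := hQc g _ hP
  have ho : g * x * g⁻¹ ≠ 1 := by
    intro h1
    apply hx1
    calc x = g⁻¹ * (g * x * g⁻¹) * g := by group
      _ = 1 := by rw [h1]; group
  obtain ⟨i, j, he⟩ := hg
  rw [Heis.pow_red ha, Heis.pow_red hb] at he
  have hi' := Nat.mod_lt i hpos
  have hj' := Nat.mod_lt j hpos
  generalize i % p = i at he hi'
  generalize j % p = j at he hj'
  rw [he] at hP' ho
  by_cases hi0 : i = 0
  · subst hi0
    rw [pow_zero, one_mul] at hP' ho
    have hj0 : j ≠ 0 := by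
      rintro rfl
      rw [pow_zero] at ho
      exact ho rfl
    rcases lt_or_ge (2 * j) p with h4 | h4
    · exact hbj j (by omega) h4 hP'
    · have h5 : (b ^ j)⁻¹ = b ^ (p - j) := by
        rw [inv_eq_iff_mul_eq_one, ← pow_add, Nat.add_sub_cancel' hj'.le, hb]
      have h6 := hQi _ hP'
      rw [h5] at h6
      have := hpo j
      exact hbj (p - j) (by omega) (by omega) h6
  · rcases lt_or_ge (2 * i) p with h4 | h4
    · exact hab i j (by omega) h4 hj' hP'
    · have := hpo i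
      have h5 : (a ^ i * b ^ j)⁻¹ = a ^ (p - i) * b ^ (p - j) := by
        rw [inv_eq_iff_mul_eq_one]
        have c : Commute (b ^ j) (a ^ (p - i)) := cab.symm.pow_pow _ _
        calc a ^ i * b ^ j * (a ^ (p - i) * b ^ (p - j)) = a ^ i * (b ^ j * a ^ (p - i)) * b ^ (p - j) := by group
          _ = a ^ i * a ^ (p - i) * (b ^ j * b ^ (p - j)) := by rw [c.eq]; group
          _ = 1 := by
            rw [← pow_add, ← pow_add, Nat.add_sub_cancel' hi'.le, Nat.add_sub_cancel' hj'.le, ha, hb, one_mul]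
      have h6 := hQi _ hP'
      rw [h5] at h6
      by_cases hj0 : j = 0
      · subst hj0
        rw [Nat.sub_zero, hb] at h6
        have h7 := hab (p - i) 0 (by omega) (by omega) hpos
        rw [pow_zero] at h7
        exact h7 h6
      · exact hab (p - i) (p - j) (by omega) (by omega) (by omega) h6

/-- **Sylow subgroup of order `p`** -/
theorem cyc_reps [Finite K] [hp : Fact p.Prime] {a : K} (ha : a ^ p = 1) (ha1 : a ≠ 1) (hp2 : p ≠ 2)
    (hc : ¬ p ^ 2 ∣ Nat.card K) (hj : ∀ j, 1 ≤ j → 2 * j < p → ¬ Q (a ^ j))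
    {x : K} {n : ℕ} (hx : orderOf x = p ^ n) (hx1 : x ≠ 1) : ¬ Q x := by
  intro hP
  have hpos := hp.out.pos
  have hpo : ∀ k, 2 * k ≠ p := fun k hk => by
    rcases hp.out.eq_two_or_odd with h2 | h2
    · exact hp2 h2
    · omega
  have hoa : orderOf a = p := orderOf_eq_prime ha ha1
  have hR : IsPGroup p (zpowers a) := IsPGroup.of_card (n := 1) (by rw [Nat.card_zpowers, hoa, pow_one])
  have hi : ¬ p ∣ (zpowers a).index := by
    intro h1
    apply hc
    rw [← (zpowers a).card_mul_index, Nat.card_zpowers, hoa, pow_two]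
    exact mul_dvd_mul_left _ h1
  obtain ⟨g, hg⟩ := exists_conj_mem hR hi hx
  have hP' := hQc g _ hP
  have ho : g * x * g⁻¹ ≠ 1 := by
    intro h1
    apply hx1
    calc x = g⁻¹ * (g * x * g⁻¹) * g := by group
      _ = 1 := by rw [h1]; group
  rw [← mem_powers_iff_mem_zpowers] at hg
  obtain ⟨i, he⟩ := hg
  have he : a ^ i = g * x * g⁻¹ := he
  rw [Heis.pow_red ha] at he
  have hi' := Nat.mod_lt i hpos
  generalize i % p = i at he hi'
  rw [← he] at hP' ho
  have hj0 : i ≠ 0 := by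
    rintro rfl
    rw [pow_zero] at ho
    exact ho rfl
  rcases lt_or_ge (2 * i) p with h4 | h4
  · exact hj i (by omega) h4 hP'
  · have h5 : (a ^ i)⁻¹ = a ^ (p - i) := by
      rw [inv_eq_iff_mul_eq_one, ← pow_add, Nat.add_sub_cancel' hi'.le, ha]
    have h6 := hQi _ hP'
    rw [h5] at h6
    have := hpo i
    exact hj (p - i) (by omega) (by omega) h6

end Cfsg.Agent.H659.GenReps
end

-- part: H659/CommCert
section
/-!
# Commutator certificates for S3828 (helper659)

* `KC p x` : all the commutators of `x` with its conjugates have `p`-power order; closed under conjugation and inversion;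
* `not_kc` : the certificate;
* `crow_of_kc` : if no `p`-element `x ≠ 1` has `KC p x` then `CRow p K`; `crow_of_not_dvd` : `p ∤ |K|`.
-/

set_option autoImplicit false

namespace Cfsg.Agent.H659.CommCert

open Subgroup Cfsg Cfsg.Agent.H162.CCR

variable {K : Type*} [Group K] {p : ℕ}

/-- all the commutators of `x` with its conjugates have `p`-power order -/
def KC (p : ℕ) {K : Type*} [Group K] (x : K) : Prop :=
  ∀ g : K, ∃ k, orderOf (x⁻¹ * (g * x * g⁻¹)⁻¹ * x * (g * x * g⁻¹)) = p ^ k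

theorem orderOf_conj' (x c : K) : orderOf (c * x * c⁻¹) = orderOf x := by
  rw [← MulAut.conj_apply, MulEquiv.orderOf_eq]

theorem KC.conj (c x : K) (h : KC p x) : KC p (c * x * c⁻¹) := by
  intro g
  obtain ⟨k, hk⟩ := h (c⁻¹ * g * c)
  refine ⟨k, ?_⟩
  rw [← hk, ← orderOf_conj' (x⁻¹ * (c⁻¹ * g * c * x * (c⁻¹ * g * c)⁻¹)⁻¹ * x * (c⁻¹ * g * c * x * (c⁻¹ * g * c)⁻¹)) c]
  congr 1
  group

theorem KC.inv (x : K) (h : KC p x) : KC p x⁻¹ := by
  intro g
  obtain ⟨k, hk⟩ := h g
  refine ⟨k, ?_⟩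
  rw [← hk, ← orderOf_conj' (x⁻¹ * (g * x * g⁻¹)⁻¹ * x * (g * x * g⁻¹)) (g * x * g⁻¹ * x)]
  congr 1
  group

/-- **certificate** -/
theorem not_kc {x g : K} {n : ℕ} (h : (x⁻¹ * (g * x * g⁻¹)⁻¹ * x * (g * x * g⁻¹)) ^ n = 1)
    (h1 : x⁻¹ * (g * x * g⁻¹)⁻¹ * x * (g * x * g⁻¹) ≠ 1) (hn : Nat.Coprime p n) : ¬ KC p x := by
  intro hx
  obtain ⟨k, hk⟩ := hx g
  apply h1
  rw [← orderOf_eq_one_iff]
  have h2 := orderOf_dvd_of_pow_eq_one h
  rw [hk] at h2
  rw [hk]
  exact Nat.Coprime.eq_one_of_dvd (Nat.Coprime.pow_left k hn) h2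

theorem kc_of_mem {C : Set K} (h : CC p C) {c : K} (hc : c ∈ C) : KC p c := fun g =>
  h.pel _ (h.comm c hc _ (h.conj g c hc))

/-- **the rows** -/
theorem crow_of_kc (h : ∀ (x : K) (n : ℕ), orderOf x = p ^ n → x ≠ 1 → ¬ KC p x) : CRow p K := by
  intro C hC c hc
  by_contra hc1
  obtain ⟨k, hk⟩ := hC.pel c hc
  exact h c k hk hc1 (kc_of_mem hC.toCC hc)

theorem crow_of_not_dvd [hp : Fact p.Prime] (h : ¬ p ∣ Nat.card K) : CRow p K := by
  intro C hC c hc
  obtain ⟨k, hk⟩ := hC.pel c hc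
  rcases Nat.eq_zero_or_pos k with h0 | h0
  · rw [h0, pow_zero, orderOf_eq_one_iff] at hk
    exact hk
  · exfalso
    apply h
    have h1 : p ∣ orderOf c := by rw [hk]; exact dvd_pow_self p h0.ne'
    exact h1.trans (_root_.orderOf_dvd_natCard c)

end Cfsg.Agent.H659.CommCert
end

-- part: H659/CcHe
section
/-!
# S3828: the row of the Held group (helper659)

For `p = 3, 5, 7, 17` and each representative `x` of the elements of order `p` an element `g` such that the commutator of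
`x` and `g x g⁻¹` is not 1 and has order prime to `p`; for `p = 2` the maximal subgroup of `C` would contain `C(z)` and
`2⁶:3.S₆`.
-/

set_option autoImplicit false
set_option maxRecDepth 100000

namespace Cfsg.Agent.H659.CcHe

open Subgroup Cfsg Cfsg.Agent.H859
open Cfsg.Spor.He (Gen)
open Cfsg.Agent.SporadicB.HePerm (act wd phi phi_wd_apply)
open Cfsg.Agent.FixBN.HeStab Cfsg.Agent.KFacts.He.Lv Cfsg.Agent.CpAutHe.Cnt
open Cfsg.Agent.H587.NR.He Cfsg.Agent.H235.AA.He Cfsg.Agent.H659.CommCert Cfsg.Agent.H659.GenReps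

/-- the word of the commutator of `x` and `g x g⁻¹` -/
def cw (X g : List Gen) : List Gen :=
  X.reverse ++ ((g ++ (X.reverse ++ g.reverse)) ++ (X ++ (g ++ (X ++ g.reverse))))

theorem wd_cw (X g : List Gen) : wd (cw X g) =
    (wd X)⁻¹ * (wd g * wd X * (wd g)⁻¹)⁻¹ * wd X * (wd g * wd X * (wd g)⁻¹) := by
  simp only [cw, wd_append, wd_reverse]
  group

/-- the certificate -/
def certC (p : ℕ) (X g : List Gen) (n : ℕ) : Bool :=
  and (chkB (pw (cw X g) n) []) (and (Nat.beq (Nat.gcd p n) 1) (not (chkB (cw X g) [])))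

theorem not_kc_of_cert {p n : ℕ} {X g : List Gen} (h : certC p X g n = true) : ¬ KC p (wd X) := by
  unfold certC at h
  simp only [Bool.and_eq_true] at h
  obtain ⟨h1, h2, h3⟩ := h
  have e1 := eq_of_chkB h1
  rw [wd_pw, wd_nil, wd_cw] at e1
  have e3 : wd (cw X g) ≠ 1 := by
    rw [← wd_nil]
    refine ne_of_chkB ?_
    simpa using h3
  rw [wd_cw] at e3
  exact not_kc (g := wd g) e1 e3 (Nat.eq_of_beq_eq_true h2)

/-- an element of order 17 -/
def X17 : List Gen := [.c, .d, .g, .b]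

theorem kc3_w1 : ¬ KC 3 (wd (pw W3 1)) :=
  not_kc_of_cert (g := [.c]) (n := 2) (by decide +kernel)

theorem kc3_b1 : ¬ KC 3 (wd (pw B3 1)) :=
  not_kc_of_cert (g := [.b]) (n := 2) (by decide +kernel)

theorem kc3_1_0 : ¬ KC 3 (wd (pw A3 1 ++ pw B3 0)) :=
  not_kc_of_cert (g := [.a]) (n := 4) (by decide +kernel)

theorem kc3_1_1 : ¬ KC 3 (wd (pw A3 1 ++ pw B3 1)) :=
  not_kc_of_cert (g := [.b]) (n := 5) (by decide +kernel)

theorem kc3_1_2 : ¬ KC 3 (wd (pw A3 1 ++ pw B3 2)) :=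
  not_kc_of_cert (g := [.b]) (n := 2) (by decide +kernel)

theorem kc5_b1 : ¬ KC 5 (wd (pw B5 1)) :=
  not_kc_of_cert (g := [.b]) (n := 3) (by decide +kernel)

theorem kc5_b2 : ¬ KC 5 (wd (pw B5 2)) :=
  not_kc_of_cert (g := [.b]) (n := 3) (by decide +kernel)

theorem kc5_1_0 : ¬ KC 5 (wd (pw A5 1 ++ pw B5 0)) :=
  not_kc_of_cert (g := [.b]) (n := 2) (by decide +kernel)

theorem kc5_1_1 : ¬ KC 5 (wd (pw A5 1 ++ pw B5 1)) :=
  not_kc_of_cert (g := [.a, .f]) (n := 2) (by decide +kernel)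

theorem kc5_1_2 : ¬ KC 5 (wd (pw A5 1 ++ pw B5 2)) :=
  not_kc_of_cert (g := [.b]) (n := 6) (by decide +kernel)

theorem kc5_1_3 : ¬ KC 5 (wd (pw A5 1 ++ pw B5 3)) :=
  not_kc_of_cert (g := [.a, .f]) (n := 2) (by decide +kernel)

theorem kc5_1_4 : ¬ KC 5 (wd (pw A5 1 ++ pw B5 4)) :=
  not_kc_of_cert (g := [.f]) (n := 2) (by decide +kernel)

theorem kc5_2_0 : ¬ KC 5 (wd (pw A5 2 ++ pw B5 0)) :=
  not_kc_of_cert (g := [.b]) (n := 6) (by decide +kernel)

theorem kc5_2_1 : ¬ KC 5 (wd (pw A5 2 ++ pw B5 1)) :=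
  not_kc_of_cert (g := [.a, .f]) (n := 2) (by decide +kernel)

theorem kc5_2_2 : ¬ KC 5 (wd (pw A5 2 ++ pw B5 2)) :=
  not_kc_of_cert (g := [.a, .f]) (n := 2) (by decide +kernel)

theorem kc5_2_3 : ¬ KC 5 (wd (pw A5 2 ++ pw B5 3)) :=
  not_kc_of_cert (g := [.b]) (n := 2) (by decide +kernel)

theorem kc5_2_4 : ¬ KC 5 (wd (pw A5 2 ++ pw B5 4)) :=
  not_kc_of_cert (g := [.b]) (n := 6) (by decide +kernel)

theorem kc7_w1 : ¬ KC 7 (wd (pw W7 1)) :=
  not_kc_of_cert (g := [.a]) (n := 3) (by decide +kernel)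

theorem kc7_w2 : ¬ KC 7 (wd (pw W7 2)) :=
  not_kc_of_cert (g := [.a]) (n := 2) (by decide +kernel)

theorem kc7_w3 : ¬ KC 7 (wd (pw W7 3)) :=
  not_kc_of_cert (g := [.a]) (n := 3) (by decide +kernel)

theorem kc7_b1 : ¬ KC 7 (wd (pw B7 1)) :=
  not_kc_of_cert (g := [.b]) (n := 3) (by decide +kernel)

theorem kc7_b2 : ¬ KC 7 (wd (pw B7 2)) :=
  not_kc_of_cert (g := [.b]) (n := 2) (by decide +kernel)

theorem kc7_b3 : ¬ KC 7 (wd (pw B7 3)) :=
  not_kc_of_cert (g := [.a]) (n := 4) (by decide +kernel)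

theorem kc7_1_0 : ¬ KC 7 (wd (pw A7 1 ++ pw B7 0)) :=
  not_kc_of_cert (g := [.a]) (n := 4) (by decide +kernel)

theorem kc7_1_1 : ¬ KC 7 (wd (pw A7 1 ++ pw B7 1)) :=
  not_kc_of_cert (g := [.a]) (n := 4) (by decide +kernel)

theorem kc7_1_2 : ¬ KC 7 (wd (pw A7 1 ++ pw B7 2)) :=
  not_kc_of_cert (g := [.a]) (n := 6) (by decide +kernel)

theorem kc7_1_3 : ¬ KC 7 (wd (pw A7 1 ++ pw B7 3)) :=
  not_kc_of_cert (g := [.a]) (n := 4) (by decide +kernel)

theorem kc7_1_4 : ¬ KC 7 (wd (pw A7 1 ++ pw B7 4)) :=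
  not_kc_of_cert (g := [.b]) (n := 4) (by decide +kernel)

theorem kc7_1_5 : ¬ KC 7 (wd (pw A7 1 ++ pw B7 5)) :=
  not_kc_of_cert (g := [.b]) (n := 3) (by decide +kernel)

theorem kc7_1_6 : ¬ KC 7 (wd (pw A7 1 ++ pw B7 6)) :=
  not_kc_of_cert (g := [.a]) (n := 3) (by decide +kernel)

theorem kc7_2_0 : ¬ KC 7 (wd (pw A7 2 ++ pw B7 0)) :=
  not_kc_of_cert (g := [.a]) (n := 3) (by decide +kernel)

theorem kc7_2_1 : ¬ KC 7 (wd (pw A7 2 ++ pw B7 1)) :=
  not_kc_of_cert (g := [.b]) (n := 4) (by decide +kernel)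

theorem kc7_2_2 : ¬ KC 7 (wd (pw A7 2 ++ pw B7 2)) :=
  not_kc_of_cert (g := [.c]) (n := 3) (by decide +kernel)

theorem kc7_2_3 : ¬ KC 7 (wd (pw A7 2 ++ pw B7 3)) :=
  not_kc_of_cert (g := [.b]) (n := 4) (by decide +kernel)

theorem kc7_2_4 : ¬ KC 7 (wd (pw A7 2 ++ pw B7 4)) :=
  not_kc_of_cert (g := [.b]) (n := 3) (by decide +kernel)

theorem kc7_2_5 : ¬ KC 7 (wd (pw A7 2 ++ pw B7 5)) :=
  not_kc_of_cert (g := [.a]) (n := 3) (by decide +kernel)

theorem kc7_2_6 : ¬ KC 7 (wd (pw A7 2 ++ pw B7 6)) :=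
  not_kc_of_cert (g := [.g]) (n := 3) (by decide +kernel)

theorem kc7_3_0 : ¬ KC 7 (wd (pw A7 3 ++ pw B7 0)) :=
  not_kc_of_cert (g := [.a]) (n := 4) (by decide +kernel)

theorem kc7_3_1 : ¬ KC 7 (wd (pw A7 3 ++ pw B7 1)) :=
  not_kc_of_cert (g := [.b]) (n := 4) (by decide +kernel)

theorem kc7_3_2 : ¬ KC 7 (wd (pw A7 3 ++ pw B7 2)) :=
  not_kc_of_cert (g := [.a]) (n := 4) (by decide +kernel)

theorem kc7_3_3 : ¬ KC 7 (wd (pw A7 3 ++ pw B7 3)) :=
  not_kc_of_cert (g := [.c]) (n := 3) (by decide +kernel)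

theorem kc7_3_4 : ¬ KC 7 (wd (pw A7 3 ++ pw B7 4)) :=
  not_kc_of_cert (g := [.a]) (n := 3) (by decide +kernel)

theorem kc7_3_5 : ¬ KC 7 (wd (pw A7 3 ++ pw B7 5)) :=
  not_kc_of_cert (g := [.b]) (n := 4) (by decide +kernel)

theorem kc7_3_6 : ¬ KC 7 (wd (pw A7 3 ++ pw B7 6)) :=
  not_kc_of_cert (g := [.a]) (n := 6) (by decide +kernel)

theorem kc17_a1 : ¬ KC 17 (wd (pw X17 1)) :=
  not_kc_of_cert (g := [.a]) (n := 2) (by decide +kernel)

theorem kc17_a2 : ¬ KC 17 (wd (pw X17 2)) :=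
  not_kc_of_cert (g := [.b]) (n := 3) (by decide +kernel)

theorem kc17_a3 : ¬ KC 17 (wd (pw X17 3)) :=
  not_kc_of_cert (g := [.a]) (n := 3) (by decide +kernel)

theorem kc17_a4 : ¬ KC 17 (wd (pw X17 4)) :=
  not_kc_of_cert (g := [.b]) (n := 2) (by decide +kernel)

theorem kc17_a5 : ¬ KC 17 (wd (pw X17 5)) :=
  not_kc_of_cert (g := [.c]) (n := 2) (by decide +kernel)

theorem kc17_a6 : ¬ KC 17 (wd (pw X17 6)) :=
  not_kc_of_cert (g := [.a]) (n := 5) (by decide +kernel)

theorem kc17_a7 : ¬ KC 17 (wd (pw X17 7)) :=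
  not_kc_of_cert (g := [.f]) (n := 4) (by decide +kernel)

theorem kc17_a8 : ¬ KC 17 (wd (pw X17 8)) :=
  not_kc_of_cert (g := [.a]) (n := 6) (by decide +kernel)

theorem three {x : Cfsg.Spor.He} {n : ℕ} (hx : orderOf x = 3 ^ n) (hx1 : x ≠ 1) : ¬ KC 3 x := by
  have hp : Fact (Nat.Prime 3) := ⟨by norm_num⟩
  refine heis_reps KC.conj KC.inv rel3 (by norm_num) (by rw [card_he]; norm_num) ?_ ?_ ?_ hx hx1
  · intro k h1 h2
    have : k ≤ 1 := by omega
    rw [← wd_pw]
    interval_cases k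
    exacts [kc3_w1]
  · intro k h1 h2
    have : k ≤ 1 := by omega
    rw [← wd_pw]
    interval_cases k
    exacts [kc3_b1]
  · intro i j h1 h2 h3
    have : i ≤ 1 := by omega
    rw [← wd_pw, ← wd_pw, ← wd_append]
    interval_cases i <;> interval_cases j
    exacts [kc3_1_0, kc3_1_1, kc3_1_2]

theorem seven {x : Cfsg.Spor.He} {n : ℕ} (hx : orderOf x = 7 ^ n) (hx1 : x ≠ 1) : ¬ KC 7 x := by
  have hp : Fact (Nat.Prime 7) := ⟨by norm_num⟩
  refine heis_reps KC.conj KC.inv rel7 (by norm_num) (by rw [card_he]; norm_num) ?_ ?_ ?_ hx hx1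
  · intro k h1 h2
    have : k ≤ 3 := by omega
    rw [← wd_pw]
    interval_cases k
    exacts [kc7_w1, kc7_w2, kc7_w3]
  · intro k h1 h2
    have : k ≤ 3 := by omega
    rw [← wd_pw]
    interval_cases k
    exacts [kc7_b1, kc7_b2, kc7_b3]
  · intro i j h1 h2 h3
    have : i ≤ 3 := by omega
    rw [← wd_pw, ← wd_pw, ← wd_append]
    interval_cases i <;> interval_cases j
    exacts [kc7_1_0, kc7_1_1, kc7_1_2, kc7_1_3, kc7_1_4, kc7_1_5, kc7_1_6, kc7_2_0, kc7_2_1, kc7_2_2, kc7_2_3, kc7_2_4, kc7_2_5, kc7_2_6, kc7_3_0, kc7_3_1, kc7_3_2, kc7_3_3, kc7_3_4, kc7_3_5, kc7_3_6]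

theorem five {x : Cfsg.Spor.He} {n : ℕ} (hx : orderOf x = 5 ^ n) (hx1 : x ≠ 1) : ¬ KC 5 x := by
  have hp : Fact (Nat.Prime 5) := ⟨by norm_num⟩
  have r4 : wd A5 ^ 5 = 1 := by
    have h1 := eq_of_chkB (show chkB (pw A5 5) [] = true by decide +kernel)
    rwa [wd_pw, wd_nil] at h1
  refine abel_reps KC.conj KC.inv (a := wd A5) (b := wd B5) ?_ r4 ?_ ?_ ?_ (by norm_num) (by rw [card_he]; norm_num)
    ?_ ?_ hx hx1
  · have h1 := eq_of_chkB (show chkB (B5 ++ A5) (A5 ++ B5) = true by decide +kernel)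
    rwa [wd_append, wd_append] at h1
  · have h1 := eq_of_chkB (show chkB (pw B5 5) [] = true by decide +kernel)
    rwa [wd_pw, wd_nil] at h1
  · rw [← wd_nil]
    exact ne_of_chkB (by decide +kernel)
  · intro h
    rw [← mem_powers_iff_mem_zpowers] at h
    obtain ⟨k, hk⟩ := h
    have hk' : wd A5 ^ k = wd B5 := hk
    rw [Heis.pow_red r4] at hk'
    have hk5 : k % 5 < 5 := Nat.mod_lt _ (by norm_num)
    generalize k % 5 = j at hk' hk5
    revert hk'
    rw [← wd_pw]
    apply ne_of_chkB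
    interval_cases j <;> decide +kernel
  · intro k h1 h2
    have : k ≤ 2 := by omega
    rw [← wd_pw]
    interval_cases k
    exacts [kc5_b1, kc5_b2]
  · intro i j h1 h2 h3
    have : i ≤ 2 := by omega
    rw [← wd_pw, ← wd_pw, ← wd_append]
    interval_cases i <;> interval_cases j
    exacts [kc5_1_0, kc5_1_1, kc5_1_2, kc5_1_3, kc5_1_4, kc5_2_0, kc5_2_1, kc5_2_2, kc5_2_3, kc5_2_4]

theorem seventeen {x : Cfsg.Spor.He} {n : ℕ} (hx : orderOf x = 17 ^ n) (hx1 : x ≠ 1) : ¬ KC 17 x := by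
  have hp : Fact (Nat.Prime 17) := ⟨by norm_num⟩
  refine cyc_reps KC.conj KC.inv (a := wd X17) ?_ ?_ (by norm_num) (by rw [card_he]; norm_num) ?_ hx hx1
  · have h1 := eq_of_chkB (show chkB (pw X17 17) [] = true by decide +kernel)
    rwa [wd_pw, wd_nil] at h1
  · rw [← wd_nil]
    exact ne_of_chkB (by decide +kernel)
  · intro k h1 h2
    have : k ≤ 8 := by omega
    rw [← wd_pw]
    interval_cases k
    exacts [kc17_a1, kc17_a2, kc17_a3, kc17_a4, kc17_a5, kc17_a6, kc17_a7, kc17_a8]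

/-- `p = 2` -/
theorem two : Cfsg.Agent.H162.CCR.CRow 2 Cfsg.Spor.He := by
  have hfin := H70.HeCoat.finG
  have hs : IsSimpleGroup Cfsg.Spor.He := Cfsg.Agent.H235.AA.He.simple
  apply Cfsg.Agent.H162.CCR.CRow.of_comm
  intro C hC
  have hna : ¬ IsMulCommutative Cfsg.Spor.He := Cfsg.Agent.QTUnique.He.noncomm
  obtain ⟨T, hT⟩ := H70.HeCoat.exists_T
  obtain ⟨c, hc, hc1, hcT⟩ := hC.exists_mem_sylow T
  have hM := hC.maxl_ne_top hna hc hc1 hcT
  have hTM := hC.sylow_le_maxl T
  have key : ∀ H : Subgroup Cfsg.Spor.He, H ≠ ⊤ → (T : Subgroup Cfsg.Spor.He) ≤ H →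
      H ≤ Cfsg.Agent.H533.Comm.maxl C T := fun H hH hTH => hC.le_maxl hna hc hc1 hcT hH (hTH hcT)
  set M := Cfsg.Agent.H533.Comm.maxl C T with hMdef
  have hcore : Cfsg.pCore 2 M ≠ ⊥ := by
    intro h0
    have h1 := hC.core M hM c (hTM hcT) hc
    rw [h0, Subgroup.mem_bot] at h1
    exact hc1 (congrArg Subtype.val h1)
  have hle := H70.HeCoat.over_le hT M hTM hcore
  have hne : ∀ H : Subgroup Cfsg.Spor.He, Nat.card H < 4030387200 → H ≠ ⊤ := by
    rintro H hH rfl
    rw [Subgroup.card_top, card_he] at hH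
    exact absurd hH (lt_irrefl _)
  have d1 : 21504 ∣ Nat.card M := by
    rw [← KFacts.He.Cent.card_cent]
    refine card_dvd_of_le (key _ (hne _ (by rw [KFacts.He.Cent.card_cent]; norm_num)) ?_)
    rw [hT, ← KFacts.He.Hyp.hyp.range]
    rintro _ ⟨y, -, rfl⟩
    exact ⟨y, rfl⟩
  have d2 : 138240 ∣ Nat.card M := by
    rw [← H70.HeCoat.card1]
    exact card_dvd_of_le (key _ (hne _ (by rw [H70.HeCoat.card1]; norm_num)) (H70.HeCoat.dat1 hT).T_le)
  have d3 : Nat.lcm 21504 138240 ∣ Nat.card M := Nat.lcm_dvd d1 d2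
  have d4 := Nat.le_of_dvd Nat.card_pos d3
  have d5 : 138240 < Nat.lcm 21504 138240 := by decide +kernel
  exact absurd (d4.trans hle) (not_le.2 d5)

/-- **the row of the Held group** -/
theorem crow_he {G : Type*} [Group G] [Finite G] [IsSimpleGroup G] (h : Spor.IsoHe G) (p : ℕ) [hp : Fact p.Prime] :
    Cfsg.Agent.H162.CCR.CRow p G := by
  obtain ⟨e⟩ := h
  refine Cfsg.Agent.H162.CCR.CRow.of_equiv e ?_
  by_cases hd : p ∣ Nat.card Cfsg.Spor.He
  · rw [card_he, show 4030387200 = 2 ^ 10 * 3 ^ 3 * 5 ^ 2 * 7 ^ 3 * 17 by norm_num] at hd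
    rcases (Nat.Prime.dvd_mul hp.out).1 hd with h1 | h1
    · rcases (Nat.Prime.dvd_mul hp.out).1 h1 with h2 | h2
      · rcases (Nat.Prime.dvd_mul hp.out).1 h2 with h3 | h3
        · rcases (Nat.Prime.dvd_mul hp.out).1 h3 with h4 | h4
          · obtain rfl := (Nat.prime_dvd_prime_iff_eq hp.out Nat.prime_two).1 (hp.out.dvd_of_dvd_pow h4)
            exact two
          · obtain rfl := (Nat.prime_dvd_prime_iff_eq hp.out Nat.prime_three).1 (hp.out.dvd_of_dvd_pow h4)
            exact crow_of_kc fun x n hx hx1 => three hx hx1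
        · obtain rfl := (Nat.prime_dvd_prime_iff_eq hp.out (by norm_num : Nat.Prime 5)).1 (hp.out.dvd_of_dvd_pow h3)
          exact crow_of_kc fun x n hx hx1 => five hx hx1
      · obtain rfl := (Nat.prime_dvd_prime_iff_eq hp.out (by norm_num : Nat.Prime 7)).1 (hp.out.dvd_of_dvd_pow h2)
        exact crow_of_kc fun x n hx hx1 => seven hx hx1
    · obtain rfl := (Nat.prime_dvd_prime_iff_eq hp.out (by norm_num : Nat.Prime 17)).1 h1
      exact crow_of_kc fun x n hx hx1 => seventeen hx hx1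
  · exact crow_of_not_dvd hd

end Cfsg.Agent.H659.CcHe
end

-- part: H593/CC/ThThreeA
section
/-!
# Elements of a Sylow 3-subgroup of the Thompson group commuting with their conjugates (helper593, for S3828)
-/

set_option autoImplicit false
set_option linter.unusedSimpArgs false
set_option linter.unusedVariables false
set_option synthInstance.maxHeartbeats 400000
set_option synthInstance.maxSize 2000

namespace Cfsg.Agent.H593.CCTh

open Cfsg.Agent.H777.Th3 Cfsg.Agent.H777.Th3.Dat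

abbrev F3 := ZMod 3 × ZMod 3 × ZMod 3

variable {G : Type*} [Group G] {D : Dat G}

/-- `[x, y]` lies in `U` and its last three coordinates are `m` -/
def Com (D : Dat G) (x y : G) (m : F3) : Prop := ∃ e : V5, e.2.2 = m ∧ x * y = y * x * D.uu e

theorem Com.mul {x x' y : G} {m m' : F3} (h : Com D x y m) (h' : Com D x' y m') (hx' : x' ∈ D.Tg) :
    Com D (x * x') y (m + m') := by
  obtain ⟨e, he, hh⟩ := h
  obtain ⟨e', he', hh'⟩ := h'
  obtain ⟨a, b, c, d, ha⟩ := act_of_mem_Tg hx'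
  refine ⟨T a b c d e + e', ?_, ?_⟩
  · rw [← he, ← he']
    rfl
  · rw [uu_add, ← ha e]
    calc x * x' * y = x * (x' * y) := by group
      _ = (x * y) * x' * D.uu e' := by rw [hh']; group
      _ = y * x * D.uu e * x' * D.uu e' := by rw [hh]
      _ = y * (x * x') * (x'⁻¹ * D.uu e * x' * D.uu e') := by group

theorem Com.of_uu (e : V5) {y : G} (hy : y ∈ D.Tg) : Com D (D.uu e) y 0 := by
  obtain ⟨a, b, c, d, ha⟩ := act_of_mem_Tg hy
  refine ⟨-e + T a b c d e, ?_, ?_⟩
  · show -e.2.2 + e.2.2 = 0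
    exact neg_add_cancel _
  · rw [uu_add, ← ha e, uu_neg]
    group

theorem Com.one (y : G) : Com D 1 y 0 := ⟨0, rfl, by rw [uu_zero]; group⟩

theorem Com.pow {x y : G} {m : F3} (h : Com D x y m) (hx : x ∈ D.Tg) (n : ℕ) : Com D (x ^ n) y (n • m) := by
  induction n with
  | zero => rw [pow_zero, zero_smul]; exact Com.one y
  | succ n ih => rw [pow_succ, succ_nsmul]; exact ih.mul h hx

theorem Com.symm {x y : G} {m : F3} (h : Com D x y m) : Com D y x (-m) := by
  obtain ⟨e, he, hh⟩ := h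
  exact ⟨-e, by rw [← he]; rfl, by rw [uu_neg, hh]; group⟩

theorem Com.self (x : G) : Com D x x 0 := ⟨0, rfl, by rw [uu_zero, mul_one]⟩

/-- from a relation `x y = y u x` -/
theorem Com.of_rel {x y : G} (hx : x ∈ D.Tg) (e : V5) (h : x * y = y * D.uu e * x) : Com D x y e.2.2 := by
  obtain ⟨a, b, c, d, ha⟩ := act_of_mem_Tg hx
  refine ⟨T a b c d e, rfl, ?_⟩
  rw [h, ← ha e]
  group

theorem com_v1_v2 : Com D D.v1 D.v2 0 := ⟨0, rfl, by rw [uu_zero, mul_one, D.j_v1_v2]⟩

theorem com_v1_r1 : Com D D.v1 D.r1 (2, 1, 0) := by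
  refine Com.of_rel D.v1_Tg (2, 0, 2, 1, 0) ?_
  rw [D.j_v1_r1]
  simp only [uu, ZMod.val_one, ZMod.val_zero, val_two, pow_one, pow_zero, mul_one, one_mul, mul_assoc]

theorem com_v1_r2 : Com D D.v1 D.r2 (2, 0, 2) := by
  refine Com.of_rel D.v1_Tg (2, 2, 2, 0, 2) ?_
  rw [D.j_v1_r2]
  simp only [uu, ZMod.val_one, ZMod.val_zero, val_two, pow_one, pow_zero, mul_one, one_mul, mul_assoc]

theorem com_v2_r1 : Com D D.v2 D.r1 (0, 1, 2) := by
  refine Com.of_rel (D.N_le_Tg D.v2_N) (1, 2, 0, 1, 2) ?_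
  rw [D.j_v2_r1]
  simp only [uu, ZMod.val_one, ZMod.val_zero, val_two, pow_one, pow_zero, mul_one, one_mul, mul_assoc]

theorem com_v2_r2 : Com D D.v2 D.r2 (2, 2, 2) := by
  refine Com.of_rel (D.N_le_Tg D.v2_N) (1, 0, 2, 2, 2) ?_
  rw [D.j_v2_r2]
  simp only [uu, ZMod.val_one, ZMod.val_zero, val_two, pow_one, pow_zero, mul_one, one_mul, mul_assoc]

theorem com_r1_r2 : Com D D.r1 D.r2 (1, 2, 1) := by
  refine Com.of_rel D.r1_Tg (0, 0, 1, 2, 1) ?_
  rw [D.j_r1_r2]
  simp only [uu, ZMod.val_one, ZMod.val_zero, val_two, pow_one, pow_zero, mul_one, one_mul, mul_assoc]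

/-- the commutator with `y` of an element with image `q` -/
def bet (m1 m2 m3 m4 : F3) (q : Q4) : F3 :=
  q.1.val • m1 + q.2.1.val • m2 + q.2.2.1.val • m3 + q.2.2.2.val • m4

theorem com_w4 {y : G} {m1 m2 m3 m4 : F3} (hy : y ∈ D.Tg) (h1 : Com D D.v1 y m1) (h2 : Com D D.v2 y m2)
    (h3 : Com D D.r1 y m3) (h4 : Com D D.r2 y m4) (e : V5) (a b c d : ZMod 3) :
    Com D (D.uu e * D.w4 a b c d) y (bet m1 m2 m3 m4 (a, b, c, d)) := by
  have hv2 : D.v2 ∈ D.Tg := D.N_le_Tg D.v2_N
  have k : Com D (D.w4 a b c d) y (bet m1 m2 m3 m4 (a, b, c, d)) := by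
    unfold w4 bet
    exact (((h1.pow D.v1_Tg _).mul (h2.pow hv2 _) (D.Tg.pow_mem hv2 _)).mul (h3.pow D.r1_Tg _)
      (D.Tg.pow_mem D.r1_Tg _)).mul (h4.pow D.r2_Tg _) (D.Tg.pow_mem D.r2_Tg _)
  have hw : D.w4 a b c d ∈ D.Tg := by
    have : D.uu 0 * D.w4 a b c d ∈ D.Tg := (D.mem_Tg).2 ⟨0, a, b, c, d, rfl⟩
    rwa [uu_zero, one_mul] at this
  have := (Com.of_uu e hy).mul k hw
  rwa [zero_add] at this

/-- the consequence of `x` commuting with `x ^ y` -/
theorem L_of_comm (h1 : D.u1 ≠ 1) {x y : G} (hx : x ∈ D.Tg) {m : F3} (hm : Com D x y m)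
    (hc : x * (y⁻¹ * x * y) = (y⁻¹ * x * y) * x) : L (D.qT x) m = 0 := by
  obtain ⟨e, rfl, hh⟩ := hm
  rw [← fix_iff h1 hx e]
  have h2 : y⁻¹ * x * y = x * D.uu e := by
    rw [mul_assoc, hh]
    group
  rw [h2] at hc
  have h3 : x * (x * D.uu e) = x * (D.uu e * x) := by rw [hc]; group
  exact mul_left_cancel h3

theorem dec_q : ∀ q : Q4, L q (bet 0 (-0) (-(2, 1, 0)) (-(2, 0, 2)) q) = 0 →
    L q (bet 0 0 (-(0, 1, 2)) (-(2, 2, 2)) q) = 0 →
    L q (bet (2, 1, 0) (0, 1, 2) 0 (-(1, 2, 1)) q) = 0 →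
    L q (bet (2, 0, 2) (2, 2, 2) (1, 2, 1) 0 q) = 0 → q = 0 := by
  decide +kernel

theorem mem_U_of_Tg (h1 : D.u1 ≠ 1) {x : G} (hx : x ∈ D.Tg)
    (hc : ∀ s ∈ D.Tg, x * (s⁻¹ * x * s) = (s⁻¹ * x * s) * x) : x ∈ D.U := by
  have hv2 : D.v2 ∈ D.Tg := D.N_le_Tg D.v2_N
  rw [mem_U_iff_qT h1 hx]
  obtain ⟨e, a, b, c, d, rfl⟩ := (D.mem_Tg).1 hx
  have hq := qT_w4 h1 e a b c d
  have k1 := L_of_comm h1 hx (com_w4 D.v1_Tg (Com.self _) com_v1_v2.symm com_v1_r1.symm com_v1_r2.symm e a b c d)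
    (hc _ D.v1_Tg)
  have k2 := L_of_comm h1 hx (com_w4 hv2 com_v1_v2 (Com.self _) com_v2_r1.symm com_v2_r2.symm e a b c d)
    (hc _ hv2)
  have k3 := L_of_comm h1 hx (com_w4 D.r1_Tg com_v1_r1 com_v2_r1 (Com.self _) com_r1_r2.symm e a b c d)
    (hc _ D.r1_Tg)
  have k4 := L_of_comm h1 hx (com_w4 D.r2_Tg com_v1_r2 com_v2_r2 com_r1_r2 (Com.self _) e a b c d)
    (hc _ D.r2_Tg)
  rw [hq] at k1 k2 k3 k4 ⊢
  exact dec_q _ k1 k2 k3 k4

theorem dec_X : ∀ f : ZMod 3, f ≠ 0 → ∀ q : Q4,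
    (Aq q.1 q.2.1 q.2.2.1 q.2.2.2 f ((0, 0, 0, 0, 1) - Aq q.1 q.2.1 q.2.2.1 q.2.2.2 f (0, 0, 0, 0, 1))) ≠
      (0, 0, 0, 0, 1) - Aq q.1 q.2.1 q.2.2.1 q.2.2.2 f (0, 0, 0, 0, 1) := by
  decide +kernel

/-- **An element of `S` commuting with its conjugates lies in `U`.** -/
theorem mem_U_of_comm (h1 : D.u1 ≠ 1) {x : G} (hx : x ∈ D.Sg)
    (hc : ∀ s ∈ D.Sg, x * (s⁻¹ * x * s) = (s⁻¹ * x * s) * x) : x ∈ D.U := by
  refine mem_U_of_Tg h1 ?_ (fun s hs => hc s (D.Tg_le_Sg hs))
  obtain ⟨e, a, b, c, d, f, rfl⟩ := (D.mem_Sg).1 hx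
  set x := D.uu e * D.w4 a b c d * D.x0 ^ (f : ZMod 3).val with hxdef
  by_cases hf : f = 0
  · rw [hxdef, hf, ZMod.val_zero, pow_zero, mul_one]
    exact (D.mem_Tg).2 ⟨e, a, b, c, d, rfl⟩
  exfalso
  have hA : D.Act x (Aq a b c d f) := act_w5 e a b c d f
  refine dec_X f hf (a, b, c, d) ?_
  set v : V5 := (0, 0, 0, 0, 1) with hv
  have h2 := hc (D.uu v) (D.U_le_Sg (D.uu_mem v))
  have h3 : (D.uu v)⁻¹ * x * D.uu v = x * D.uu (v - Aq a b c d f v) := by
    have h4 := hA (-v)
    have h5 : Aq a b c d f (-v) = - Aq a b c d f v := by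
      have h6 := Aq_add a b c d f v (-v)
      rw [add_neg_cancel] at h6
      have h7 : Aq a b c d f 0 = 0 := by
        have h8 := Aq_add a b c d f 0 0
        rw [add_zero] at h8
        exact (left_eq_add.1 h8)
      rw [h7] at h6
      exact (neg_eq_of_add_eq_zero_right h6.symm).symm
    rw [h5, uu_neg] at h4
    calc (D.uu v)⁻¹ * x * D.uu v = x * (x⁻¹ * (D.uu v)⁻¹ * x) * D.uu v := by group
      _ = x * (D.uu (-Aq a b c d f v) * D.uu v) := by rw [h4, mul_assoc]
      _ = x * D.uu (v - Aq a b c d f v) := by rw [← uu_add, sub_eq_add_neg, add_comm]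
  rw [h3] at h2
  have h4 : x * D.uu (v - Aq a b c d f v) = D.uu (v - Aq a b c d f v) * x :=
    mul_left_cancel (a := x) (by rw [h2]; group)
  apply uu_injective h1
  rw [← hA, mul_assoc, ← h4, inv_mul_cancel_left]

end Cfsg.Agent.H593.CCTh
end

-- part: H593/CC/ThThree
section
/-!
# S3828, the row of the Thompson group at `p = 3` (helper593)
-/

set_option autoImplicit false

namespace Cfsg.Agent.H593.CCTh

open Cfsg Subgroup Cfsg.Agent.H162.CCR Cfsg.Agent.H777.Th3 Cfsg.Agent.H777.Th3.Dat Cfsg.Agent.H478.ThThree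
open Cfsg.Agent.H478.RadTh (fin card_Th center_Th simple radFree_invol)
open Cfsg.Agent.H459.Rad Cfsg.Agent.H839.Rad

theorem not_comm_Th : ¬ IsMulCommutative Spor.Th := by
  intro h
  have h1 : center Spor.Th = ⊤ := by
    rw [eq_top_iff]
    intro x _
    rw [mem_center_iff]
    intro y
    exact h.is_comm.comm y x
  rw [center_Th] at h1
  have h2 : Nat.card (⊥ : Subgroup Spor.Th) = Nat.card (⊤ : Subgroup Spor.Th) := by rw [h1]
  rw [Subgroup.card_bot, Subgroup.card_top, card_Th] at h2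
  norm_num at h2

/-- the Sylow 3-subgroup -/
theorem exists_sylow : ∃ P : Sylow 3 Spor.Th, (P : Subgroup Spor.Th) = thDat.Sg := by
  have := fin
  have h3 : Fact (Nat.Prime 3) := ⟨Nat.prime_three⟩
  obtain ⟨P, hP⟩ := (isPGroup_Sg th_u1_ne).exists_le_sylow
  refine ⟨P, (Subgroup.eq_of_le_of_card_ge hP ?_).symm⟩
  rw [card_Sg th_u1_ne, Sylow.card_eq_multiplicity, card_Th]
  have h4 : (90745943887872000 : ℕ).factorization 3 = 10 := by
    have e : (90745943887872000 : ℕ) = 3 ^ 10 * 1536790528000 := by norm_num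
    rw [e, Nat.factorization_mul (by norm_num) (by norm_num), Finsupp.add_apply, Nat.factorization_pow,
      Finsupp.smul_apply, Nat.prime_three.factorization_self,
      Nat.factorization_eq_zero_of_not_dvd (by norm_num)]
    rfl
  rw [h4]

/-- **Th, p = 3.** -/
theorem three : CRow 3 Spor.Th := by
  have := fin
  have := simple
  have h3 : Fact (Nat.Prime 3) := ⟨Nat.prime_three⟩
  intro C hC c hc
  by_contra hc1
  have hO : pCore 3 Spor.Th = ⊥ := pCore_eq_bot_of_simple not_comm_Th 3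
  obtain ⟨P, hP⟩ := exists_sylow
  obtain ⟨d, hd, hd1, hdP⟩ := hC.exists_mem_sylow hc hc1 P
  obtain ⟨e, he, he1, heP, hcomm⟩ := hC.exists_central hd hd1 hdP
  have heS : e ∈ thDat.Sg := by rw [← hP]; exact heP
  have heU : e ∈ thDat.U := by
    refine mem_U_of_comm th_u1_ne heS (fun s hs => ?_)
    refine hcomm _ (hC.conj_mem' s he) ?_
    rw [hP]
    exact thDat.Sg.mul_mem (thDat.Sg.mul_mem (thDat.Sg.inv_mem hs) heS) hs
  obtain ⟨v, rfl⟩ := (thDat.mem_U).1 heU
  have ho : orderOf (thDat.uu v) = 3 := orderOf_eq_prime (thDat.uu_cube v) he1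
  obtain ⟨t, ht, hxt⟩ := exists_invol ho
  refine false_of_comm ho (Cfsg.Agent.H341.CC.rc_of_min hC he) ?_ hxt
    (radFree_invol Nat.prime_three (by norm_num) ht)
  rw [center_Th, Subgroup.mem_bot]
  intro h
  rw [h, orderOf_one] at ht
  exact absurd ht (by norm_num)

end Cfsg.Agent.H593.CCTh
end

private theorem dce_786a85684bfa : _root_.True := by
  try have : _root_.True := by simp only [_root_.Cfsg.Agent.H659.CcHe.cw.eq_1]
  exact _root_.True.intro
end

-- part: H184/CC/Fi_mg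
section
set_option linter.all false
open scoped Cfsg.Agent.FastGrp

-- part: H184/CC/Fi
section
/-!
# S3828: the rows `Fi22` and `Fi23` (helper184)

`p` odd: `eq_one_of_srg` on the 3-transpositions. `p = 2`: `Fi22`: direct argument with the 3-transpositions; `Fi23`: the
normaliser `2^11.M23`.
-/

set_option autoImplicit false
set_option maxRecDepth 100000

namespace Cfsg.Agent.H184.CCFi

open Subgroup Cfsg Cfsg.Agent.H162.CCR Cfsg.Agent.Lib.Cores Cfsg.Agent.Fischer480.Defs Cfsg.Agent.H184.CCGen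

section Fi22

open Cfsg.Agent.R01.FiFusion Cfsg.Agent.StdFi22.TLev
open Cfsg.Agent.OddHalf.D4.Spor.Fi22 (inv_cases comm_tri kt)
open Cfsg.Agent.StdFi22.MainFi22 (bas)
open Cfsg.Agent.R08.AutT (T)

theorem card_fi22 : Nat.card Spor.Fi22 = 64561751654400 := Cfsg.Agent.S1696.result.2

theorem finite_fi22 : Finite Spor.Fi22 := Cfsg.Agent.CTwoTab.Fi22.finite

theorem simple_fi22 : IsSimpleGroup Spor.Fi22 := Cfsg.Agent.S1696.result.1

theorem na_fi22 : ¬ IsMulCommutative Spor.Fi22 := Cfsg.Agent.StdFi22.MainFi22.not_comm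

theorem quasi_cent {d : Spor.Fi22} (hd : d ∈ T) : IsQuasisimple ↥(centralizer ({d} : Set Spor.Fi22)) ∧
    Nat.card ↥(center ↥(centralizer ({d} : Set Spor.Fi22))) = 2 ∧ centralizer ({d} : Set Spor.Fi22) ≠ ⊤ := by
  obtain ⟨b, c, ht⟩ := Cfsg.Agent.StdFi22.MainFi22.bas.exists_tri hd
  obtain ⟨R, F⟩ := Cfsg.Agent.CTwoTab.Fi22.facts hd ht.my ht.xy ht.cxy
  refine ⟨F.quasi, Cfsg.Agent.CTwoTab.Fi22.card_center F, fun h => ?_⟩
  have h1 := Cfsg.Agent.CTwoTab.Fi22.card_cent F
  rw [h, card_top, card_fi22] at h1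
  norm_num at h1

theorem odd22 {p : ℕ} [hp : Fact p.Prime] (hp2 : p ≠ 2) : CRow p Spor.Fi22 := by
  intro C h
  have := finite_fi22
  have h6 : IsT6 T := H830.Con22.isT6
  refine eq_one_of_srg hp2 h (E := T) kt.nonempty ?_ kt.conj ?_ (k := 693) (l := 180) (m := 126)
    (fun x hx => (TSp.UCount.numbers_six (h6.2.1 x hx)).1)
    (fun x hx y hy => (TSp.UCount.numbers_six (h6.2.1 x hx)).2.1 y hy) h6.2.2 (r := 63) (s := -9) (by norm_num)
    (by norm_num) (by norm_num) (by norm_num)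
  · intro d hd
    exact orderOf_eq_prime (by rw [pow_two]; exact kt.sq d hd) (kt.ne1 d hd)
  · intro d hd
    obtain ⟨h1, h2, h3⟩ := quasi_cent hd
    refine ⟨h3, pCore_eq_bot_of_quasisimple h1 ?_⟩
    rw [h2]
    exact fun h => hp2 ((Nat.prime_dvd_prime_iff_eq hp.out Nat.prime_two).1 h)

/-- an involution commuting with `a`, `b` and all transpositions commuting with `a`, `b` -/
theorem cases_inv {a b f : Spor.Fi22} (ha : a ∈ T) (hb : b ∈ T) (hab : a ≠ b) (cab : a * b = b * a)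
    (hff : f * f = 1) (hf1 : f ≠ 1)
    (hX : ∀ x ∈ T, x * a = a * x → x * b = b * x → x * f = f * x) : f = a ∨ f = b ∨ f = a * b := by
  -- a transposition commuting with `T ∩ C(a) ∩ C(b)`
  have key : ∀ y ∈ T, (∀ x ∈ T, x * a = a * x → x * b = b * x → x * y = y * x) → y = a ∨ y = b := by
    intro y hy hX'
    by_contra hne
    push Not at hne
    have h1 := hX' a ha rfl cab
    have h2 := hX' b hb cab.symm rfl
    obtain ⟨x, hx, k1, k2, k3⟩ := bas.config (a := a) (b := b) (c := y)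
      ⟨ha, hb, hy, hab, hne.1.symm, hne.2.symm, cab, h1, h2⟩
    exact k3 (hX' x hx k1 k2)
  rcases inv_cases hff hf1 with h1 | ⟨x, hx, y, hy, hxy, cxy, rfl⟩ | ⟨x, y, w, ht, rfl⟩
  · rcases key f h1 hX with h2 | h2
    · exact Or.inl h2
    · exact Or.inr (Or.inl h2)
  · right; right
    have h1 := key x hx fun t ht k1 k2 => (bas.comm_of_pair hx hy ht hxy cxy (hX t ht k1 k2)).1
    have h2 := key y hy fun t ht k1 k2 => (bas.comm_of_pair hx hy ht hxy cxy (hX t ht k1 k2)).2
    rcases h1 with rfl | rfl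
    · rcases h2 with rfl | rfl
      · exact absurd rfl hxy
      · rfl
    · rcases h2 with rfl | rfl
      · exact cab.symm
      · exact absurd rfl hxy
  · exfalso
    have h1 := key x ht.mx fun t htT k1 k2 => (comm_tri bas ht htT (hX t htT k1 k2)).1
    have h2 := key y ht.my fun t htT k1 k2 => (comm_tri bas ht htT (hX t htT k1 k2)).2.1
    have h3 := key w ht.mw fun t htT k1 k2 => (comm_tri bas ht htT (hX t htT k1 k2)).2.2
    have n1 := ht.xy
    have n2 := ht.xw
    have n3 := ht.yw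
    rcases h1 with h1 | h1 <;> rcases h2 with h2 | h2 <;> rcases h3 with h3 | h3
    · exact n1 (h1.trans h2.symm)
    · exact n1 (h1.trans h2.symm)
    · exact n2 (h1.trans h3.symm)
    · exact n3 (h2.trans h3.symm)
    · exact n3 (h2.trans h3.symm)
    · exact n2 (h1.trans h3.symm)
    · exact n1 (h1.trans h2.symm)
    · exact n1 (h1.trans h2.symm)

theorem two22 : CRow 2 Spor.Fi22 := by
  intro C h c hc
  have := finite_fi22
  have := simple_fi22
  have hfact : Fact (Nat.Prime 2) := ⟨Nat.prime_two⟩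
  have hO : pCore 2 Spor.Fi22 = ⊥ := pCore_eq_bot_of_simple na_fi22 2
  by_contra hc1
  -- `c` commutes with no transposition
  have F0 : ∀ d ∈ T, c * d ≠ d * c := by
    intro d hd hcd
    obtain ⟨h1, h2, h3⟩ := quasi_cent hd
    have hcm : c ∈ centralizer ({d} : Set Spor.Fi22) := mem_centralizer_singleton_iff.2 hcd
    have h4 := pCore_le_center_of_quasisimple (p := 2) h1 (h.loc _ h3 c hc hcm)
    have h5 : (⟨⟨c, hcm⟩, h4⟩ : center ↥(centralizer ({d} : Set Spor.Fi22))) ^ 2 = 1 := by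
      rw [← h2]
      exact pow_card_eq_one'
    have h6 : c ^ 2 = 1 := congrArg (fun t : center ↥(centralizer ({d} : Set Spor.Fi22)) =>
      ((t : ↥(centralizer ({d} : Set Spor.Fi22))) : Spor.Fi22)) h5
    rw [pow_two] at h6
    exact hc1 (h.sq_ne_one hO hc h6)
  -- the conjugates
  have conjT : ∀ x ∈ T, c⁻¹ * x * c ∈ T := by
    intro x hx
    have := kt.conj c⁻¹ x hx
    rwa [inv_inv] at this
  -- commuting with the conjugate
  have F2 : ∀ d ∈ T, d * (c⁻¹ * d * c) = (c⁻¹ * d * c) * d → c⁻¹ * (c⁻¹ * d * c) * c = d := by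
    intro d hd hcd
    exact conj_sq_eq h hO hc (kt.sq d hd) (kt.three _ (conjT _ (conjT _ hd)) _ hd) hcd
  have ne : ∀ d ∈ T, d ≠ c⁻¹ * d * c := by
    intro d hd h1
    apply F0 d hd
    calc c * d = c * (c⁻¹ * d * c) := by rw [← h1]
      _ = d * c := by group
  -- the involution `f`
  obtain ⟨k, hk⟩ := h.pel c hc
  obtain ⟨k', rfl⟩ : ∃ k', k = k' + 2 := by
    rcases k with _ | _ | k
    · rw [pow_zero] at hk
      exact absurd (orderOf_eq_one_iff.1 hk) hc1
    · exfalso
      apply hc1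
      apply h.sq_ne_one hO hc
      rw [← pow_two]
      have := pow_orderOf_eq_one c
      rw [hk] at this
      simpa using this
    · exact ⟨k, rfl⟩
  obtain ⟨f, hf⟩ : ∃ f, f = (c * c) ^ 2 ^ k' := ⟨_, rfl⟩
  have hfc : f = c ^ 2 ^ (k' + 1) := by
    rw [hf, ← pow_two, ← pow_mul]
    congr 1
    rw [pow_succ]
    ring
  have hff : f * f = 1 := by
    rw [hfc, ← pow_add]
    have e : 2 ^ (k' + 1) + 2 ^ (k' + 1) = orderOf c := by rw [hk]; ring
    rw [e, pow_orderOf_eq_one]
  have hf1 : f ≠ 1 := by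
    rw [hfc]
    intro h1
    have h2 := orderOf_dvd_of_pow_eq_one h1
    rw [hk] at h2
    have h3 := (Nat.pow_dvd_pow_iff_le_right (by norm_num : 1 < 2)).1 h2
    omega
  have hcf : c * f = f * c := by rw [hfc, ← pow_succ, ← pow_succ']
  -- `f` commutes with `d` if `d` commutes with its conjugate
  have F3 : ∀ d ∈ T, d * (c⁻¹ * d * c) = (c⁻¹ * d * c) * d → d * f = f * d := by
    intro d hd hcd
    have h1 := F2 d hd hcd
    have h2 : Commute (c * c) d := by
      show c * c * d = d * (c * c)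
      calc c * c * d = c * c * (c⁻¹ * (c⁻¹ * d * c) * c) := by rw [h1]
        _ = d * (c * c) := by group
    rw [hf]
    exact (h2.pow_left _).eq.symm
  -- the first step of the induction
  have F4 : ∀ a ∈ T, a * (c⁻¹ * a * c) = (c⁻¹ * a * c) * a → ∀ x ∈ T, x * a = a * x →
      x * (c⁻¹ * a * c) = (c⁻¹ * a * c) * x → x * (c⁻¹ * x * c) = (c⁻¹ * x * c) * x := by
    intro a ha hca x hx hxa hxb
    obtain ⟨b, hb⟩ : ∃ b, b = c⁻¹ * a * c := ⟨_, rfl⟩
    rw [← hb] at hca hxb
    have hbb : c⁻¹ * b * c = a := by rw [hb]; exact F2 a ha (by rw [← hb]; exact hca)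
    -- `c` commutes with `a b`
    have hcz : c * (a * b) = a * b * c := by
      have h1 : c⁻¹ * (a * b) * c = a * b := by
        calc c⁻¹ * (a * b) * c = (c⁻¹ * a * c) * (c⁻¹ * b * c) := by group
          _ = b * a := by rw [← hb, hbb]
          _ = a * b := hca.symm
      calc c * (a * b) = c * (c⁻¹ * (a * b) * c) := by rw [h1]
        _ = a * b * c := by group
    have hxz : x * (a * b) = a * b * x := by
      calc x * (a * b) = (x * a) * b := by group
        _ = a * (x * b) := by rw [hxa]; group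
        _ = a * b * x := by rw [hxb]; group
    have hz1 : centralizer ({a * b} : Set Spor.Fi22) ≠ ⊤ := by
      intro h1
      have h2 : a * b = 1 := by
        apply Cfsg.Agent.StdFi22.MainFi22.center_eq
        intro y
        have h3 : y ∈ centralizer ({a * b} : Set Spor.Fi22) := by rw [h1]; trivial
        exact (mem_centralizer_singleton_iff.1 h3).symm
      apply ne a ha
      rw [← hb]
      calc a = a * (b * b) := by rw [kt.sq b (by rw [hb]; exact conjT a ha), mul_one]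
        _ = (a * b) * b := by group
        _ = b := by rw [h2, one_mul]
    have hcN := h.loc _ hz1 c hc (mem_centralizer_singleton_iff.2 hcz)
    have hxC : x ∈ centralizer ({a * b} : Set Spor.Fi22) := mem_centralizer_singleton_iff.2 hxz
    obtain ⟨X, hX⟩ : ∃ X : ↥(centralizer ({a * b} : Set Spor.Fi22)), (X : Spor.Fi22) = x := ⟨⟨x, hxC⟩, rfl⟩
    obtain ⟨Y, hY⟩ : ∃ Y : ↥(centralizer ({a * b} : Set Spor.Fi22)), (Y : Spor.Fi22) = c :=
      ⟨⟨c, mem_centralizer_singleton_iff.2 hcz⟩, rfl⟩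
    have hYN : Y ∈ pCore 2 ↥(centralizer ({a * b} : Set Spor.Fi22)) := by
      have : Y = ⟨c, mem_centralizer_singleton_iff.2 hcz⟩ := Subtype.ext hY
      rw [this]
      exact hcN
    have hN : (pCore 2 ↥(centralizer ({a * b} : Set Spor.Fi22))).Normal := inferInstance
    have h1 : X * Y⁻¹ * X⁻¹ * Y ∈ pCore 2 ↥(centralizer ({a * b} : Set Spor.Fi22)) :=
      mul_mem (hN.conj_mem _ (inv_mem hYN) X) hYN
    obtain ⟨j, hj⟩ := (pCore_isPGroup (G := ↥(centralizer ({a * b} : Set Spor.Fi22))) 2) ⟨_, h1⟩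
    have h2 : (x * (c⁻¹ * x * c)) ^ 2 ^ j = 1 := by
      have h3 := congrArg (fun t : pCore 2 ↥(centralizer ({a * b} : Set Spor.Fi22)) =>
        ((t : ↥(centralizer ({a * b} : Set Spor.Fi22))) : Spor.Fi22)) hj
      have h4 : (x * c⁻¹ * x⁻¹ * c) ^ 2 ^ j = 1 := by
        have h5 : ((X : Spor.Fi22) * (Y : Spor.Fi22)⁻¹ * (X : Spor.Fi22)⁻¹ * (Y : Spor.Fi22)) ^ 2 ^ j = 1 := by
          simpa using h3
        rwa [hX, hY] at h5
      have h5 : x⁻¹ = x := inv_eq_of_mul_eq_one_left (kt.sq x hx)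
      rw [h5] at h4
      have h6 : x * (c⁻¹ * x * c) = x * c⁻¹ * x * c := by group
      rw [h6]
      exact h4
    exact comm_of_two (kt.sq x hx) (kt.sq _ (conjT x hx)) (kt.three x hx _ (conjT x hx)) h2
  -- a transposition commuting with its conjugate
  obtain ⟨a, ha, hca⟩ : ∃ a ∈ T, a * (c⁻¹ * a * c) = (c⁻¹ * a * c) * a := by
    obtain ⟨P, hP⟩ := (h.isPGroup_zpowers hc).exists_le_sylow
    have hcP : c ∈ (P : Subgroup Spor.Fi22) := hP (Subgroup.mem_zpowers c)
    obtain ⟨t, ht⟩ := kt.nonempty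
    have htp : IsPGroup 2 (Subgroup.zpowers t) :=
      IsPGroup.of_card (n := 1) (by
        rw [Nat.card_zpowers, pow_one]
        exact orderOf_eq_prime (by rw [pow_two]; exact kt.sq t ht) (kt.ne1 t ht))
    obtain ⟨Q, hQ⟩ := htp.exists_le_sylow
    obtain ⟨g, hg⟩ := MulAction.exists_smul_eq Spor.Fi22 Q P
    have h1 : g * t * g⁻¹ ∈ (P : Subgroup Spor.Fi22) := by
      rw [← hg]
      exact mem_smul_sylow (hQ (Subgroup.mem_zpowers t))
    refine ⟨g * t * g⁻¹, kt.conj g t ht, ?_⟩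
    have hgt := kt.conj g t ht
    have h2 : g * t * g⁻¹ * (c⁻¹ * (g * t * g⁻¹) * c) ∈ (P : Subgroup Spor.Fi22) :=
      mul_mem h1 (mul_mem (mul_mem (inv_mem hcP) h1) hcP)
    obtain ⟨j, hj⟩ := P.2 ⟨_, h2⟩
    refine comm_of_two (kt.sq _ hgt) (kt.sq _ (conjT _ hgt)) (kt.three _ hgt _ (conjT _ hgt)) (k := j) ?_
    exact congrArg Subtype.val hj
  -- `f = a a^c`
  have F5 : ∀ a ∈ T, a * (c⁻¹ * a * c) = (c⁻¹ * a * c) * a → f = a * (c⁻¹ * a * c) := by
    intro a ha hca
    rcases cases_inv ha (conjT a ha) (ne a ha) hca hff hf1 (fun x hx k1 k2 => F3 x hx (F4 a ha hca x hx k1 k2))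
      with h1 | h1 | h1
    · exfalso
      apply F0 a ha
      rw [← h1]
      exact hcf
    · exfalso
      apply F0 _ (conjT a ha)
      rw [← h1]
      exact hcf
    · exact h1
  obtain ⟨x, hx, k1, k2, k3, k4⟩ := kt.nb a ha _ (conjT a ha)
  have h1 := F5 a ha hca
  have h2 := F5 x hx (F4 a ha hca x hx k3 k4)
  rcases kt.uniq a ha _ (conjT a ha) x hx _ (conjT x hx) (ne a ha) hca (F4 a ha hca x hx k3 k4)
    (h1.symm.trans h2) with h3 | h3
  · exact k1 h3
  · exact k2 h3

/-- **Row `Fi22`** -/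
theorem crow_fi22 {p : ℕ} [hp : Fact p.Prime] {K : Type*} [Group K] (h : Spor.IsoFi22 K) : CRow p K := by
  obtain ⟨e⟩ := h
  refine CRow.of_equiv e ?_
  by_cases hp2 : p = 2
  · subst hp2
    exact two22
  · exact odd22 hp2

end Fi22

section Fi23

open Cfsg.Agent.KFacts.FiTTh
open Cfsg.Agent.Fischer.Fi23Z (z0)

theorem card_fi23 : Nat.card Spor.Fi23 = 4089470473293004800 := Cfsg.Agent.S1697.result.2

theorem finite_fi23 : Finite Spor.Fi23 := Nat.finite_of_card_ne_zero (by rw [card_fi23]; norm_num)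

theorem simple_fi23 : IsSimpleGroup Spor.Fi23 := Cfsg.Agent.S1697.result.1

theorem na_fi23 : ¬ IsMulCommutative Spor.Fi23 := by
  intro hm
  have := simple_fi23
  have := finite_fi23
  let _ : CommGroup Spor.Fi23 := { (inferInstance : Group Spor.Fi23) with mul_comm := hm.is_comm.comm }
  have h := IsSimpleGroup.prime_card (α := Spor.Fi23)
  rw [card_fi23] at h
  norm_num at h

theorem card_center23 : Nat.card ↥(center ↥(centralizer ({z0} : Set Spor.Fi23))) = 2 := by
  have h := Quasi.cover.1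
  rw [Cent.K_eq] at h
  exact h

theorem z0_ne_one : (z0 : Spor.Fi23) ≠ 1 := by
  intro h
  have h1 := card_center23
  have h2 : centralizer ({z0} : Set Spor.Fi23) = ⊤ := by
    rw [h, eq_top_iff]
    intro x _
    exact mem_centralizer_singleton_iff.2 (by rw [mul_one, one_mul])
  have := simple_fi23
  have h4 : center Spor.Fi23 = ⊤ := by
    rcases (inferInstance : (center Spor.Fi23).Normal).eq_bot_or_eq_top with h3 | h3
    · exfalso
      have h5 : Subsingleton ↥(center ↥(centralizer ({z0} : Set Spor.Fi23))) := by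
        refine ⟨fun x y => ?_⟩
        have key : ∀ x : ↥(center ↥(centralizer ({z0} : Set Spor.Fi23))),
            ((x : ↥(centralizer ({z0} : Set Spor.Fi23))) : Spor.Fi23) = 1 := by
          intro x
          have h6 : ((x : ↥(centralizer ({z0} : Set Spor.Fi23))) : Spor.Fi23) ∈ center Spor.Fi23 := by
            rw [mem_center_iff]
            intro g
            have hg : g ∈ centralizer ({z0} : Set Spor.Fi23) := by rw [h2]; trivial
            exact congrArg Subtype.val (mem_center_iff.1 x.2 ⟨g, hg⟩)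
          rw [h3, mem_bot] at h6
          exact h6
        apply Subtype.ext
        apply Subtype.ext
        rw [key x, key y]
      have h7 := Nat.card_of_subsingleton (1 : ↥(center ↥(centralizer ({z0} : Set Spor.Fi23))))
      omega
    · exact h3
  apply na_fi23
  exact ⟨⟨fun x y => (mem_center_iff.1 (by rw [h4]; exact mem_top y : y ∈ center Spor.Fi23) x)⟩⟩

theorem cent_z0 {p : ℕ} [hp : Fact p.Prime] (hp2 : p ≠ 2) : centralizer ({z0} : Set Spor.Fi23) ≠ ⊤ ∧
    pCore p ↥(centralizer ({z0} : Set Spor.Fi23)) = ⊥ := by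
  have := finite_fi23
  constructor
  · intro h
    have h1 : z0 ∈ center Spor.Fi23 := by
      rw [mem_center_iff]
      intro g
      have hg : g ∈ centralizer ({z0} : Set Spor.Fi23) := by rw [h]; trivial
      exact mem_centralizer_singleton_iff.1 hg
    have := simple_fi23
    rcases (inferInstance : (center Spor.Fi23).Normal).eq_bot_or_eq_top with h3 | h3
    · rw [h3, mem_bot] at h1
      exact z0_ne_one h1
    · apply na_fi23
      exact ⟨⟨fun x y => (mem_center_iff.1 (by rw [h3]; exact mem_top y : y ∈ center Spor.Fi23) x)⟩⟩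
  · refine pCore_eq_bot_of_quasisimple Quasi.qs ?_
    rw [card_center23]
    exact fun h => hp2 ((Nat.prime_dvd_prime_iff_eq hp.out Nat.prime_two).1 h)

/-- conjugate elements have isomorphic centralizers -/
theorem cent_conj {G : Type*} [Group G] [Finite G] {p : ℕ} {x y : G} (h : IsConj x y)
    (hx : centralizer ({x} : Set G) ≠ ⊤ ∧ pCore p ↥(centralizer ({x} : Set G)) = ⊥) :
    centralizer ({y} : Set G) ≠ ⊤ ∧ pCore p ↥(centralizer ({y} : Set G)) = ⊥ := by
  obtain ⟨g, rfl⟩ := isConj_iff.1 h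
  have key : ∀ z : G, z ∈ centralizer ({x} : Set G) → g * z * g⁻¹ ∈ centralizer ({g * x * g⁻¹} : Set G) := by
    intro z hz
    rw [mem_centralizer_singleton_iff] at hz ⊢
    calc g * z * g⁻¹ * (g * x * g⁻¹) = g * (z * x) * g⁻¹ := by group
      _ = g * x * g⁻¹ * (g * z * g⁻¹) := by rw [hz]; group
  have key' : ∀ z : G, z ∈ centralizer ({g * x * g⁻¹} : Set G) → g⁻¹ * z * g ∈ centralizer ({x} : Set G) := by
    intro z hz
    rw [mem_centralizer_singleton_iff] at hz ⊢
    calc g⁻¹ * z * g * x = g⁻¹ * (z * (g * x * g⁻¹)) * g := by group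
      _ = x * (g⁻¹ * z * g) := by rw [hz]; group
  constructor
  · intro h1
    apply hx.1
    rw [eq_top_iff]
    intro z _
    have h2 : g * z * g⁻¹ ∈ centralizer ({g * x * g⁻¹} : Set G) := by rw [h1]; trivial
    have h3 := key' _ h2
    have e : g⁻¹ * (g * z * g⁻¹) * g = z := by group
    rwa [e] at h3
  · let f : ↥(centralizer ({g * x * g⁻¹} : Set G)) ≃* ↥(centralizer ({x} : Set G)) :=
      { toFun := fun z => ⟨g⁻¹ * z * g, key' _ z.2⟩
        invFun := fun z => ⟨g * z * g⁻¹, key _ z.2⟩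
        left_inv := fun z => by ext; show g * (g⁻¹ * z * g) * g⁻¹ = z; group
        right_inv := fun z => by ext; show g⁻¹ * (g * z * g⁻¹) * g = z; group
        map_mul' := fun a b => by ext; show g⁻¹ * (a * b) * g = g⁻¹ * a * g * (g⁻¹ * b * g); group }
    rw [eq_bot_iff]
    intro z hz
    have h1 := pCore_of_equiv f hz
    rw [hx.2, mem_bot] at h1
    rw [mem_bot]
    exact f.injective (by rw [h1, map_one])

theorem odd23 {p : ℕ} [hp : Fact p.Prime] (hp2 : p ≠ 2) : CRow p Spor.Fi23 := by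
  intro C h
  have := finite_fi23
  have h7 : IsT7 R08.FiTwentyThree.D := H816.Quasi.isT7_of H830.Con22.isT6
  have hz := cent_z0 hp2
  refine eq_one_of_srg hp2 h (E := R08.FiTwentyThree.D) ?_ ?_ ?_ ?_ (k := 3510) (l := 693) (m := 351)
    (fun x hx => (h7.2.1 x hx).1)
    (fun x hx y hy => (TSp.UCount.numbers_six ((h7.2.1 x hx).2.1 y hy)).1) h7.2.2 (r := 351) (s := -9) (by norm_num)
    (by norm_num) (by norm_num) (by norm_num)
  · have : 0 < (R08.FiTwentyThree.D).ncard := by rw [h7.1]; norm_num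
    exact Set.nonempty_of_ncard_ne_zero this.ne'
  · intro d hd
    obtain ⟨g, hg⟩ := isConj_iff.1 (show IsConj Fischer.Fi23Z.z0 d from hd)
    have h2 : orderOf d = orderOf Fischer.Fi23Z.z0 := by
      rw [← hg]
      exact orderOf_injective (MulAut.conj g).toMonoidHom (MulAut.conj g).injective _
    rw [h2]
    exact orderOf_eq_prime (by rw [pow_two]; exact KFacts.FiTTh.Cent.zz) z0_ne_one
  · intro g d hd
    exact R08.FiTwentyThree.conj_mem_D hd g
  · intro d hd
    exact cent_conj (show IsConj Fischer.Fi23Z.z0 d from hd) hz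

/-- `M23` is the point stabiliser in `M24`. -/
def mulEquiv23 : Spor.M23 ≃* ↥(MulAction.stabilizer M24 (none : GolayPt)) where
  toFun g := ⟨⟨g.1, g.2.1⟩, g.2.2⟩
  invFun g := ⟨(g.1 : Equiv.Perm GolayPt), g.1.2, g.2⟩
  left_inv _ := rfl
  right_inv _ := rfl
  map_mul' _ _ := rfl

theorem simple_M23 : IsSimpleGroup Spor.M23 := by
  have := Cfsg.Agent.S0377.result (none : GolayPt)
  exact (MulEquiv.isSimpleGroup_congr mulEquiv23).2 this

theorem two23 : CRow 2 Spor.Fi23 := by
  intro C h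
  have := finite_fi23
  have := simple_fi23
  have hfact : Fact (Nat.Prime 2) := ⟨Nat.prime_two⟩
  have hO : pCore 2 Spor.Fi23 = ⊥ := pCore_eq_bot_of_simple na_fi23 2
  have B := Has.base
  have hcard := B.cardN
  refine h.eq_one_of_two_exp hO (H := normalizer (BasDef.A BasFi.e : Set Spor.Fi23)) ?_ Has.odd ?_
  · intro h1
    rw [h1, card_top, card_fi23] at hcard
    norm_num at hcard
  · intro x hx
    have hs : IsSimpleGroup Spor.M23 := simple_M23
    have hN : ((pCore 2 ↥(normalizer (BasDef.A BasFi.e : Set Spor.Fi23))).map B.ind).Normal :=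
      Subgroup.Normal.map inferInstance _ B.ind_surj
    rcases hN.eq_bot_or_eq_top with h1 | h1
    · have h2 : B.ind x ∈ (pCore 2 ↥(normalizer (BasDef.A BasFi.e : Set Spor.Fi23))).map B.ind := ⟨x, hx, rfl⟩
      rw [h1, mem_bot] at h2
      have h3 := (B.ind_ker x).1 h2
      exact Subtype.ext (B.sq_A h3)
    · exfalso
      have h2 : IsPGroup 2 ((pCore 2 ↥(normalizer (BasDef.A BasFi.e : Set Spor.Fi23))).map B.ind) :=
        (pCore_isPGroup 2).map _
      rw [h1] at h2
      have h3 : IsPGroup 2 Spor.M23 := h2.of_equiv Subgroup.topEquiv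
      obtain ⟨n, hn⟩ := (IsPGroup.iff_card.1 h3)
      rw [Cfsg.Agent.SporadicA.MathieuRecog.card_M23] at hn
      have h5 : 3 ∣ 2 ^ n := by rw [← hn]; norm_num
      have h6 := Nat.prime_three.dvd_of_dvd_pow h5
      norm_num at h6

/-- **Row `Fi23`** -/
theorem crow_fi23 {p : ℕ} [hp : Fact p.Prime] {K : Type*} [Group K] (h : Spor.IsoFi23 K) : CRow p K := by
  obtain ⟨e⟩ := h
  refine CRow.of_equiv e ?_
  by_cases hp2 : p = 2
  · subst hp2
    exact two23
  · exact odd23 hp2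

end Fi23

end Cfsg.Agent.H184.CCFi
end

-- part: H174/CC/Heis
section
/-!
# S3828: the prime 5 with a Sylow subgroup of order 125 and exponent 5 (helper174, for helper162)

* `not_mem_of_comm` : `x ∉ C` if some commutator `[x, x^g] ≠ 1` has order prime to `p`;
* `heis_five` : Sylow 5-subgroup `⟨a, b⟩`, `b a = a b w`: if `w`, `b`, `a b^j` (`j < 5`) do not lie in `C` then `C` is trivial.
-/

set_option autoImplicit false

namespace Cfsg.Agent.H174.CC

open Subgroup Cfsg Cfsg.Agent.H162.CCR Cfsg.Agent.H859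

variable {G : Type*} [Group G] {C : Set G}

/-- **certificate**: a commutator of `x` and a conjugate of `x` which is no `p`-element -/
theorem not_mem_of_comm {p : ℕ} (h : CC p C) {x g : G} {n : ℕ}
    (hn : (x⁻¹ * (g * x * g⁻¹)⁻¹ * x * (g * x * g⁻¹)) ^ n = 1)
    (h1 : x⁻¹ * (g * x * g⁻¹)⁻¹ * x * (g * x * g⁻¹) ≠ 1) (hc : Nat.Coprime p n) : x ∉ C := by
  intro hx
  obtain ⟨k, hk⟩ := h.pel _ (h.comm x hx _ (h.conj g x hx))
  apply h1
  rw [← orderOf_eq_one_iff]
  have h2 := orderOf_dvd_of_pow_eq_one hn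
  rw [hk] at h2
  rw [hk]
  exact Nat.Coprime.eq_one_of_dvd (Nat.Coprime.pow_left k hc) h2

/-- powers -/
theorem pow_mem_C (h : CC 5 C) {x : G} (hx : x ∈ C) (h5 : x ^ 5 = 1) {m : ℕ} (hm : ¬ 5 ∣ m) : x ^ m ∈ C := by
  have h2 := h.sq rfl x hx
  have h4 := h.sq rfl _ h2
  have h8 := h.sq rfl _ h4
  rw [← pow_mul] at h4 h8
  rw [← pow_mul] at h8
  rw [Heis.pow_red h5]
  have h3 : x ^ (2 * 2 * 2) = x ^ 3 := Heis.pow_red h5 _
  rw [h3] at h8
  have h6 : m % 5 < 5 := Nat.mod_lt _ (by norm_num)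
  have h7 : m % 5 ≠ 0 := fun h => hm (Nat.dvd_of_mod_eq_zero h)
  generalize m % 5 = r at h6 h7 ⊢
  interval_cases r
  · exact absurd rfl h7
  · rwa [pow_one]
  · exact h2
  · exact h8
  · exact h4

theorem exists_inv_mod {i : ℕ} (hi : ¬ 5 ∣ i) : ∃ n : ℕ, ¬ 5 ∣ n ∧ n * i % 5 = 1 := by
  have h7 : i % 5 ≠ 0 := fun h => hi (Nat.dvd_of_mod_eq_zero h)
  have h6 : i % 5 < 5 := Nat.mod_lt _ (by norm_num)
  have key : ∀ r : ℕ, r < 5 → r ≠ 0 → ∃ n : ℕ, ¬ 5 ∣ n ∧ n * r % 5 = 1 := by
    intro r h1 h2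
    interval_cases r
    · exact absurd rfl h2
    · exact ⟨1, by norm_num, by norm_num⟩
    · exact ⟨3, by norm_num, by norm_num⟩
    · exact ⟨2, by norm_num, by norm_num⟩
    · exact ⟨4, by norm_num, by norm_num⟩
  obtain ⟨n, hn, hn1⟩ := key _ h6 h7
  refine ⟨n, hn, ?_⟩
  rw [Nat.mul_mod]
  rw [Nat.mul_mod, Nat.mod_mod] at hn1
  exact hn1

section

variable {a b w : G} (h : Heis.Rel 5 a b w)
include h

/-- `a b^j w^k` is conjugate to `a b^j` -/
theorem mem_a (hC : CC 5 C) {j k : ℕ} (hx : a * b ^ j * w ^ k ∈ C) : a * b ^ j ∈ C := by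
  have h1 := hC.conj (b ^ k)⁻¹ _ hx
  have h2 : (b ^ k)⁻¹ * (a * b ^ j * w ^ k) * (b ^ k)⁻¹⁻¹ = a * b ^ j := by
    have h3 := h.ba2 k 1
    rw [pow_one, mul_one] at h3
    have c1 : Commute (w ^ k) (b ^ j) := (show Commute w b from h.bw.symm).pow_pow _ _
    have c2 : Commute (b ^ k) (b ^ j) := Commute.pow_pow (Commute.refl b) k j
    have c3 : Commute (w ^ k) (b ^ k) := (show Commute w b from h.bw.symm).pow_pow _ _
    rw [inv_inv, mul_assoc, inv_mul_eq_iff_eq_mul]
    calc a * b ^ j * w ^ k * b ^ k = a * b ^ j * (w ^ k * b ^ k) := by group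
      _ = a * (b ^ j * b ^ k) * w ^ k := by rw [c3.eq]; group
      _ = a * b ^ k * (b ^ j * w ^ k) := by rw [← c2.eq]; group
      _ = (a * b ^ k * w ^ k) * b ^ j := by rw [← c1.eq]; group
      _ = b ^ k * (a * b ^ j) := by rw [← h3]; group
  rwa [h2] at h1

/-- `b w^k` is conjugate to `b` -/
theorem mem_b (hC : CC 5 C) {k : ℕ} (hx : b * w ^ k ∈ C) : b ∈ C := by
  have h1 := hC.conj (a ^ k) _ hx
  have h2 : a ^ k * (b * w ^ k) * (a ^ k)⁻¹ = b := by
    have h3 := h.ba2 1 k
    rw [pow_one, one_mul] at h3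
    rw [mul_inv_eq_iff_eq_mul, h3]
    group
  rwa [h2] at h1

/-- **The prime 5.** -/
theorem heis_five [Finite G] (hC : Min 5 C) (hcard : ¬ 5 ^ 4 ∣ Nat.card G) (hw : w ∉ C) (hb : b ∉ C)
    (hab : ∀ j < 5, a * b ^ j ∉ C) : ∀ c ∈ C, c = 1 := by
  have hp : Fact (Nat.Prime 5) := ⟨by norm_num⟩
  intro c hc
  by_contra hc1
  have hi : ¬ 5 ∣ (Heis.gp h).index := by
    intro h1
    apply hcard
    rw [← (Heis.gp h).card_mul_index, Heis.card h, pow_succ]
    exact mul_dvd_mul_left _ h1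
  obtain ⟨g, hg⟩ := hC.exists_conj_mem hi hc
  have hx5 : (g * c * g⁻¹) ^ 5 = 1 := Heis.pow_p h (by norm_num) hg
  have hxC : g * c * g⁻¹ ∈ C := hC.conj g c hc
  have hx1 : g * c * g⁻¹ ≠ 1 := fun h1 => hc1 (by simpa using h1)
  obtain ⟨i, j, k, he⟩ := hg
  rw [he] at hx5 hxC hx1
  by_cases hi0 : 5 ∣ i
  · rw [Heis.pow_eq_one_of h.ap hi0, one_mul] at hx5 hxC hx1
    by_cases hj0 : 5 ∣ j
    · rw [Heis.pow_eq_one_of h.bp hj0, one_mul] at hx5 hxC hx1
      by_cases hk0 : 5 ∣ k
      · exact hx1 (Heis.pow_eq_one_of h.wp hk0)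
      · obtain ⟨n, hn, hn1⟩ := exists_inv_mod hk0
        have h1 := pow_mem_C hC.toCC hxC hx5 hn
        rw [← pow_mul, Heis.pow_red h.wp, mul_comm, hn1, pow_one] at h1
        exact hw h1
    · obtain ⟨n, hn, hn1⟩ := exists_inv_mod hj0
      have h1 := pow_mem_C hC.toCC hxC hx5 hn
      have h2 := h.pow 0 j k n
      rw [pow_zero, one_mul, mul_zero, pow_zero, one_mul, mul_zero, zero_mul, add_zero,
        Heis.pow_red h.bp (n * j), hn1, pow_one] at h2
      rw [h2] at h1
      exact hb (mem_b h hC.toCC h1)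
  · obtain ⟨n, hn, hn1⟩ := exists_inv_mod hi0
    have h1 := pow_mem_C hC.toCC hxC hx5 hn
    rw [h.pow, Heis.pow_red h.ap (n * i), hn1, pow_one] at h1
    have h2 := mem_a h hC.toCC h1
    rw [Heis.pow_red h.bp] at h2
    exact hab _ (Nat.mod_lt _ (by norm_num)) h2

end

end Cfsg.Agent.H174.CC
end

-- part: H174/CC/Ru
section
/-!
# S3828: the row of the Rudvalis group (helper174, for helper162)

p = 2: the 2-local overgroups of a Sylow 2-subgroup lie in `N(Z)` or `C(z)`; p = 3, 13: `²F₄(2)'`; p = 5: commutators of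
explicit elements; p = 7: `N(Z)`; p = 29: two classes of involutions.
-/

set_option autoImplicit false
set_option maxRecDepth 100000
set_option exponentiation.threshold 5000

namespace Cfsg.Agent.H174.CC.Ru

section
open Cfsg.Agent.Lib Cfsg.Agent.Lib.BitNet Cfsg.Agent.SporadicB Cfsg.Agent.SporRec.TCUpperCert Cfsg.Agent.SporRec.R3.Kernel
open Cfsg.Agent.RuD.Letters

/-! ### the letters as tables -/

/-- the table (16 bits for each point) of the inverse position map of a network on 4096 points -/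
private noncomputable def tabN (l : List (ℕ × ℕ)) : ℕ :=
  transp 8 (pack (fun r => Nat.shiftRight (forceN (Nat.mod r 16) fun j => BitNetSimple.appMF l (idxMask 12 j))
    (Nat.mul 256 (Nat.div r 16))) 256 8 0)

/-- look up -/
private def lkN (T i : ℕ) : ℕ :=
  Nat.mod (Nat.shiftRight T (Nat.add (Nat.mul 256 (Nat.mod i 256)) (Nat.mul 16 (Nat.div i 256)))) 4096

private theorem lkN_tabN {l : List (ℕ × ℕ)} (h : Valid l) {i : ℕ} (hi : i < 4096) (h2 : appInv l i < 4096) :
    lkN (tabN l) i = appInv l i := by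
  apply Nat.eq_of_testBit_eq
  intro j
  show ((tabN l >>> (256 * (i % 256) + 16 * (i / 256))) % 2 ^ 12).testBit j = _
  rw [Nat.testBit_mod_two_pow, Nat.testBit_shiftRight]
  by_cases hj : j < 12
  · have e1 : 256 * (i % 256) + 16 * (i / 256) + j = 2 ^ 8 * (i % 256) + (16 * (i / 256) + j) := by omega
    have e2 : (0 + (16 * (i / 256) + j)) % 16 = j := by omega
    have e3 : 256 * ((0 + (16 * (i / 256) + j)) / 16) + i % 256 = i := by omega
    have a1 : i % 256 < 2 ^ 8 := by omega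
    have a2 : 16 * (i / 256) + j < 2 ^ 8 := by omega
    have e4 := testBit_pack (fun r => Nat.shiftRight (forceN (Nat.mod r 16) fun j => BitNetSimple.appMF l (idxMask 12 j))
      (Nat.mul 256 (Nat.div r 16))) (w := 256) 8 0 a2 a1
    have e5 := (testBit_transp (K := 8) _ a1 a2).trans e4
    rw [e1, decide_eq_true hj, Bool.true_and]
    refine e5.trans ?_
    show ((forceN ((0 + (16 * (i / 256) + j)) % 16) fun j => BitNetSimple.appMF l (idxMask 12 j)) >>>
      (256 * ((0 + (16 * (i / 256) + j)) / 16))).testBit (i % 256) = _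
    rw [Nat.testBit_shiftRight, e3, e2, forceN_eq, BitNetSimple.appMF_eq, testBit_appM' h, testBit_idxMask hj,
      decide_eq_true (show appInv l i < 2 ^ 12 from h2), Bool.true_and]
  · rw [decide_eq_false hj, Bool.false_and]
    exact (Nat.testBit_lt_two_pow (lt_of_lt_of_le (show appInv l i < 2 ^ 12 from h2)
      (Nat.pow_le_pow_right (by norm_num) (not_lt.1 hj)))).symm

private theorem lkN_app {l : List (ℕ × ℕ)} (h : OkNet 4060 l) {i : ℕ} (hi : i < 4060) :
    lkN (tabN l.reverse) i = app l i ∧ app l i < 4060 := by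
  have e : appInv l.reverse i = app l i := by rw [← BitNetSimple.app_reverse, List.reverse_reverse]
  have h1 := (h.lt_iff i).2 hi
  exact ⟨by rw [lkN_tabN (BitNetSimple.okNet_reverse h).valid (by omega) (by omega), e], h1⟩

/-- the tables of the letters -/
private noncomputable def tabL : List ℕ := NL.map fun l => tabN l.reverse

private theorem tabL_eq : tabL = NL.map fun l => tabN l.reverse := rfl

/-- one letter -/
private noncomputable def stT (a i : ℕ) : ℕ :=
  List.rec (motive := fun _ => ℕ → ℕ) (fun _ => i)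
    (fun T _ ih a => Nat.rec (motive := fun _ => ℕ) (lkN T i) (fun b _ => ih b) a) tabL a

private theorem stT_eq (a : ℕ) {i : ℕ} (hi : i < 4060) : stT a i = appK (nthL NL a) i ∧ stT a i < 4060 := by
  have key : ∀ (L : List (List (ℕ × ℕ))), (∀ l ∈ L, OkNet 4060 l) → ∀ a : ℕ,
      List.rec (motive := fun _ => ℕ → ℕ) (fun _ => i)
        (fun T _ ih a => Nat.rec (motive := fun _ => ℕ) (lkN T i) (fun b _ => ih b) a)
        (L.map fun l => tabN l.reverse) a = app (nthL L a) i ∧ app (nthL L a) i < 4060 := by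
    intro L
    induction L with
    | nil => exact fun _ _ => ⟨rfl, hi⟩
    | cons l L ih =>
      intro h a
      cases a with
      | zero => exact lkN_app (h l List.mem_cons_self) hi
      | succ a => exact ih (fun m hm => h m (List.mem_cons_of_mem _ hm)) a
  have hN : ∀ l ∈ NL, OkNet 4060 l :=
    List.forall_mem_cons.2 ⟨okNet_sound okT, List.forall_mem_cons.2 ⟨okNet_sound okS,
    List.forall_mem_cons.2 ⟨okNet_sound okW, List.forall_mem_cons.2 ⟨okNet_sound okF,
    List.forall_mem_cons.2 ⟨okNet_sound okD, List.forall_mem_cons.2 ⟨okNet_sound okY,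
    List.forall_mem_cons.2 ⟨BitNetSimple.okNet_reverse (okNet_sound okS),
    List.forall_mem_cons.2 ⟨BitNetSimple.okNet_reverse (okNet_sound okF),
    List.forall_mem_cons.2 ⟨BitNetSimple.okNet_reverse (okNet_sound okD), List.forall_mem_nil _⟩⟩⟩⟩⟩⟩⟩⟩⟩
  have h := key NL hN a
  rw [← tabL_eq] at h
  rw [appK_eq]
  exact ⟨h.1, lt_of_eq_of_lt h.1 h.2⟩

/-- `evalK` on the tables -/
private noncomputable def evalT (w : List ℕ) (i : ℕ) : ℕ :=
  List.rec (motive := fun _ => ℕ) i (fun a _ ih => forceN ih (stT a)) w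

private theorem evalT_eq (w : List ℕ) {i : ℕ} (hi : i < 4060) : evalT w i = evalK w i ∧ evalT w i < 4060 := by
  induction w with
  | nil => exact ⟨rfl, hi⟩
  | cons a w ih =>
    show forceN (evalT w i) (stT a) = forceN (evalK w i) (appK (nthL NL a)) ∧ forceN (evalT w i) (stT a) < 4060
    rw [forceN_eq, forceN_eq, ← ih.1]
    exact stT_eq a ih.2

/-- `chkRel` on the tables -/
private noncomputable def chkT (rels : List (List ℕ)) : Bool :=
  allL (fun r => allL (fun b => Nat.beq (evalT r b) b) [0, 29, 580, 577]) rels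

private theorem chk_of_T {rels : List (List ℕ)} (h : chkT rels = true) : chkRel rels = true := by
  refine (allL_iff _ _).2 fun r hr => (allL_iff _ _).2 fun b hb => ?_
  have h1 := (allL_iff _ _).1 ((allL_iff _ _).1 h r hr) b hb
  have h2 : b < 4060 := (by decide : ∀ b ∈ [0, 29, 580, 577], b < 4060) b hb
  rw [(evalT_eq r h2).1] at h1
  exact h1

private theorem rel_of_T {rels : List (List ℕ)} (h : chkT rels = true) : ∀ r ∈ rels, wprod ml r = 1 :=
  rel_of_chk (chk_of_T h)

end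

open Subgroup Cfsg Cfsg.Agent.H162.CCR Cfsg.Agent.Lib.Cores Cfsg.Agent.H859 Cfsg.Agent.H174.CC
open Cfsg.Agent.SporadicB Cfsg.Agent.SporadicB.RuOrder Cfsg.Agent.SporRec.TCUpperCert Cfsg.Agent.SporRec.R3.Kernel
  Cfsg.Agent.RuD.Letters Cfsg.Agent.H978.RadRu

/-! ### The prime 5 -/

/-- the commutator word -/
noncomputable def cw (u ui v vi : List ℕ) : List ℕ := ui ++ ((v ++ (ui ++ vi)) ++ (u ++ (v ++ (u ++ vi))))

/-- the certificate -/
noncomputable def chkC (b : ℕ) (u ui v vi : List ℕ) (n : ℕ) : Bool :=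
  and (and (Nat.beq (Nat.gcd 5 n) 1) (and (Nat.ble (Nat.succ b) 4060) (not (Nat.beq (evalK (cw u ui v vi) b) b))))
    (chkT [v ++ vi, u ++ ui, rep n (cw u ui v vi)])

theorem not_mem_of_chk {C : Set RuOrder.H} (hC : CC 5 C) {b : ℕ} {u ui v vi : List ℕ} {n : ℕ}
    (h : chkC b u ui v vi n = true) : (wprod ml u : RuOrder.H) ∉ C := by
  unfold chkC at h
  rw [Bool.and_eq_true, Bool.and_eq_true, Bool.and_eq_true] at h
  obtain ⟨⟨hn, hb, h0⟩, hr⟩ := h
  have hr' := rel_of_T hr
  have r1 := hr' (v ++ vi) (by simp)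
  have r2 := hr' (u ++ ui) (by simp)
  have r3 := hr' (rep n (cw u ui v vi)) (by simp)
  have h1 := ne_one_of (Nat.le_of_ble_eq_true hb) (by simpa using h0)
  rw [wprod_rep] at r3
  rw [wprod_append] at r1 r2
  have hvi : wprod ml vi = (wprod ml v)⁻¹ := (inv_eq_of_mul_eq_one_right r1).symm
  have hui : wprod ml ui = (wprod ml u)⁻¹ := (inv_eq_of_mul_eq_one_right r2).symm
  have e : wprod ml (cw u ui v vi) = (wprod ml u)⁻¹ * (wprod ml v * wprod ml u * (wprod ml v)⁻¹)⁻¹ * wprod ml u *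
      (wprod ml v * wprod ml u * (wprod ml v)⁻¹) := by
    simp only [cw, wprod_append, hvi, hui]
    group
  rw [e] at r3 h1
  exact not_mem_of_comm hC r3 h1 (Nat.eq_of_beq_eq_true hn)

def wai : List ℕ := [0, 5, 0, 3, 6, 5, 8, 3, 5, 7, 6, 4, 3, 0, 5, 7]
def wbi : List ℕ := [0, 3, 1, 4, 0, 5, 7, 5, 7, 4, 5, 7, 6, 7, 5, 1]
def wci : List ℕ := [6, 7, 6, 3, 5, 4]

theorem rel : Heis.Rel 5 (wprod ml wb : RuOrder.H) (wprod ml wa) (wprod ml wc) := by
  have hr := rel_of_chk chk_rels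
  have r1 := hr (rep 5 wa) (by simp)
  have r2 := hr (rep 5 wb) (by simp)
  have r3 := hr (rep 5 wc) (by simp)
  have e1 : wprod ml (wa ++ wc) = wprod ml (wc ++ wa) := eq_of_chkEqW (by decide +kernel)
  have e2 : wprod ml (wb ++ wc) = wprod ml (wc ++ wb) := eq_of_chkEqW (by decide +kernel)
  have e3 : wprod ml (wa ++ wb) = wprod ml (wb ++ (wa ++ wc)) := eq_of_chkEqW (by decide +kernel)
  simp only [wprod_rep, wprod_append] at r1 r2 r3 e1 e2 e3
  rw [← mul_assoc] at e3
  exact ⟨r2, r1, r3, e2, e1, e3, ne_one_of (b := 29) (by norm_num) (by decide +kernel)⟩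

theorem kc : chkC 0 (wc) (wci) [1] [6] 2 = true := by decide +kernel

theorem kb : chkC 0 (wa) (wai) [2, 5] [5, 2] 4 = true := by decide +kernel

theorem k0 : chkC 0 (wb ++ rep 0 wa) (rep 0 wai ++ wbi) [2, 7] [3, 2] 6 = true := by decide +kernel

theorem k1 : chkC 0 (wb ++ rep 1 wa) (rep 1 wai ++ wbi) [2, 1] [6, 2] 6 = true := by decide +kernel

theorem k2 : chkC 0 (wb ++ rep 2 wa) (rep 2 wai ++ wbi) [2, 3] [7, 2] 2 = true := by decide +kernel

theorem k3 : chkC 0 (wb ++ rep 3 wa) (rep 3 wai ++ wbi) [4] [8] 6 = true := by decide +kernel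

theorem k4 : chkC 0 (wb ++ rep 4 wa) (rep 4 wai ++ wbi) [1, 3] [7, 6] 7 = true := by decide +kernel

theorem crow_five : CRow 5 RuOrder.H := by
  have hf : Finite RuOrder.H := Nat.finite_of_card_ne_zero (by rw [card_H]; norm_num)
  intro C hC
  have e : ∀ j : ℕ, wprod ml wb * wprod ml wa ^ j = wprod ml (wb ++ rep j wa) := fun j => by
    rw [wprod_append, wprod_rep]
  have h0 := not_mem_of_chk hC.toCC k0
  have h1 := not_mem_of_chk hC.toCC k1
  have h2 := not_mem_of_chk hC.toCC k2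
  have h3 := not_mem_of_chk hC.toCC k3
  have h4 := not_mem_of_chk hC.toCC k4
  rw [← e] at h0 h1 h2 h3 h4
  refine heis_five rel hC (by rw [card_H]; norm_num) (not_mem_of_chk hC.toCC kc) (not_mem_of_chk hC.toCC kb) ?_
  intro j hj
  have hj' : j = 0 ∨ j = 1 ∨ j = 2 ∨ j = 3 ∨ j = 4 := by omega
  rcases hj' with rfl | rfl | rfl | rfl | rfl
  exacts [h0, h1, h2, h3, h4]

/-! ### The primes 3 and 13 -/

theorem not_comm_of_card {K : Type*} [Group K] [IsSimpleGroup K] [Finite K] (h : ¬ (Nat.card K).Prime) :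
    ¬ IsMulCommutative K := by
  intro hc
  let inst : CommGroup K := { (inferInstance : Group K) with mul_comm := hc.is_comm.comm }
  exact h (IsSimpleGroup.prime_card (α := K))

theorem not_prime_T : ¬ Nat.Prime 17971200 := by norm_num

theorem not_prime_Ru : ¬ Nat.Prime 145926144000 := by norm_num

theorem pCore_T (p : ℕ) [hp : Fact p.Prime] : pCore p RuTits.T = ⊥ := by
  have hsT : IsSimpleGroup RuTits.T := RuTits.isSimpleGroup_T
  have hf : Finite RuTits.T := Nat.finite_of_card_ne_zero (by rw [RuTits.card_T]; norm_num)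
  exact pCore_eq_bot_of_simple (not_comm_of_card (by rw [RuTits.card_T]; exact not_prime_T)) p

theorem crow_tits {p : ℕ} [hp : Fact p.Prime] (hi : ¬ p ∣ 8120) : CRow p RuOrder.H := by
  have hf : Finite RuOrder.H := Nat.finite_of_card_ne_zero (by rw [card_H]; norm_num)
  have hle : RuTits.T ≤ RuOrder.H := RuTits.T_le.trans (by intro x hx; exact hx.1)
  let M : Subgroup RuOrder.H := RuTits.T.subgroupOf RuOrder.H
  have hcM : Nat.card M = 17971200 := by
    rw [Nat.card_congr (Subgroup.subgroupOfEquivOfLe hle).toEquiv]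
    exact RuTits.card_T
  have hidx : M.index = 8120 := by
    have h := M.card_mul_index
    rw [hcM, card_H] at h
    omega
  intro C hC
  refine hC.eq_one_of_index (H := M) ?_ (by rw [hidx]; exact hi) ?_
  · intro h
    rw [h, Subgroup.index_top] at hidx
    omega
  · rw [← map_equiv_pCore (Subgroup.subgroupOfEquivOfLe hle).symm p, pCore_T, Subgroup.map_bot]

/-! ### The primes 2, 7 and 29 -/

section Iso

variable {G : Type*} [Group G] [Finite G] (h : Spor.IsoRu G)
include h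

omit [Finite G] in
theorem card_eq : Nat.card G = 145926144000 := by
  obtain ⟨e⟩ := h
  rw [Nat.card_congr (e.trans Cfsg.Agent.RuLat.Main.equiv).toEquiv, card_H]

omit [Finite G] in
theorem simple : IsSimpleGroup G := by
  obtain ⟨e⟩ := h
  have hs : IsSimpleGroup RuOrder.H := Cfsg.Agent.SporadicB.RuSimple.isSimpleGroup_H
  have hn : Nontrivial G := (e.trans Cfsg.Agent.RuLat.Main.equiv).toEquiv.nontrivial
  exact IsSimpleGroup.isSimpleGroup_of_surjective (e.trans Cfsg.Agent.RuLat.Main.equiv).symm.toMonoidHom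
    (e.trans Cfsg.Agent.RuLat.Main.equiv).symm.surjective

theorem pCore_bot (p : ℕ) [hp : Fact p.Prime] : pCore p G = ⊥ := by
  have hs := simple h
  exact pCore_eq_bot_of_simple (not_comm_of_card (by rw [card_eq h]; exact not_prime_Ru)) p

omit [Finite G] in
theorem ne_top_of_card {H : Subgroup G} {n : ℕ} (hH : Nat.card H = n) (hn : n < 145926144000) : H ≠ ⊤ := by
  intro ht
  rw [ht, Nat.card_congr Subgroup.topEquiv.toEquiv, card_eq h] at hH
  omega

/-- **p = 2** -/
theorem crow_two : CRow 2 G := by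
  have hp : Fact (Nat.Prime 2) := ⟨Nat.prime_two⟩
  have hO := pCore_bot h 2
  intro C hC c hc
  by_contra hc1
  obtain ⟨P⟩ : Nonempty (Sylow 2 G) := inferInstance
  obtain ⟨Z, z, -, -, -, hNZ, hCz, hTN, hTC, hover⟩ := Cfsg.Agent.H5.Ru.Row.exists_overgroups h P
  have h1 := hC.sylow_le_M hO hc hc1 P (ne_top_of_card h hNZ (by norm_num)) hTN
  have h2 := hC.sylow_le_M hO hc hc1 P (ne_top_of_card h hCz (by norm_num)) hTC
  have h3 : pCore 2 (M C (P : Subgroup G)) ≠ ⊥ := by
    intro h4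
    obtain ⟨d, hd, hd1, hdP⟩ := hC.exists_mem_sylow hc hc1 P
    exact hd1 (hC.eq_one_of_mem (hC.M_ne_top' hO hc hc1 P) h4 hd (W_le_M (mem_W hd hdP)))
  rcases hover _ (hC.P_le_M _) h3 with h4 | h4
  · have h5 := Subgroup.card_dvd_of_le (h2.trans h4)
    rw [hNZ, hCz] at h5
    norm_num at h5
  · have h5 := Subgroup.card_dvd_of_le (h1.trans h4)
    rw [hNZ, hCz] at h5
    norm_num at h5

/-- **p = 7** -/
theorem crow_seven : CRow 7 G := by
  have hp : Fact (Nat.Prime 7) := ⟨by norm_num⟩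
  intro C hC
  obtain ⟨P⟩ : Nonempty (Sylow 2 G) := inferInstance
  obtain ⟨Z, z, hZ8, hzZ, hz1, hNZ, hCz, hTN, hTC, -⟩ := Cfsg.Agent.H5.Ru.Row.exists_overgroups h P
  refine hC.eq_one_of_index (ne_top_of_card h hNZ (by norm_num)) ?_ ?_
  · intro h7
    have h1 := (normalizer (Z : Set G)).card_mul_index
    rw [hNZ, card_eq h] at h1
    omega
  · rw [eq_bot_iff]
    intro x hx
    rw [mem_bot]
    obtain ⟨k, hk⟩ := (IsPGroup.iff_orderOf.1 (pCore_isPGroup 7)) (⟨x, hx⟩ : pCore 7 ↥(normalizer (Z : Set G)))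
    rw [Subgroup.orderOf_mk] at hk
    have hzN : z ∈ normalizer (Z : Set G) := le_normalizer hzZ
    -- `x` centralises `z`
    have h1 : ((x : G) * z * (x : G)⁻¹ * z⁻¹) = 1 := by
      have h2 : (x : G) * z * (x : G)⁻¹ * z⁻¹ ∈ Z :=
        mul_mem ((mem_normalizer_iff.1 x.2 z).1 hzZ) (inv_mem hzZ)
      have h3 : x * (⟨z, hzN⟩ * x⁻¹ * ⟨z, hzN⟩⁻¹) ∈ pCore 7 ↥(normalizer (Z : Set G)) :=
        mul_mem hx ((inferInstance : (pCore 7 ↥(normalizer (Z : Set G))).Normal).conj_mem _ (inv_mem hx) _)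
      obtain ⟨l, hl⟩ := (IsPGroup.iff_orderOf.1 (pCore_isPGroup 7)) (⟨_, h3⟩ : pCore 7 ↥(normalizer (Z : Set G)))
      rw [Subgroup.orderOf_mk, ← Subgroup.orderOf_coe] at hl
      have e : ((x * (⟨z, hzN⟩ * x⁻¹ * ⟨z, hzN⟩⁻¹) : ↥(normalizer (Z : Set G))) : G) = (x : G) * z * (x : G)⁻¹ * z⁻¹ := by
        show (x : G) * (z * (x : G)⁻¹ * z⁻¹) = _
        group
      rw [e] at hl
      have h4 : orderOf ((x : G) * z * (x : G)⁻¹ * z⁻¹) ∣ Nat.card Z := Subgroup.orderOf_dvd_natCard Z h2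
      rw [hl, hZ8] at h4
      rw [← orderOf_eq_one_iff, hl]
      exact Nat.Coprime.eq_one_of_dvd (Nat.Coprime.pow_left l (by norm_num)) h4
    have h2 : (x : G) ∈ centralizer ({z} : Set G) := by
      rw [mem_centralizer_singleton_iff]
      rw [mul_inv_eq_one, mul_inv_eq_iff_eq_mul] at h1
      exact h1
    have h3 := Subgroup.orderOf_dvd_natCard _ h2
    rw [hCz, Subgroup.orderOf_coe, hk] at h3
    rw [← orderOf_eq_one_iff, hk]
    exact Nat.Coprime.eq_one_of_dvd (Nat.Coprime.pow_left k (by norm_num)) h3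

/-- two classes of involutions -/
theorem exists_two_classes : ∃ s t : G, s * s = 1 ∧ s ≠ 1 ∧ t * t = 1 ∧ t ≠ 1 ∧ ¬ IsConj s t := by
  obtain ⟨P⟩ : Nonempty (Sylow 2 G) := inferInstance
  obtain ⟨C, -⟩ := Cfsg.Agent.KFacts.Ru.exists_core h
  obtain ⟨Z, z, c⟩ := Cfsg.Agent.H5.Ru.Row.exists_ctx_of_core C P
  obtain ⟨d, hd, -⟩ := Cfsg.Agent.Ru127.Count.exists_D c.L c.hZ
  refine ⟨d, z, c.L.D_sq d hd, c.L.D_ne d hd, Cfsg.Agent.Ru127.Basic.sq_mem c.L c.hZ c.hz, c.hz1, fun hdz => ?_⟩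
  obtain ⟨g, hg⟩ := isConj_iff.1 hdz
  exact Cfsg.Agent.Ru127.Basic.notD_mem c.L c.hZ c.hz (hg ▸ c.L.D_conj d hd g)

/-- **p = 29** -/
theorem crow_29 : CRow 29 G := by
  have hp : Fact (Nat.Prime 29) := ⟨by norm_num⟩
  have h2 : Fact (Nat.Prime 2) := ⟨Nat.prime_two⟩
  have hO := pCore_bot h 29
  have hs := simple h
  intro C hC c hc
  by_contra hc1
  obtain ⟨s, t, hs2, hs1, ht2, ht1, hst⟩ := exists_two_classes h
  apply hst
  refine hC.isConj_of_cyclic hs hO (by rw [card_eq h]; norm_num) hc hc1 (fun d hd hd1 => ?_) hs2 hs1 ht2 ht1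
  rw [← Nat.not_even_iff_odd, even_iff_two_dvd]
  intro h3
  have hd29 : orderOf d = 29 := by
    obtain ⟨k, hk⟩ := hC.pel d hd
    have h4 := orderOf_dvd_natCard d
    rw [hk, card_eq h] at h4
    have h5 : k < 2 := by
      by_contra h6
      have h7 := (pow_dvd_pow 29 (by omega : 2 ≤ k)).trans h4
      norm_num at h7
    have h6 : k ≠ 0 := by
      rintro rfl
      rw [pow_zero, orderOf_eq_one_iff] at hk
      exact hd1 hk
    have h7 : k = 1 := by omega
    rw [hk, h7, pow_one]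
  obtain ⟨y, hy⟩ := exists_prime_orderOf_dvd_card' 2 h3
  exact Cfsg.Agent.H393.Iso.na_ru h d y hd29 (by rw [Subgroup.orderOf_coe, hy])
    (mem_centralizer_singleton_iff.1 y.2).symm

/-- **The row of `Ru`.** -/
theorem crow_ru (p : ℕ) [hp : Fact p.Prime] : CRow p G := by
  have h0 : Spor.IsoRu G := h
  obtain ⟨e⟩ := h
  by_cases hd : p ∣ Nat.card G
  · rw [card_eq h0] at hd
    have hd' : p ∣ 2 * 3 * 5 * 7 * 13 * 29 := by
      have h1 : p ∣ (2 * 3 * 5 * 7 * 13 * 29) ^ 14 := hd.trans (by norm_num)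
      exact hp.out.dvd_of_dvd_pow h1
    rcases (Nat.Prime.dvd_mul hp.out).1 hd' with h1 | h1
    swap
    · obtain rfl := (Nat.prime_dvd_prime_iff_eq hp.out (by norm_num)).1 h1
      exact crow_29 h0
    rcases (Nat.Prime.dvd_mul hp.out).1 h1 with h1 | h1
    swap
    · obtain rfl := (Nat.prime_dvd_prime_iff_eq hp.out (by norm_num)).1 h1
      exact (crow_tits (by norm_num)).of_equiv (e.trans Cfsg.Agent.RuLat.Main.equiv)
    rcases (Nat.Prime.dvd_mul hp.out).1 h1 with h1 | h1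
    swap
    · obtain rfl := (Nat.prime_dvd_prime_iff_eq hp.out (by norm_num)).1 h1
      exact crow_seven h0
    rcases (Nat.Prime.dvd_mul hp.out).1 h1 with h1 | h1
    swap
    · obtain rfl := (Nat.prime_dvd_prime_iff_eq hp.out (by norm_num)).1 h1
      exact crow_five.of_equiv (e.trans Cfsg.Agent.RuLat.Main.equiv)
    rcases (Nat.Prime.dvd_mul hp.out).1 h1 with h1 | h1
    · obtain rfl := (Nat.prime_dvd_prime_iff_eq hp.out (by norm_num)).1 h1
      exact crow_two h0
    · obtain rfl := (Nat.prime_dvd_prime_iff_eq hp.out (by norm_num)).1 h1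
      exact (crow_tits (by norm_num)).of_equiv (e.trans Cfsg.Agent.RuLat.Main.equiv)
  · intro C hC c hc
    obtain ⟨k, hk⟩ := hC.pel c hc
    rcases Nat.eq_zero_or_pos k with rfl | hk0
    · rwa [pow_zero, orderOf_eq_one_iff] at hk
    · exact absurd ((dvd_pow_self p hk0.ne').trans (hk ▸ orderOf_dvd_natCard c)) hd

end Iso

end Cfsg.Agent.H174.CC.Ru
end

-- part: H239/CRowTits
section
/-!
# The row of the Tits group in S3828 (helper239, task 2663 of helper162)
-/

set_option autoImplicit false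

namespace Cfsg.Agent.H239.CRowTits

open Subgroup Cfsg Cfsg.Agent.Lib.Cores Cfsg.Agent.H162.CCR

universe u

section Gen

variable {G : Type*} [Group G] [Finite G]

/-- the order of the normalizer of a subgroup of prime order -/
theorem card_normalizer_dvd {q : ℕ} (hq : q.Prime) {P : Subgroup G} (hP : Nat.card P = q) :
    Nat.card (normalizer (P : Set G)) ∣ Nat.card (centralizer (P : Set G)) * (q - 1) := by
  have : Fact q.Prime := ⟨hq⟩
  have hcyc : IsCyclic P := isCyclic_of_prime_card hP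
  have key : ((centralizer (P : Set G)).subgroupOf (normalizer (P : Set G))).index ∣ q - 1 := by
    have h1 := card_dvd_of_injective _ (QuotientGroup.kerLift_injective P.normalizerMonoidHom)
    rw [normalizerMonoidHom_ker, ← Subgroup.index, hcyc.card_mulAut, hP, Nat.totient_prime hq] at h1
    exact h1
  rw [← ((centralizer (P : Set G)).subgroupOf (normalizer (P : Set G))).card_mul_index]
  refine mul_dvd_mul ?_ key
  exact H235.TitsIdx.card_subgroupOf_dvd _ _

/-- `O_p(H)` as a subgroup of `G` -/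
theorem le_normalizer_pCore {p : ℕ} (H : Subgroup G) : H ≤ normalizer (((pCore p H).map H.subtype : Subgroup G) : Set G) := by
  intro h hh
  rw [Subgroup.mem_normalizer_iff]
  intro x
  constructor
  · rintro ⟨y, hy, rfl⟩
    exact ⟨⟨h, hh⟩ * y * ⟨h, hh⟩⁻¹, (inferInstance : (pCore p H).Normal).conj_mem y hy ⟨h, hh⟩, rfl⟩
  · rintro ⟨y, hy, e⟩
    refine ⟨⟨h, hh⟩⁻¹ * y * ⟨h, hh⟩, ?_, ?_⟩
    · have := (inferInstance : (pCore p H).Normal).conj_mem y hy ⟨h, hh⟩⁻¹
      rwa [inv_inv] at this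
    · change h⁻¹ * (y : G) * h = x
      rw [show (y : G) = h * x * h⁻¹ from e]
      group

/-- a `p`-subgroup of order prime to `q` ... : `O_p(H)` has order `p` -/
theorem card_pCore {p : ℕ} [hp : Fact p.Prime] {H : Subgroup G} (h1 : pCore p H ≠ ⊥) (h2 : ¬ p ^ 2 ∣ Nat.card H) :
    Nat.card ((pCore p H).map H.subtype : Subgroup G) = p := by
  rw [← Nat.card_congr ((pCore p H).equivMapOfInjective H.subtype H.subtype_injective).toEquiv]
  obtain ⟨n, hn⟩ := IsPGroup.iff_card.1 (pCore_isPGroup (G := H) p)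
  have h3 : n ≠ 0 := by
    rintro rfl
    rw [pow_zero] at hn
    exact h1 (Subgroup.card_eq_one.1 hn)
  have h4 : n < 2 := by
    by_contra h4
    exact h2 (((pow_dvd_pow p (not_lt.1 h4)).trans (dvd_of_eq hn.symm)).trans (card_subgroup_dvd_card _))
  have h5 : n = 1 := by omega
  rw [hn, h5, pow_one]

end Gen

section Row

variable {G : Type u} [Group G] [Finite G] [IsSimpleGroup G]

theorem row_two (hna : ¬ IsMulCommutative G) (h : Lie.IsoTits G) [Fact (Nat.Prime 2)] : CRow 2 G := by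
  intro C hC
  have hO : pCore 2 G = ⊥ := pCore_eq_bot_of_simple hna 2
  have hc : Nat.card G = 2 ^ 11 * 8775 := by
    rw [(CpAutTits.Row.out h).card]; norm_num
  obtain ⟨h1, ⟨A, hA⟩, ⟨B, hB⟩⟩ := H933.TitsBN.odd2_tits h
  have hiA : A.index = 2925 := by
    have := A.card_mul_index
    rw [hA, hc] at this
    omega
  have hiB : B.index = 1755 := by
    have := B.card_mul_index
    rw [hB, hc] at this
    omega
  have hAt : A ≠ ⊤ := by
    intro h2
    rw [h2, index_top] at hiA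
    omega
  have hBt : B ≠ ⊤ := by
    intro h2
    rw [h2, index_top] at hiB
    omega
  refine hC.eq_one_of_two_index hO (H := A) (K := B) ⟨hAt, fun K hK => ?_⟩ (by rw [hiA]; norm_num) hBt
    (by rw [hiB]; norm_num) (by rw [hA, hB]; norm_num)
  by_contra hKt
  have hKi : ¬ 2 ∣ K.index := by
    intro h2
    have h3 : K.index ∣ 2925 := by rw [← hiA]; exact index_dvd_of_le hK.le
    have h4 : 2 ∣ 2925 := h2.trans h3
    omega
  have hAK : 2 ^ 11 * 3 ∣ Nat.card K := by
    rw [← hA]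
    exact card_dvd_of_le hK.le
  rcases h1 K hKt hKi with h2 | h2
  · have h3 : Nat.card K ≤ Nat.card A := by
      rw [hA]
      exact Nat.le_of_dvd (by norm_num) h2
    exact hK.ne (eq_of_le_of_card_ge hK.le h3)
  · have h3 := hAK.trans h2
    omega

theorem exists_M (h : Lie.IsoTits G) : ∃ M : Subgroup G, Nat.card M = 5616 := by
  obtain ⟨e⟩ := h
  obtain ⟨M, hM⟩ := H184.StrTits.exists_M
  refine ⟨M.map e.symm.toMonoidHom, ?_⟩
  rw [← hM]
  exact (Nat.card_congr (M.equivMapOfInjective e.symm.toMonoidHom e.symm.injective).toEquiv).symm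

theorem row_thirteen (h : Lie.IsoTits G) [f13 : Fact (Nat.Prime 13)] : CRow 13 G := by
  intro C hC
  obtain ⟨M, hM⟩ := exists_M h
  have F := H235.TitsRow.facts h
  have hi : M.index = 3200 := by
    have := M.card_mul_index
    rw [hM, F.card] at this
    omega
  have hMt : M ≠ ⊤ := by
    intro h2
    rw [h2, index_top] at hi
    omega
  refine hC.eq_one_of_index hMt (by rw [hi]; norm_num) ?_
  by_contra hne
  have h2 := card_pCore hne (by rw [hM]; norm_num)
  obtain ⟨P, hP⟩ := H933.TitsSep.exists_thirteen F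
  -- the Sylow subgroups have order 13
  have hcP : Nat.card (P : Subgroup G) = 13 := by
    rw [P.card_eq_multiplicity, F.card]
    have : (17971200 : ℕ).factorization 13 = 1 := by
      rw [show (17971200 : ℕ) = 13 * 1382400 by norm_num, Nat.factorization_mul (by norm_num) (by norm_num)]
      simp only [Finsupp.add_apply]
      rw [Nat.Prime.factorization_self f13.out, Nat.factorization_eq_zero_of_not_dvd (by norm_num)]
    rw [this, pow_one]
  have hp1 : IsPGroup 13 ((pCore 13 M).map M.subtype : Subgroup G) := (pCore_isPGroup 13).map _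
  obtain ⟨Q, hQ⟩ := hp1.exists_le_sylow
  have hQe : ((pCore 13 M).map M.subtype : Subgroup G) = Q := by
    refine eq_of_le_of_card_ge hQ ?_
    rw [h2]
    exact ((Nat.card_congr (Sylow.equiv Q P).toEquiv).trans hcP).le
  have hN : Nat.card (normalizer ((Q : Subgroup G) : Set G)) = 78 := by
    rw [← hP]
    have e1 : Nat.card (Sylow 13 G) = (normalizer ((Q : Subgroup G) : Set G)).index := Q.card_eq_index_normalizer
    have e2 : Nat.card (Sylow 13 G) = (normalizer ((P : Subgroup G) : Set G)).index := P.card_eq_index_normalizer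
    have e3 := (normalizer ((Q : Subgroup G) : Set G)).card_mul_index
    have e4 := (normalizer ((P : Subgroup G) : Set G)).card_mul_index
    rw [← e1] at e3
    rw [← e2, ← e3] at e4
    exact (Nat.eq_of_mul_eq_mul_right Nat.card_pos e4).symm
  have h3 := card_dvd_of_le (le_normalizer_pCore (p := 13) M)
  rw [hQe, hN, hM] at h3
  revert h3
  norm_num

theorem row_five (h : Lie.IsoTits G) [f5 : Fact (Nat.Prime 5)] : CRow 5 G := by
  intro C hC c hc
  by_contra hc1
  have F := H235.TitsRow.facts h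
  obtain ⟨-, -, ⟨B, hB⟩⟩ := H933.TitsBN.odd2_tits h
  have hBt : B ≠ ⊤ := by
    intro h2
    rw [h2, card_top, F.card] at hB
    omega
  -- `c` has order 5
  have ho : orderOf c = 5 := by
    obtain ⟨k, hk⟩ := hC.pel c hc
    have h25 : c ^ 25 = 1 := by
      have h1 : 5 ^ k ∣ 17971200 := by rw [← hk, ← F.card]; exact orderOf_dvd_natCard c
      have hk2 : k ≤ 2 := by
        by_contra hk2
        have h3 : 5 ^ 3 ∣ 17971200 := (pow_dvd_pow 5 (not_le.1 hk2)).trans h1
        revert h3; norm_num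
      apply orderOf_dvd_iff_pow_eq_one.1
      rw [hk]
      exact pow_dvd_pow 5 hk2
    exact orderOf_eq_prime (F.exp c h25) hc1
  obtain ⟨y, hy⟩ := exists_prime_orderOf_dvd_card' (G := B) 5 (by rw [hB]; norm_num)
  have hy' : orderOf (y : G) = 5 := by rw [orderOf_coe, hy]
  obtain ⟨g, hg⟩ := isConj_iff.1 (F.one c y ho hy')
  have hyC : (y : G) ∈ C := by rw [← hg]; exact hC.conj g c hc
  have hy1 : (y : G) = 1 := by
    refine hC.eq_one_of_mem hBt ?_ hyC y.2
    by_contra hne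
    have h2 := card_pCore hne (by rw [hB]; norm_num)
    set P : Subgroup G := (pCore 5 B).map B.subtype with hP
    have h3 := card_normalizer_dvd f5.out h2
    obtain ⟨z, hz⟩ := exists_prime_orderOf_dvd_card' (G := P) 5 (by rw [h2])
    have h4 : Nat.card (centralizer (P : Set G)) ∣ 50 := by
      rw [← F.cent z (by rw [orderOf_coe, hz])]
      exact card_dvd_of_le (centralizer_le (by
        rintro _ rfl
        exact z.2))
    have h5 : 2 ^ 11 * 5 ∣ 50 * (5 - 1) := by
      rw [← hB]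
      exact ((card_dvd_of_le (le_normalizer_pCore (p := 5) B)).trans h3).trans (mul_dvd_mul h4 (dvd_refl _))
    revert h5
    norm_num
  rw [hy1, orderOf_one] at hy'
  omega

theorem row_three (hna : ¬ IsMulCommutative G) (h : Lie.IsoTits G) [f3 : Fact (Nat.Prime 3)] : CRow 3 G := by
  intro C hC c hc
  by_contra hc1
  have F := H235.TitsRow.facts h
  obtain ⟨D⟩ := F.dat
  have hi : ¬ 3 ∣ D.R.index := by
    have h1 := D.R.card_mul_index
    rw [D.card_R, F.card] at h1
    have h2 : D.R.index = 665600 := by omega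
    rw [h2]; norm_num
  obtain ⟨g, hg⟩ := hC.exists_conj_mem hi hc
  obtain ⟨k, hk⟩ := isConj_iff.1 (D.R_isConj hg (fun h1 => hc1 (by simpa using h1)))
  have ht : D.t ∈ C := by
    rw [← hk]
    exact hC.conj k _ (hC.conj g c hc)
  have f13 : Fact (Nat.Prime 13) := ⟨by norm_num⟩
  have hx13 : IsPGroup 13 (zpowers D.x) := IsPGroup.of_card (n := 1) (by
    rw [Nat.card_zpowers, orderOf_eq_prime D.x13 D.x1, pow_one])
  have hN : normalizer ((zpowers D.x : Subgroup G) : Set G) ≠ ⊤ :=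
    normalizer_ne_top (pCore_eq_bot_of_simple hna 13) hx13 (by
      rw [Ne, zpowers_eq_bot]
      exact D.x1)
  have htN : D.t ∈ normalizer ((zpowers D.x : Subgroup G) : Set G) := by
    refine mem_normalizer_fintype fun y hy => ?_
    obtain ⟨n, rfl⟩ := mem_zpowers_iff.1 hy
    rw [← conj_zpow, D.txt]
    exact zpow_mem (pow_mem (mem_zpowers _) _) _
  have hxN : D.x ∈ normalizer ((zpowers D.x : Subgroup G) : Set G) := le_normalizer (mem_zpowers _)
  have h1 := hC.loc _ hN D.t ht htN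
  set N := normalizer ((zpowers D.x : Subgroup G) : Set G) with hNdef
  have h2 : (⟨D.t, htN⟩ : N) * ⟨D.x, hxN⟩ * (⟨D.t, htN⟩ : N)⁻¹ * (⟨D.x, hxN⟩ : N)⁻¹ ∈ pCore 3 N := by
    have e : (⟨D.t, htN⟩ : N) * ⟨D.x, hxN⟩ * (⟨D.t, htN⟩ : N)⁻¹ * (⟨D.x, hxN⟩ : N)⁻¹ =
        (⟨D.t, htN⟩ : N) * (⟨D.x, hxN⟩ * (⟨D.t, htN⟩ : N)⁻¹ * (⟨D.x, hxN⟩ : N)⁻¹) := by group
    rw [e]
    exact mul_mem h1 ((inferInstance : (pCore 3 N).Normal).conj_mem _ (inv_mem h1) _)
  obtain ⟨j, hj⟩ := (pCore_isPGroup (G := N) 3) ⟨_, h2⟩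
  have h3 : (D.x ^ 2) ^ 3 ^ j = 1 := by
    have e1 := congrArg (fun z : pCore 3 N => ((z : N) : G)) hj
    change (D.t * D.x * D.t⁻¹ * D.x⁻¹) ^ 3 ^ j = 1 at e1
    rw [D.txt] at e1
    have e2 : D.x ^ 3 * D.x⁻¹ = D.x ^ 2 := by group
    rwa [e2] at e1
  have h4 : (D.x ^ 2) ^ 13 = 1 := by rw [← pow_mul, mul_comm, pow_mul, D.x13, one_pow]
  have h5 : D.x ^ 2 = 1 := by
    have h6 : orderOf (D.x ^ 2) ∣ Nat.gcd (3 ^ j) 13 :=
      Nat.dvd_gcd (orderOf_dvd_of_pow_eq_one h3) (orderOf_dvd_of_pow_eq_one h4)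
    have h7 : Nat.gcd (3 ^ j) 13 = 1 := Nat.Coprime.pow_left j (by norm_num)
    rw [h7, Nat.dvd_one, orderOf_eq_one_iff] at h6
    exact h6
  apply D.x1
  calc D.x = D.x ^ 13 * ((D.x ^ 2) ^ 6)⁻¹ := by group
    _ = 1 := by rw [D.x13, h5]; simp

/-- **The row of the Tits group in S3828.** -/
theorem crow_tits {p : ℕ} [hp : Fact p.Prime] (h : Lie.IsoTits G) : CRow p G := by
  have hna : ¬ IsMulCommutative G := by
    intro hm
    have h1 := CpAutTits.Row.center_bot (CpAutTits.Row.out h)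
    have h2 : center G = ⊤ := eq_top_iff.2 fun x _ => mem_center_iff.2 fun g => hm.is_comm.comm g x
    rw [h1] at h2
    exact bot_ne_top h2
  by_cases h2 : p = 2
  · subst h2; exact row_two hna h
  by_cases h3 : p = 3
  · subst h3; exact row_three hna h
  by_cases h5 : p = 5
  · subst h5; exact row_five h
  by_cases h13 : p = 13
  · subst h13; exact row_thirteen h
  intro C hC c hc
  obtain ⟨k, hk⟩ := hC.pel c hc
  have hd : ¬ p ∣ Nat.card G := by
    intro hd
    rw [(CpAutTits.Row.out h).card] at hd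
    rcases (Nat.Prime.dvd_mul hp.out).1 hd with hd | hd
    · rcases (Nat.Prime.dvd_mul hp.out).1 hd with hd | hd
      · rcases (Nat.Prime.dvd_mul hp.out).1 hd with hd | hd
        · exact h2 ((Nat.prime_dvd_prime_iff_eq hp.out (by norm_num)).1 (hp.out.dvd_of_dvd_pow hd))
        · exact h3 ((Nat.prime_dvd_prime_iff_eq hp.out (by norm_num)).1 (hp.out.dvd_of_dvd_pow hd))
      · exact h5 ((Nat.prime_dvd_prime_iff_eq hp.out (by norm_num)).1 (hp.out.dvd_of_dvd_pow hd))
    · exact h13 ((Nat.prime_dvd_prime_iff_eq hp.out (by norm_num)).1 hd)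
  rcases Nat.eq_zero_or_pos k with hk0 | hk0
  · rw [hk0, pow_zero, orderOf_eq_one_iff] at hk
    exact hk
  · exfalso
    apply hd
    exact ((dvd_pow_self p hk0.ne').trans (dvd_of_eq hk.symm)).trans (orderOf_dvd_natCard c)

end Row

end Cfsg.Agent.H239.CRowTits
end

private theorem dce_1d3700d08bea : _root_.True := by
  try have : _root_.True := by simp only [_root_.Cfsg.Agent.H174.CC.Ru.cw.eq_1]
  exact _root_.True.intro
end

-- part: H230/CC/Tool
section
set_option linter.all false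
open scoped Cfsg.Agent.FastGrp

/-!
# Rows of S3828 from simple subgroups (helper230)
-/

set_option autoImplicit false

namespace Cfsg.Agent.H230.CC

open Subgroup Cfsg Cfsg.Agent.H162.CCR

variable {G L : Type*} [Group G] [Group L] {p : ℕ}

/-- nothing to do if `p` does not divide the order -/
theorem crow_of_not_dvd (hG : ¬ p ∣ Nat.card G) : CRow p G := by
  intro C hC c hc
  obtain ⟨k, hk⟩ := hC.pel c hc
  rcases Nat.eq_zero_or_pos k with h | h
  · rw [h, pow_zero, orderOf_eq_one_iff] at hk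
    exact hk
  · exact absurd ((dvd_pow_self p h.ne').trans (hk ▸ orderOf_dvd_natCard c)) hG

/-- a group whose order is divisible by two primes is not commutative if it is simple -/
theorem not_comm_of_card [IsSimpleGroup L] {m a b : ℕ} (hL : Nat.card L = m) (hm : m ≠ 0) (ha : a.Prime) (hb : b.Prime)
    (hab : a ≠ b) (ham : a ∣ m) (hbm : b ∣ m) : ¬ IsMulCommutative L := by
  intro hc
  have : Finite L := Nat.finite_of_card_ne_zero (by rw [hL]; exact hm)
  let _ : CommGroup L := { (inferInstance : Group L) with mul_comm := hc.is_comm.comm }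
  have hp : (Nat.card L).Prime := IsSimpleGroup.prime_card
  rw [hL] at hp
  have h1 := (Nat.prime_dvd_prime_iff_eq ha hp).1 ham
  have h2 := (Nat.prime_dvd_prime_iff_eq hb hp).1 hbm
  exact hab (h1.trans h2.symm)

/-- simple subgroups of index prime to `p` -/
theorem crow_of_sub [Finite G] [hp : Fact p.Prime] (f : L →* G) (hf : Function.Injective f) (hs : IsSimpleGroup L)
    {m n a b : ℕ} (hL : Nat.card L = m) (hG : Nat.card G = n) (hm : m ≠ 0) (ha : a.Prime) (hb : b.Prime)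
    (hab : a ≠ b) (ham : a ∣ m) (hbm : b ∣ m) (h1 : m < n) (h2 : ¬ p * m ∣ n) : CRow p G := by
  intro C hC
  have hna := not_comm_of_card hL hm ha hb hab ham hbm
  let e : L ≃* f.range := MonoidHom.ofInjective hf
  have hcard : Nat.card f.range = m := by rw [← Nat.card_congr e.toEquiv, hL]
  have hs' : IsSimpleGroup f.range := (MulEquiv.isSimpleGroup_congr e).1 hs
  have hna' : ¬ IsMulCommutative f.range := not_comm_of_card hcard hm ha hb hab ham hbm
  refine hC.eq_one_of_index (H := f.range) ?_ ?_ (pCore_eq_bot_of_simple hna' p)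
  · intro h
    rw [h, Subgroup.card_top, hG] at hcard
    omega
  · intro h
    apply h2
    have h3 := Subgroup.card_mul_index f.range
    rw [hcard, hG] at h3
    rw [← h3, mul_comm]
    exact Nat.mul_dvd_mul_left m h

theorem pCore_bot_of_simple' [Finite G] [hs : IsSimpleGroup G] {n a b : ℕ} (hG : Nat.card G = n) (hn : n ≠ 0)
    (ha : a.Prime) (hb : b.Prime) (hab : a ≠ b) (han : a ∣ n) (hbn : b ∣ n) (q : ℕ) [hq : Fact q.Prime] :
    pCore q G = ⊥ :=
  pCore_eq_bot_of_simple (not_comm_of_card hG hn ha hb hab han hbn) q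

end Cfsg.Agent.H230.CC
end
end
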